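import Groth.Agent.Ega2.AmpleTransfer
import Groth.Prelude.Def_LCI2

/-!
# Relative ampleness: locality on the base, restriction to smaller opens, base change
-/

set_option autoImplicit false
universe u
open CategoryTheory CategoryTheory.Limits AlgebraicGeometry

namespace Groth.Agent.Ega2.RelAmp

open Groth.Agent.Ega2.ExtCoeff Groth.Agent.Ega2.Nv Groth.Agent.Ega2.Ample Groth.Agent.Fdesc.LocGen

variable {X X' Y Y' Z S : Scheme.{u}}

theorem isRelAmple_iff {f : X ⟶ S} {L : X.Modules} :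
    RelAmple.IsRelAmple f L ↔ QuasiCompact f ∧ ∀ V : S.affineOpens, AmpleOn L (f ⁻¹ᵁ V.1) := by
  unfold RelAmple.IsRelAmple
  simp only [isAmple_restrict_ι_iff]

/-- Ampleness of `L` over affine opens of the base is local on the base. -/
theorem ampleOn_preimage_of_cover {f : X ⟶ S} {L : X.Modules} {ι : Type*} (W : ι → S.affineOpens)
    (hW : (⨆ i, (W i : S.Opens)) = ⊤) (h : ∀ i, AmpleOn L (f ⁻¹ᵁ (W i : S.Opens)))
    (V : S.affineOpens) : AmpleOn L (f ⁻¹ᵁ (V : S.Opens)) := by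
  induction V using of_affine_open_cover W hW with
  | basicOpen V a hV =>
    have hle : f ⁻¹ᵁ (S.basicOpen a) ≤ f ⁻¹ᵁ (V : S.Opens) := f.preimage_mono (S.basicOpen_le a)
    have heq : f ⁻¹ᵁ (S.basicOpen a) = f ⁻¹ᵁ (V : S.Opens) ⊓
        nv (Coh.structureModule X) (ofFun (show Γ(X, f ⁻¹ᵁ (V : S.Opens)) from f.app _ a)) := by
      rw [nv_ofFun, Scheme.preimage_basicOpen]
      exact (inf_eq_right.2 (X.basicOpen_le _)).symm
    refine hV.mono hle ?_
    change IsCompact ((f ⁻¹ᵁ (S.basicOpen a) : X.Opens) : Set X)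
    rw [heq]
    exact isCompact_inf_nv (locGen_structureModule _) _ hV.isCompact le_rfl
  | openCover V s hs h1 =>
    refine ampleOn_of_basicOpen_cover (ι := s)
      (fun a => (show Γ(X, f ⁻¹ᵁ (V : S.Opens)) from f.app _ a.1)) ?_ ?_
    · have h2 := (V.2.self_le_iSup_basicOpen_iff (s := (s : Set Γ(S, V)))).2 hs
      have h3 := f.preimage_mono h2
      refine h3.trans ?_
      intro x hx
      obtain ⟨i, hi⟩ := TopologicalSpace.Opens.mem_iSup.1 (show f x ∈ _ from hx)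
      refine TopologicalSpace.Opens.mem_iSup.2 ⟨i, ?_⟩
      rw [← Scheme.preimage_basicOpen]
      exact hi
    · intro a
      dsimp only
      rw [← Scheme.preimage_basicOpen]
      exact h1 a
  | hU i => exact h i

theorem isRelAmple_of_cover {f : X ⟶ S} {L : X.Modules} {ι : Type*} (W : ι → S.affineOpens)
    (hW : (⨆ i, (W i : S.Opens)) = ⊤) (h : ∀ i, AmpleOn L (f ⁻¹ᵁ (W i : S.Opens))) :
    RelAmple.IsRelAmple f L := by
  rw [isRelAmple_iff]
  have key := ampleOn_preimage_of_cover W hW h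
  exact ⟨quasiCompact_iff_forall_isAffineOpen.2 fun V hV => (key ⟨V, hV⟩).isCompact, key⟩

theorem isRelAmple_of_forall_exists {f : X ⟶ S} {L : X.Modules}
    (h : ∀ x : S, ∃ V : S.Opens, IsAffineOpen V ∧ x ∈ V ∧ AmpleOn L (f ⁻¹ᵁ V)) :
    RelAmple.IsRelAmple f L := by
  choose V hVa hxV hV using h
  refine isRelAmple_of_cover (fun x => ⟨V x, hVa x⟩) ?_ hV
  rw [eq_top_iff]
  intro x _
  exact TopologicalSpace.Opens.mem_iSup.2 ⟨x, hxV x⟩

theorem isRelAmple_iff_isAmple [IsAffine S] {f : X ⟶ S} {L : X.Modules} :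
    RelAmple.IsRelAmple f L ↔ CohB1.IsAmple L := by
  rw [isAmple_iff_ampleOn_top]
  constructor
  · intro h
    exact (isRelAmple_iff.1 h).2 ⟨⊤, isAffineOpen_top S⟩
  · intro h
    exact isRelAmple_of_forall_exists (fun x => ⟨⊤, isAffineOpen_top S, trivial, h⟩)

/-- Pulling back ampleness along a morphism which is affine over the relevant opens. -/
theorem ampleOn_of_pullMap {φ : X' ⟶ X} {L : X.Modules} {L' : X'.Modules} (P : PullMap φ L L')
    {U : X.Opens} (h : AmpleOn L U) {U' : X'.Opens} (hU' : U' ≤ φ ⁻¹ᵁ U) (hc : IsCompact (U' : Set X'))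
    (haff : ∀ A : X.Opens, A ≤ U → IsAffineOpen A → IsAffineOpen (U' ⊓ φ ⁻¹ᵁ A)) :
    AmpleOn L' U' := by
  refine ⟨?_, hc, ?_⟩
  · intro x hx
    obtain ⟨V, e, hxV, _, he⟩ := h.locGen (φ x) (hU' hx)
    exact ⟨φ ⁻¹ᵁ V ⊓ U', res L' inf_le_left (P.toFun V e), ⟨hxV, hx⟩, inf_le_right,
      (P.isGen_toFun V e he).res _⟩
  · intro x hx
    obtain ⟨n, hn, s, hxs, hs⟩ := h.exists_nv (φ x) (hU' hx)
    obtain ⟨s', hs'⟩ := P.exists_nv_eq h.locGen s
    refine ⟨n, hn, res _ hU' s', ?_, ?_⟩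
    · rw [nv_res, hs']
      exact ⟨hx, hxs⟩
    · rw [nv_res, hs']
      exact haff _ (nv_le _ s) hs

end Groth.Agent.Ega2.RelAmp
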