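import Mathlib.AlgebraicGeometry.Morphisms.Smooth
import Mathlib.AlgebraicGeometry.Morphisms.UniversallyOpen
import Mathlib.AlgebraicGeometry.Morphisms.Etale
import Groth.Agent.Smoothlim.SmoothLocusBC
import Groth.Agent.UnramA.SmoothFibreDim
import Groth.Agent.Picfga.CurveRelDim

/-!
# Relative dimension of a smooth morphism over an irreducible base from the generic fibre
-/

set_option autoImplicit false
universe u

open CategoryTheory CategoryTheory.Limits AlgebraicGeometry

namespace Groth.Agent.Ega2.GeoRelDim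

theorem relDim_of_isPullback {X S T X' : Scheme.{u}} {f : X ⟶ S} {n : ℕ} {g : T ⟶ S} {g' : X' ⟶ X} {f' : X' ⟶ T}
    (H : IsPullback g' f' f g) (hn : SmoothOfRelativeDimension n f) : SmoothOfRelativeDimension n f' := by
  have := smoothOfRelativeDimension_isStableUnderBaseChange.{u} n
  exact MorphismProperty.of_isPullback (P := @SmoothOfRelativeDimension n) H hn

/-- The relative dimension of a smooth morphism with nonempty source is unique. -/
theorem relDim_unique {X S : Scheme.{u}} (f : X ⟶ S) (n m : ℕ) (hn : SmoothOfRelativeDimension n f)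
    (hm : SmoothOfRelativeDimension m f) (x : X) : n = m := by
  have h1 : SmoothOfRelativeDimension n (f.fiberToSpecResidueField (f x)) :=
    relDim_of_isPullback (IsPullback.of_hasPullback _ _) hn
  have h2 : SmoothOfRelativeDimension m (f.fiberToSpecResidueField (f x)) :=
    relDim_of_isPullback (IsPullback.of_hasPullback _ _) hm
  have e1 := @UnramA.SmoothFibreDim.localDim_eq _ _ n _ (f.fiberToSpecResidueField (f x)) h1 (f.asFiber x)
  have e2 := @UnramA.SmoothFibreDim.localDim_eq _ _ m _ (f.fiberToSpecResidueField (f x)) h2 (f.asFiber x)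
  rw [e1] at e2
  exact_mod_cast e2

/-- Restricting to the source of a standard smooth chart. -/
theorem smoothOfRelativeDimension_ι_comp {X S : Scheme.{u}} (f : X ⟶ S) (m : ℕ) (U : S.Opens)
    (hU : IsAffineOpen U) (V : X.Opens) (hV : IsAffineOpen V) (e : V ≤ f ⁻¹ᵁ U)
    (h : (f.appLE U V e).hom.IsStandardSmoothOfRelativeDimension m) :
    SmoothOfRelativeDimension m (V.ι ≫ f) := by
  have : IsAffine V := hV
  have e' : ⊤ ≤ V.ι ⁻¹ᵁ V := V.ι_preimage_self.ge
  have e'' : ⊤ ≤ (V.ι ≫ f) ⁻¹ᵁ U := e'.trans (V.ι.preimage_mono e)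
  refine ⟨fun x ↦ ⟨U, hU, ⊤, isAffineOpen_top _, trivial, e'', ?_⟩⟩
  · have h1 : (V.ι ≫ f).appLE U ⊤ e'' = f.appLE U V e ≫ V.ι.appLE V ⊤ e' :=
      (Scheme.Hom.appLE_comp_appLE _ _ _ _ _ e _).symm
    rw [h1]
    have h2 : IsIso (V.ι.appLE V ⊤ e') := by
      rw [Scheme.Opens.ι_appLE]
      let l : (V.ι ''ᵁ ⊤) ⟶ V := homOfLE (Set.image_subset_iff.mpr e')
      have : IsIso l := ⟨homOfLE V.ι_image_top.ge, rfl, rfl⟩
      exact inferInstanceAs (IsIso (X.presheaf.map l.op))
    have h3 : RingHom.IsStandardSmoothOfRelativeDimension 0 (V.ι.appLE V ⊤ e').hom :=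
      RingHom.IsStandardSmoothOfRelativeDimension.equiv
        (asIso (V.ι.appLE V ⊤ e')).commRingCatIsoToRingEquiv
    have h4 := h3.comp h
    rw [zero_add] at h4
    exact h4

/-- A smooth morphism to an irreducible scheme has relative dimension `n` if this is so after a base
change hitting the generic point. -/
theorem smoothOfRelativeDimension_of_generic {X S X' S' : Scheme.{u}} [IrreducibleSpace S] (n : ℕ)
    (f : X ⟶ S) [Smooth f] (g : S' ⟶ S) (g' : X' ⟶ X) (f' : X' ⟶ S') (H : IsPullback g' f' f g)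
    (hf' : SmoothOfRelativeDimension n f') (s' : S') (hs' : g s' = genericPoint S) :
    SmoothOfRelativeDimension n f := by
  refine ⟨fun x ↦ ?_⟩
  obtain ⟨U, hU, V, hV, hx, e, h⟩ := Smooth.exists_isStandardSmooth f x
  obtain ⟨m, hm⟩ := Picfga.CurveRelDim.exists_relativeDimension h
  have hV' := smoothOfRelativeDimension_ι_comp f m U hU V hV e hm
  -- a point of `V` over the generic point
  have hopen : IsOpen (f '' (V : Set X)) := f.isOpenMap _ V.2
  obtain ⟨v, hv, hfv⟩ : genericPoint S ∈ f '' (V : Set X) :=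
    ((genericPoint_spec S).mem_open_set_iff hopen).mpr (by
      rw [Set.univ_inter]
      exact ⟨f x, x, hx, rfl⟩)
  -- a point of the base change
  have h5 : IsPullback (pullback.fst (V.ι ≫ f) g) (pullback.snd (V.ι ≫ f) g) (V.ι ≫ f) g :=
    IsPullback.of_hasPullback _ _
  obtain ⟨z, hz1, hz2⟩ := Scheme.Pullback.exists_preimage_pullback (f := V.ι ≫ f) (g := g)
    (⟨v, hv⟩ : V) s' (by rw [hs']; exact hfv)
  have h6 : SmoothOfRelativeDimension m (pullback.snd (V.ι ≫ f) g) := relDim_of_isPullback h5 hV'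
  have h7 : SmoothOfRelativeDimension n (pullback.snd (V.ι ≫ f) g) := by
    let l : pullback (V.ι ≫ f) g ⟶ X' := H.lift (pullback.fst (V.ι ≫ f) g ≫ V.ι) (pullback.snd _ _) (by
      rw [Category.assoc, pullback.condition])
    have hl : l ≫ f' = pullback.snd (V.ι ≫ f) g := H.lift_snd _ _ _
    have hl' : l ≫ g' = pullback.fst (V.ι ≫ f) g ≫ V.ι := H.lift_fst _ _ _
    have h8 : IsPullback (pullback.fst (V.ι ≫ f) g) l V.ι g' := by
      refine IsPullback.of_bot (v₂₁ := f') (v₂₂ := f) (h₃₁ := g) ?_ hl'.symm H.flip.flip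
      rw [hl]
      exact h5
    have h9 : IsOpenImmersion l := MorphismProperty.of_isPullback h8 inferInstance
    rw [← hl]
    have := smoothOfRelativeDimension_comp (n := 0) (m := n) l f'
    simpa using this
  obtain rfl := relDim_unique _ n m h7 h6 z
  exact ⟨U, hU, V, hV, hx, e, hm⟩

end Groth.Agent.Ega2.GeoRelDim
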