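import Groth.Agent.Ega2.Ample

/-!
# Transfer of sections along morphisms; comparison of `AmpleOn` with `CohB1.IsAmple` of restrictions
-/

set_option autoImplicit false
universe u
open CategoryTheory CategoryTheory.Limits AlgebraicGeometry

namespace Groth.Agent.Ega2.Ample

open Groth.Agent.Ega2.ExtCoeff Groth.Agent.Ega2.Nv Groth.Agent.Fdesc.LocGen

variable {X X' : Scheme.{u}}

/-- The restriction of sections along an open immersion. -/
noncomputable def restrictSec (j : X' ⟶ X) [IsOpenImmersion j] {L : X.Modules} {V : X.Opens} (e : Γ(L, V)) :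
    Γ(L.restrict j, j ⁻¹ᵁ V) :=
  toRestrict j (res L (j.image_preimage_le V) e)

/-- A map of sections `Γ(L, V) → Γ(L', φ⁻¹V)` which behaves like the pullback of sections. -/
structure PullMap (φ : X' ⟶ X) (L : X.Modules) (L' : X'.Modules) where
  toFun : ∀ V : X.Opens, Γ(L, V) → Γ(L', φ ⁻¹ᵁ V)
  isGen_toFun : ∀ (V : X.Opens) (e : Γ(L, V)), IsGen e → IsGen (toFun V e)
  res_toFun : ∀ (V V' : X.Opens) (h : V' ≤ V) (e : Γ(L, V)),
    res L' (φ.preimage_mono h) (toFun V e) = toFun V' (res L h e)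
  toFun_smul : ∀ (V : X.Opens) (a : Γ(X, V)) (e : Γ(L, V)),
    toFun V (a • e) = (φ.app V a : Γ(X', φ ⁻¹ᵁ V)) • toFun V e

/-- Pullback of sections. -/
noncomputable def pullMap (φ : X' ⟶ X) (L : X.Modules) :
    PullMap φ L ((Scheme.Modules.pullback φ).obj L) where
  toFun _ e := pullSec φ e
  isGen_toFun _ _ he := he.pullSec φ
  res_toFun _ _ h e := res_pullSec φ h e
  toFun_smul _ a e := pullSec_smul φ a e

theorem appIso_hom_res (j : X' ⟶ X) [IsOpenImmersion j] (V : X.Opens) (a : Γ(X, V)) :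
    (j.appIso (j ⁻¹ᵁ V)).hom (ores (j.image_preimage_le V) a) = j.app V a := by
  have h : X.presheaf.map (homOfLE (j.image_preimage_le V)).op ≫ (j.appIso (j ⁻¹ᵁ V)).hom = j.app V := by
    rw [Scheme.Hom.appIso_hom', Scheme.Hom.map_appLE, Scheme.Hom.appLE_eq_app]
  exact congr($h a)

/-- Restriction of sections. -/
noncomputable def restrictMap (j : X' ⟶ X) [IsOpenImmersion j] (L : X.Modules) :
    PullMap j L (L.restrict j) where
  toFun _ e := restrictSec j e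
  isGen_toFun _ _ he := (isGen_toRestrict_iff j _).2 (he.res _)
  res_toFun V V' h e := by
    unfold restrictSec
    rw [res_toRestrict, res_res, res_res]
  toFun_smul V a e := by
    unfold restrictSec
    rw [res_smul, toRestrict_smul, appIso_hom_res]

theorem app_ores (φ : X' ⟶ X) {V V' : X.Opens} (h : V' ≤ V) (a : Γ(X, V)) :
    (φ.app V' (ores h a) : Γ(X', φ ⁻¹ᵁ V')) = ores (φ.preimage_mono h) (φ.app V a : Γ(X', φ ⁻¹ᵁ V)) :=
  congr($(φ.naturality (homOfLE h).op) a)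

section

variable {φ : X' ⟶ X} {L : X.Modules} {L' : X'.Modules}

theorem PullMap.rel (P : PullMap φ L L') {V W : X.Opens} {e : Γ(L, V)} {e' : Γ(L, W)} {g : Γ(X, V ⊓ W)}
    (hg : res L (inf_le_left : V ⊓ W ≤ V) e = g • res L (inf_le_right : V ⊓ W ≤ W) e') :
    res L' (inf_le_left : φ ⁻¹ᵁ V ⊓ φ ⁻¹ᵁ W ≤ φ ⁻¹ᵁ V) (P.toFun _ e) =
      (show Γ(X', φ ⁻¹ᵁ V ⊓ φ ⁻¹ᵁ W) from φ.app _ g) •
        res L' (inf_le_right : φ ⁻¹ᵁ V ⊓ φ ⁻¹ᵁ W ≤ φ ⁻¹ᵁ W) (P.toFun _ e') := by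
  have e1 := P.res_toFun _ _ (inf_le_left : V ⊓ W ≤ V) e
  have e2 := P.res_toFun _ _ (inf_le_right : V ⊓ W ≤ W) e'
  have e3 := congrArg (P.toFun _) hg
  rw [P.toFun_smul, ← e1, ← e2] at e3
  exact e3

/-- Pull back a section of `L^n` over `U` along `φ`: the nonvanishing locus is the preimage. -/
theorem PullMap.exists_nv_eq (P : PullMap φ L L')
    {U : X.Opens} (hL : LocGen L U) {n : ℕ} (s : Γ(CohB1.tensorPow L n, U)) :
    ∃ s' : Γ(CohB1.tensorPow L' n, φ ⁻¹ᵁ U), nv _ s' = φ ⁻¹ᵁ (nv _ s) := by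
  choose W e hxW hWU he using hL
  let V : U → X.Opens := fun x => W x.1 x.2
  let e' : ∀ x : U, Γ(L, V x) := fun x => e x.1 x.2
  have hV : ∀ x, V x ≤ U := fun x => hWU x.1 x.2
  have he' : ∀ x, IsGen (e' x) := fun x => he x.1 x.2
  have hcov : U ≤ ⨆ x, V x := fun x hx => TopologicalSpace.Opens.mem_iSup.2 ⟨⟨x, hx⟩, hxW x hx⟩
  have h1 : ∀ x, ∃ a : Γ(X, V x), res _ (hV x) s = a • pow (e' x) n := fun x =>
    ((he' x).pow n).exists_eq _
  choose a ha using h1
  have h2 : ∀ x y, ∃ g : Γ(X, V x ⊓ V y), res L (inf_le_left : V x ⊓ V y ≤ V x) (e' x) =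
      g • res L (inf_le_right : V x ⊓ V y ≤ V y) (e' y) := fun x y =>
    ((he' y).res inf_le_right).exists_eq _
  choose g hg using h2
  have hcov' : φ ⁻¹ᵁ U ≤ ⨆ x, φ ⁻¹ᵁ (V x) := by
    intro x hx
    obtain ⟨i, hi⟩ := TopologicalSpace.Opens.mem_iSup.1 (hcov hx)
    exact TopologicalSpace.Opens.mem_iSup.2 ⟨i, hi⟩
  obtain ⟨s', hs'⟩ := exists_of_coef (CohB1.tensorPow L' n) (fun x => φ ⁻¹ᵁ (V x))
    (fun x => φ.preimage_mono (hV x)) hcov' (fun x => pow (P.toFun _ (e' x)) n)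
    (fun x => (φ.app (V x) (a x) : Γ(X', φ ⁻¹ᵁ (V x))))
    (fun x y => (show Γ(X', φ ⁻¹ᵁ V x ⊓ φ ⁻¹ᵁ V y) from φ.app _ (g x y)) ^ n)
    (fun x y => by rw [res_pow, res_pow, P.rel (hg x y), smul_pow])
    (fun x y => by
      have h3 := coef_rel s (hV x) (hV y) ((he' y).pow n) _ _ (ha x) (ha y) (g x y ^ n)
        (by rw [res_pow, res_pow, hg, smul_pow])
      have h4 := congrArg (φ.app _) h3
      rw [map_mul, map_pow, app_ores, app_ores] at h4
      exact h4)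
  refine ⟨s', ?_⟩
  rw [nv_eq_iSup _ _ (fun x => φ.preimage_mono (hV x)) hcov' _
      (fun x => (P.isGen_toFun _ _ (he' x)).pow n) _ s' hs',
    nv_eq_iSup _ V hV hcov _ (fun x => (he' x).pow n) a s ha]
  ext x
  simp only [TopologicalSpace.Opens.coe_iSup, Set.mem_iUnion]
  constructor
  · rintro ⟨i, hi⟩
    rw [← Scheme.preimage_basicOpen] at hi
    exact TopologicalSpace.Opens.mem_iSup.2 ⟨i, hi⟩
  · intro h
    obtain ⟨i, hi⟩ := TopologicalSpace.Opens.mem_iSup.1 h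
    refine ⟨i, ?_⟩
    rw [← Scheme.preimage_basicOpen]
    exact hi

theorem preimage_iSup_basicOpen (φ : X' ⟶ X) {ι : Type*} {V : ι → X.Opens} (a : ∀ i, Γ(X, V i)) :
    φ ⁻¹ᵁ (⨆ i, X.basicOpen (a i)) =
      ⨆ i, X'.basicOpen (show Γ(X', φ ⁻¹ᵁ (V i)) from φ.app (V i) (a i)) := by
  ext x
  simp only [TopologicalSpace.Opens.coe_iSup, Set.mem_iUnion]
  constructor
  · intro h
    obtain ⟨i, hi⟩ := TopologicalSpace.Opens.mem_iSup.1 h
    refine ⟨i, ?_⟩
    change x ∈ X'.basicOpen (φ.app (V i) (a i))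
    rw [← Scheme.preimage_basicOpen]
    exact hi
  · rintro ⟨i, hi⟩
    change x ∈ X'.basicOpen (φ.app (V i) (a i)) at hi
    rw [← Scheme.preimage_basicOpen] at hi
    exact TopologicalSpace.Opens.mem_iSup.2 ⟨i, hi⟩

theorem app_bijective (φ : X' ⟶ X) [IsOpenImmersion φ] {V : X.Opens} (hV : V ≤ φ.opensRange) :
    Function.Bijective (fun a : Γ(X, V) => (φ.app V a : Γ(X', φ ⁻¹ᵁ V))) := by
  have := φ.isIso_app V hV
  exact ConcreteCategory.bijective_of_isIso (φ.app V)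

/-- Descend a section along an open immersion. -/
theorem PullMap.exists_of_isOpenImmersion [IsOpenImmersion φ] (P : PullMap φ L L') {U : X.Opens}
    (hU : U ≤ φ.opensRange) (hL : LocGen L U) {n : ℕ} (s' : Γ(CohB1.tensorPow L' n, φ ⁻¹ᵁ U)) :
    ∃ s : Γ(CohB1.tensorPow L n, U), φ ⁻¹ᵁ (nv _ s) = nv _ s' := by
  choose W e hxW hWU he using hL
  let V : U → X.Opens := fun x => W x.1 x.2
  let e' : ∀ x : U, Γ(L, V x) := fun x => e x.1 x.2
  have hV : ∀ x, V x ≤ U := fun x => hWU x.1 x.2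
  have he' : ∀ x, IsGen (e' x) := fun x => he x.1 x.2
  have hcov : U ≤ ⨆ x, V x := fun x hx => TopologicalSpace.Opens.mem_iSup.2 ⟨⟨x, hx⟩, hxW x hx⟩
  have hcov' : φ ⁻¹ᵁ U ≤ ⨆ x, φ ⁻¹ᵁ (V x) := by
    intro x hx
    obtain ⟨i, hi⟩ := TopologicalSpace.Opens.mem_iSup.1 (hcov hx)
    exact TopologicalSpace.Opens.mem_iSup.2 ⟨i, hi⟩
  have hgen : ∀ x, IsGen (pow (P.toFun _ (e' x)) n) := fun x => (P.isGen_toFun _ _ (he' x)).pow n
  have h1 : ∀ x, ∃ a : Γ(X, V x), res _ (φ.preimage_mono (hV x)) s' =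
      (show Γ(X', φ ⁻¹ᵁ (V x)) from φ.app (V x) a) • pow (P.toFun _ (e' x)) n := by
    intro x
    obtain ⟨b, hb⟩ := (hgen x).exists_eq (res _ (φ.preimage_mono (hV x)) s')
    obtain ⟨a, ha⟩ := (app_bijective φ ((hV x).trans hU)).surjective b
    refine ⟨a, ?_⟩
    rw [hb, ← ha]
  choose a ha using h1
  have h2 : ∀ x y, ∃ g : Γ(X, V x ⊓ V y), res L (inf_le_left : V x ⊓ V y ≤ V x) (e' x) =
      g • res L (inf_le_right : V x ⊓ V y ≤ V y) (e' y) := fun x y =>
    ((he' y).res inf_le_right).exists_eq _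
  choose g hg using h2
  obtain ⟨s, hs⟩ := exists_of_coef (CohB1.tensorPow L n) V hV hcov (fun x => pow (e' x) n) a
    (fun x y => g x y ^ n) (fun x y => by rw [res_pow, res_pow, hg, smul_pow])
    (fun x y => by
      apply (app_bijective φ ((inf_le_left.trans (hV x)).trans hU : V x ⊓ V y ≤ _)).injective
      dsimp only
      rw [map_mul, map_pow, app_ores, app_ores]
      exact coef_rel s' (φ.preimage_mono (hV x)) (φ.preimage_mono (hV y)) (hgen y) _ _ (ha x) (ha y)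
        ((show Γ(X', φ ⁻¹ᵁ V x ⊓ φ ⁻¹ᵁ V y) from φ.app _ (g x y)) ^ n)
        (by rw [res_pow, res_pow, P.rel (hg x y), smul_pow]))
  refine ⟨s, ?_⟩
  rw [nv_eq_iSup _ _ (fun x => φ.preimage_mono (hV x)) hcov' _ hgen _ s' ha,
    nv_eq_iSup _ V hV hcov _ (fun x => (he' x).pow n) a s hs]
  exact preimage_iSup_basicOpen φ a

end

/-! ### Comparison with `CohB1.IsAmple` -/

theorem genLocus_eq_nv {M : X.Modules} (s : Coh.structureModule X ⟶ M) :
    CohB1.genLocus M s = nv M (sec s ⊤) := by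
  refine eq_of_forall_le_iff (fun V => ?_)
  rw [le_genLocus_iff, le_nv_iff _ _ le_top, res_sec]

theorem nv_eq_genLocus {M : X.Modules} (s : Γ(M, ⊤)) : nv M s = CohB1.genLocus M (homOf s) := by
  rw [genLocus_eq_nv, sec_homOf, res_refl]

theorem locGen_top_iff {L : X.Modules} : LocGen L ⊤ ↔ PicF.IsInvertible L := by
  rw [isInvertible_iff]
  constructor
  · intro h x
    obtain ⟨V, e, hxV, _, he⟩ := h x trivial
    exact ⟨V, e, hxV, he⟩
  · intro h x _
    obtain ⟨V, e, hxV, he⟩ := h x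
    exact ⟨V, e, hxV, le_top, he⟩

theorem isAmple_iff_ampleOn_top {L : X.Modules} : CohB1.IsAmple L ↔ AmpleOn L ⊤ := by
  constructor
  · rintro ⟨hL, hc, h⟩
    refine ⟨locGen_top_iff.2 hL, hc.isCompact_univ, fun x _ => ?_⟩
    obtain ⟨n, s, hx, haff⟩ := h x
    rw [genLocus_eq_nv] at hx haff
    exact ⟨n + 1, Nat.succ_pos n, sec s ⊤, hx, haff⟩
  · intro h
    refine ⟨locGen_top_iff.1 h.locGen, ⟨h.isCompact⟩, fun x => ?_⟩
    obtain ⟨n, hn, s, hx, haff⟩ := h.exists_nv x trivial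
    obtain ⟨m, rfl⟩ : ∃ m, n = m + 1 := ⟨n - 1, by omega⟩
    rw [nv_eq_genLocus] at hx haff
    exact ⟨m, homOf s, hx, haff⟩

theorem locGen_restrict_iff {L : X.Modules} (j : X' ⟶ X) [IsOpenImmersion j] :
    LocGen (L.restrict j) ⊤ ↔ LocGen L j.opensRange := by
  constructor
  · rintro h _ ⟨x, rfl⟩
    obtain ⟨V, e, hxV, _, he⟩ := h x trivial
    obtain ⟨e', rfl⟩ := (toRestrict (M := L) j (U := V)).surjective e
    refine ⟨j ''ᵁ V, e', ⟨x, hxV, rfl⟩, j.image_le_opensRange V, (isGen_toRestrict_iff j e').1 he⟩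
  · intro h x _
    obtain ⟨V, e, hxV, _, he⟩ := h (j x) ⟨x, rfl⟩
    exact ⟨j ⁻¹ᵁ V, (restrictMap j L).toFun V e, hxV, le_top, (restrictMap j L).isGen_toFun V e he⟩

theorem ampleOn_restrict_iff {L : X.Modules} (j : X' ⟶ X) [IsOpenImmersion j] :
    AmpleOn (L.restrict j) ⊤ ↔ AmpleOn L j.opensRange := by
  have htop : j ⁻¹ᵁ j.opensRange = ⊤ := by simp
  constructor
  · intro h
    have hL := (locGen_restrict_iff j).1 h.locGen
    refine ⟨hL, ?_, ?_⟩
    · have h1 : IsCompact (Set.univ : Set X') := h.isCompact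
      have := h1.image j.continuous
      rwa [Set.image_univ] at this
    · rintro _ ⟨x, rfl⟩
      obtain ⟨n, hn, s', hx, haff⟩ := h.exists_nv x trivial
      obtain ⟨s, hs⟩ := (restrictMap j L).exists_of_isOpenImmersion le_rfl hL
        (res _ (le_top : j ⁻¹ᵁ j.opensRange ≤ ⊤) s')
      rw [nv_res, htop, top_inf_eq] at hs
      refine ⟨n, hn, s, ?_, ?_⟩
      · rw [← hs] at hx
        exact hx
      · rw [← hs] at haff
        have := haff.image_of_isOpenImmersion j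
        rwa [j.image_preimage_eq_opensRange_inf, inf_eq_right.2 (nv_le _ s)] at this
  · intro h
    have hL := (locGen_restrict_iff j).2 h.locGen
    refine ⟨hL, ?_, ?_⟩
    · have h1 : IsCompact (Set.range j) := h.isCompact
      rw [← Set.image_univ] at h1
      exact j.isOpenEmbedding.isInducing.isCompact_iff.2 h1
    · intro x _
      obtain ⟨n, hn, s, hx, haff⟩ := h.exists_nv (j x) ⟨x, rfl⟩
      obtain ⟨s', hs'⟩ := (restrictMap j L).exists_nv_eq h.locGen s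
      refine ⟨n, hn, res _ htop.ge s', ?_, ?_⟩
      · rw [nv_res, hs', top_inf_eq]
        exact hx
      · rw [nv_res, hs', top_inf_eq]
        exact haff.preimage_of_isOpenImmersion j (nv_le _ s)

theorem isAmple_restrict_iff {L : X.Modules} (j : X' ⟶ X) [IsOpenImmersion j] :
    CohB1.IsAmple (L.restrict j) ↔ AmpleOn L j.opensRange := by
  rw [isAmple_iff_ampleOn_top, ampleOn_restrict_iff]

theorem isAmple_restrict_ι_iff {L : X.Modules} (U : X.Opens) :
    CohB1.IsAmple (L.restrict U.ι) ↔ AmpleOn L U := by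
  rw [isAmple_restrict_iff, Scheme.Opens.opensRange_ι]

end Groth.Agent.Ega2.Ample
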