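import Groth.Agent.Ega2.Nv

/-!
# Ampleness of a module on an open subscheme, in terms of sections of tensor powers over that open
-/

set_option autoImplicit false
universe u
open CategoryTheory CategoryTheory.Limits AlgebraicGeometry

namespace Groth.Agent.Ega2.Ample

open Groth.Agent.Ega2.ExtCoeff Groth.Agent.Ega2.Nv Groth.Agent.Fdesc.LocGen

variable {X : Scheme.{u}}

theorem locGen_tensorPow {L : X.Modules} {U : X.Opens} (h : LocGen L U) (n : ℕ) :
    LocGen (CohB1.tensorPow L n) U := by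
  intro x hx
  obtain ⟨V, e, hxV, hVU, he⟩ := h x hx
  exact ⟨V, pow e n, hxV, hVU, he.pow n⟩

theorem locGen_structureModule (U : X.Opens) : LocGen (Coh.structureModule X) U :=
  fun _ hx => ⟨U, one U, hx, le_rfl, isGen_one U⟩

theorem nv_ofFun {U : X.Opens} (a : Γ(X, U)) :
    nv (Coh.structureModule X) (ofFun a) = X.basicOpen a := by
  rw [ofFun_eq_smul, nv_smul (isGen_one U)]

/-- A finite affine cover with generators of `L`, and transition functions. -/
theorem exists_frame {L : X.Modules} {U : X.Opens} (hL : LocGen L U) (hc : IsCompact (U : Set X)) :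
    ∃ (ι : Type u) (_ : Finite ι) (W : ι → X.Opens), (∀ i, IsAffineOpen (W i)) ∧ (∀ i, W i ≤ U) ∧
      U ≤ ⨆ i, W i ∧ ∃ (e : ∀ i, Γ(L, W i)) (g : ∀ i j, Γ(X, W i ⊓ W j)), (∀ i, IsGen (e i)) ∧
        ∀ i j, res L (inf_le_left : W i ⊓ W j ≤ W i) (e i) =
          g i j • res L (inf_le_right : W i ⊓ W j ≤ W j) (e j) := by
  obtain ⟨ι, hι, W, hWa, hWU, hWG, hcov⟩ := exists_finite_affine_cover hc
    (fun V => ∃ e : Γ(L, V), IsGen e) (fun V V' hV ⟨e, he⟩ => ⟨res L hV e, he.res hV⟩)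
    (fun x hx => by
      obtain ⟨V, e, hxV, _, he⟩ := hL x hx
      exact ⟨V, hxV, e, he⟩)
  choose e he using hWG
  have h1 : ∀ i j, ∃ g : Γ(X, W i ⊓ W j), res L (inf_le_left : W i ⊓ W j ≤ W i) (e i) =
      g • res L (inf_le_right : W i ⊓ W j ≤ W j) (e j) := fun i j =>
    ((he j).res inf_le_right).exists_eq _
  choose g hg using h1
  exact ⟨ι, hι, W, hWa, hWU, hcov, e, g, he, hg⟩

/-- Coefficients of a section with respect to generators on a cover satisfy the transition relations. -/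
theorem coef_rel {M : X.Modules} {U : X.Opens} (s : Γ(M, U)) {V V' : X.Opens} (hV : V ≤ U) (hV' : V' ≤ U)
    {e : Γ(M, V)} {e' : Γ(M, V')} (he' : IsGen e') (a : Γ(X, V)) (a' : Γ(X, V'))
    (ha : res M hV s = a • e) (ha' : res M hV' s = a' • e') (g : Γ(X, V ⊓ V'))
    (hg : res M (inf_le_left : V ⊓ V' ≤ V) e = g • res M (inf_le_right : V ⊓ V' ≤ V') e') :
    ores (inf_le_right : V ⊓ V' ≤ V') a' = ores (inf_le_left : V ⊓ V' ≤ V) a * g := by
  apply (he'.res (inf_le_right : V ⊓ V' ≤ V')).ext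
  rw [← res_smul, ← ha', mul_smul, ← hg, ← res_smul, ← ha, res_res, res_res]

/-- Extension of functions on `X_s`: for `h` a function on `X_s`, `s` a section of `L^n`, there are sections of
`L^(n N)` with nonvanishing locus `D(h)`. -/
theorem exists_nv_eq_basicOpen {L : X.Modules} {U : X.Opens} (hL : LocGen L U)
    (hc : IsCompact (U : Set X)) (hq : IsQuasiSeparated (U : Set X)) {n : ℕ}
    (s : Γ(CohB1.tensorPow L n, U)) (h : Γ(X, nv _ s)) :
    ∃ N₀ : ℕ, ∀ N : ℕ, N₀ ≤ N → ∃ S : Γ(CohB1.tensorPow L (n * N), U), nv _ S = X.basicOpen h := by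
  obtain ⟨ι, _, W, hWa, hWU, hcov, e, g, he, hg⟩ := exists_frame hL hc
  have h1 : ∀ i, ∃ τ : Γ(X, W i), res _ (hWU i) s = τ • pow (e i) n := fun i =>
    ((he i).pow n).exists_eq _
  choose τ hτ using h1
  have hD : ∀ i, W i ⊓ nv _ s = X.basicOpen (τ i) := fun i =>
    nv_inf_of_eq_smul s (hWU i) ((he i).pow n) _ (hτ i)
  have hle : ∀ i, X.basicOpen (τ i) ≤ nv _ s := fun i => by rw [← hD i]; exact inf_le_right
  obtain ⟨N₀, hN₀⟩ := exists_section hq W hWa hWU hcov τ (fun i => ores (hle i) h)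
    (fun i j => 1) (fun i j => g i j ^ n)
    (fun i j => coef_rel s (hWU i) (hWU j) ((he j).pow n) _ _ (hτ i) (hτ j) _
      (by rw [res_pow, res_pow, hg, smul_pow]))
    (fun i j => by rw [ores_ores, ores_ores, map_one, mul_one])
  refine ⟨N₀, fun N hN => ?_⟩
  obtain ⟨S, hS⟩ := hN₀ N hN (CohB1.tensorPow L (n * N)) (fun i => pow (e i) (n * N))
    (fun i => (he i).pow _) (fun i j => by
      rw [res_pow, res_pow, hg, smul_pow, one_mul, pow_mul])
  refine ⟨S, hS.trans ?_⟩
  have h2 : ∀ i, X.basicOpen (ores (hle i) h) = W i ⊓ X.basicOpen h := by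
    intro i
    rw [basicOpen_res, ← hD i, inf_assoc]
    congr 1
    exact inf_eq_right.2 (X.basicOpen_le h)
  rw [iSup_congr h2, ← iSup_inf_eq]
  exact inf_eq_right.2 ((X.basicOpen_le h).trans ((nv_le _ _).trans hcov))

/-- Extension of sections over `D(a)`, up to shrinking nothing: there is a section over `U` with the same
nonvanishing locus. -/
theorem exists_nv_eq_nv {M : X.Modules} {U : X.Opens} (hM : LocGen M U)
    (hc : IsCompact (U : Set X)) (hq : IsQuasiSeparated (U : Set X)) (a : Γ(X, U))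
    (s : Γ(M, X.basicOpen a)) : ∃ S : Γ(M, U), nv _ S = nv _ s := by
  obtain ⟨ι, _, W, hWa, hWU, hcov, e, g, he, hg⟩ := exists_frame hM hc
  have hle : ∀ i, X.basicOpen (ores (hWU i) a) ≤ X.basicOpen a := fun i => by
    rw [basicOpen_res]; exact inf_le_right
  have h1 : ∀ i, ∃ σ : Γ(X, X.basicOpen (ores (hWU i) a)), res _ (hle i) s =
      σ • res M (X.basicOpen_le _) (e i) := fun i =>
    ((he i).res _).exists_eq _
  choose σ hσ using h1
  obtain ⟨N₀, hN₀⟩ := exists_section hq W hWa hWU hcov (fun i => ores (hWU i) a) σ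
    g (fun i j => 1)
    (fun i j => by rw [ores_ores, ores_ores, mul_one])
    (fun i j => by
      refine coef_rel s (hle i) (hle j) ((he j).res _) _ _ (hσ i) (hσ j) _ ?_
      have := congrArg (res M (inf_le_inf (X.basicOpen_le (ores (hWU i) a))
        (X.basicOpen_le (ores (hWU j) a)))) (hg i j)
      rw [res_smul, res_res, res_res] at this
      rw [res_res, res_res]
      exact this)
  obtain ⟨S, hS⟩ := hN₀ N₀ le_rfl M e he (fun i j => by rw [one_pow, mul_one]; exact hg i j)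
  refine ⟨S, hS.trans ?_⟩
  have h2 : ∀ i, X.basicOpen (σ i) = W i ⊓ nv _ s := by
    intro i
    rw [← nv_inf_of_eq_smul s (hle i) ((he i).res _) _ (hσ i), basicOpen_res, inf_assoc]
    congr 1
    exact inf_eq_right.2 (nv_le _ _)
  rw [iSup_congr h2, ← iSup_inf_eq]
  exact inf_eq_right.2 ((nv_le _ _).trans ((X.basicOpen_le a).trans hcov))

/-- `L` is ample on the open `U`. -/
structure AmpleOn (L : X.Modules) (U : X.Opens) : Prop where
  locGen : LocGen L U
  isCompact : IsCompact (U : Set X)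
  exists_nv : ∀ x ∈ U, ∃ (n : ℕ) (_ : 0 < n) (s : Γ(CohB1.tensorPow L n, U)),
    x ∈ nv _ s ∧ IsAffineOpen (nv _ s)

theorem AmpleOn.isQuasiSeparated {L : X.Modules} {U : X.Opens} (h : AmpleOn L U) :
    IsQuasiSeparated (U : Set X) := by
  choose n _ s hx haff using h.exists_nv
  refine isQuasiSeparated_of_nv_cover (ι := U) (fun x => CohB1.tensorPow L (n x.1 x.2))
    (fun x => locGen_tensorPow h.locGen _) (fun x => s x.1 x.2) ?_ (fun x => (haff _ _).isQuasiSeparated)
  intro x hxU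
  exact TopologicalSpace.Opens.mem_iSup.2 ⟨⟨x, hxU⟩, hx x hxU⟩

theorem AmpleOn.mono {L : X.Modules} {U W : X.Opens} (h : AmpleOn L U) (hWU : W ≤ U)
    (hW : IsCompact (W : Set X)) : AmpleOn L W := by
  refine ⟨h.locGen.mono hWU, hW, fun x hx => ?_⟩
  obtain ⟨n, hn, s, hxs, haff⟩ := h.exists_nv x (hWU hx)
  obtain ⟨f, hf, hxf⟩ := haff.exists_basicOpen_le ⟨x, hx⟩ hxs
  obtain ⟨N₀, hN₀⟩ := exists_nv_eq_basicOpen h.locGen h.isCompact h.isQuasiSeparated s f
  obtain ⟨S, hS⟩ := hN₀ (N₀ + 1) (Nat.le_succ _)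
  have h1 : nv _ (res _ hWU S) = X.basicOpen f := by
    rw [nv_res, hS]
    exact inf_eq_right.2 hf
  exact ⟨n * (N₀ + 1), Nat.mul_pos hn (Nat.succ_pos _), res _ hWU S, by rwa [h1],
    by rw [h1]; exact haff.basicOpen f⟩

/-- Ampleness is local on the target in the affine case. -/
theorem ampleOn_of_basicOpen_cover {L : X.Modules} {U : X.Opens} {ι : Type*} [Finite ι]
    (a : ι → Γ(X, U)) (hcov : U ≤ ⨆ i, X.basicOpen (a i)) (h : ∀ i, AmpleOn L (X.basicOpen (a i))) :
    AmpleOn L U := by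
  have hL : LocGen L U := LocGen.of_cover _ hcov (fun i => (h i).locGen)
  have hU : U = ⨆ i, X.basicOpen (a i) := le_antisymm hcov (iSup_le fun i => X.basicOpen_le _)
  have hc : IsCompact (U : Set X) := by
    rw [hU, TopologicalSpace.Opens.coe_iSup]
    exact isCompact_iUnion (fun i => (h i).isCompact)
  have hq : IsQuasiSeparated (U : Set X) := by
    refine isQuasiSeparated_of_nv_cover (fun _ : ι => Coh.structureModule X)
      (fun _ => locGen_structureModule U) (fun i => ofFun (a i)) ?_ ?_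
    · refine hcov.trans (le_of_eq ?_)
      exact iSup_congr (fun i => (nv_ofFun (a i)).symm)
    · intro i
      rw [nv_ofFun]
      exact (h i).isQuasiSeparated
  refine ⟨hL, hc, fun x hx => ?_⟩
  obtain ⟨i, hi⟩ := TopologicalSpace.Opens.mem_iSup.1 (hcov hx)
  obtain ⟨n, hn, s, hxs, haff⟩ := (h i).exists_nv x hi
  obtain ⟨S, hS⟩ := exists_nv_eq_nv (locGen_tensorPow hL n) hc hq (a i) s
  exact ⟨n, hn, S, by rwa [hS], by rwa [hS]⟩

end Groth.Agent.Ega2.Ample
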