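import Groth.Agent.Ega2.VeryAmpleCrit
import Groth.Agent.Ega2.AmpleSec
import Mathlib.AlgebraicGeometry.Morphisms.FiniteType

/-!
# Large powers of an ample module are very ample relative to an affine base
-/

set_option autoImplicit false
universe u
open CategoryTheory CategoryTheory.Limits AlgebraicGeometry TopologicalSpace Opposite
open Groth.Agent.Fdesc.LocGen

namespace Groth.Agent.Ega2.AmpleVery

variable {X Y : Scheme.{u}}

/-- `isRelVeryAmplePn_of_sections` for an arbitrary finite nonempty index type. -/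
theorem isRelVeryAmplePn_of_family [IsAffine Y] (q : X ⟶ Y) (M : X.Modules) {J : Type*} [Finite J] [Nonempty J]
    (s : J → (Coh.structureModule X ⟶ M)) (K : Set J)
    (hcov : ⨆ j : K, CohB1.genLocus M (s j) = ⊤) (haff : ∀ j : K, IsAffineOpen (CohB1.genLocus M (s j)))
    (hgen : ∀ j : K, Subring.closure
      ({a : Γ(X, CohB1.genLocus M (s j)) | ∃ k, sec (s k) (CohB1.genLocus M (s j)) =
        a • sec (s j) (CohB1.genLocus M (s j))} ∪
        Set.range (fun r : Γ(Y, ⊤) => ores (le_top : CohB1.genLocus M (s j) ≤ q ⁻¹ᵁ ⊤) (q.app ⊤ r))) = ⊤) :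
    RelAmple.IsRelVeryAmplePn q M := by
  obtain ⟨N, ⟨e⟩⟩ := Finite.exists_equiv_fin J
  obtain ⟨n, rfl⟩ : ∃ n, N = n + 1 := by
    rcases N with _ | n
    · exact (IsEmpty.false (e (Classical.arbitrary J))).elim
    · exact ⟨n, rfl⟩
  refine VeryAmpleCrit.isRelVeryAmplePn_of_sections q M (fun k => s (e.symm k)) (e.symm ⁻¹' K) ?_ ?_ ?_
  · rw [eq_top_iff, ← hcov]
    refine iSup_le fun j => le_iSup_of_le (f := fun k : (e.symm ⁻¹' K) => CohB1.genLocus M (s (e.symm k)))
      ⟨e j, by simp⟩ ?_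
    simp
  · exact fun j => haff ⟨e.symm j, j.2⟩
  · intro j
    rw [eq_top_iff, ← hgen ⟨e.symm j, j.2⟩]
    refine Subring.closure_mono (Set.union_subset_union_left _ ?_)
    rintro a ⟨k, hk⟩
    exact ⟨e k, by simpa using hk⟩

/-- Large powers of an ample module are very ample relative to an affine base, in the sense of immersions to `P^n`. -/
theorem exists_forall_isRelVeryAmplePn [IsAffine Y] (q : X ⟶ Y) [IsSeparated q] [LocallyOfFiniteType q]
    {L : X.Modules} (hL : CohB1.IsAmple L) :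
    ∃ n₀ : ℕ, ∀ n, n₀ ≤ n → RelAmple.IsRelVeryAmplePn q (CohB1.tensorPow L n) := by
  classical
  have hqs : QuasiSeparatedSpace X := quasiSeparatedSpace_of_quasiSeparated q
  have hft : ∀ U : X.Opens, IsAffineOpen U → ∃ S : Set Γ(X, U), S.Finite ∧
      Subring.closure (S ∪ Set.range (fun r : Γ(Y, ⊤) => ores (le_top : U ≤ q ⁻¹ᵁ ⊤) (q.app ⊤ r))) = ⊤ := by
    intro U hU
    have h1 : (q.appLE ⊤ U le_top).hom.FiniteType :=
      LocallyOfFiniteType.finiteType_appLE q (isAffineOpen_top Y) hU le_top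
    algebraize [(q.appLE ⊤ U le_top).hom]
    obtain ⟨S, hS⟩ := (inferInstance : Algebra.FiniteType Γ(Y, ⊤) Γ(X, U)).out
    refine ⟨S, S.finite_toSet, ?_⟩
    have h2 := Algebra.adjoin_eq_ring_closure (R := Γ(Y, ⊤)) (S : Set Γ(X, U))
    rw [hS, Set.union_comm] at h2
    refine Eq.trans ?_ h2.symm
    rfl
  choose! C hCfin hCgen using hft
  obtain ⟨ι, hι, U, hUcov, hUaff, n₀, hn₀⟩ := AmpleSec.exists_ample_sections hL C hCfin
  refine ⟨n₀, fun n hn => ?_⟩
  choose v hv w hw using hn₀ n hn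
  have hfin : ∀ i, Finite (C (U i)) := fun i => (hCfin (U i) (hUaff i))
  let J := Option (Σ i : ι, Option (C (U i)))
  let s : J → (Coh.structureModule X ⟶ CohB1.tensorPow L n) := fun j =>
    match j with
    | none => 0
    | some ⟨i, none⟩ => v i
    | some ⟨i, some c⟩ => w i c c.2
  refine isRelVeryAmplePn_of_family q _ s (Set.range fun i : ι => some ⟨i, none⟩) ?_ ?_ ?_
  · rw [eq_top_iff, ← hUcov]
    refine iSup_le fun i => le_iSup_of_le
      (f := fun k : (Set.range fun i : ι => (some ⟨i, none⟩ : J)) => CohB1.genLocus _ (s k)) ⟨some ⟨i, none⟩, i, rfl⟩ ?_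
    exact (hv i).ge
  · rintro ⟨_, i, rfl⟩
    change IsAffineOpen (CohB1.genLocus _ (v i))
    rw [hv]
    exact hUaff i
  · rintro ⟨_, i, rfl⟩
    refine VeryAmpleCrit.closure_eq_top_of_le (U := U i) (W := CohB1.genLocus _ (v i)) (hv i) _
      (hCgen (U i) (hUaff i)) _ ?_
    rintro a (ha | ⟨r, rfl⟩)
    · refine Subring.subset_closure (Or.inl ⟨some ⟨i, some ⟨a, ha⟩⟩, ?_⟩)
      change sec (w i a ha) _ = _ • sec (v i) _
      rw [← res_sec (w i a ha) (hv i).le, hw i a ha, res_smul, res_sec]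
    · refine Subring.subset_closure (Or.inr ⟨r, ?_⟩)
      rw [ores_ores]

end Groth.Agent.Ega2.AmpleVery
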