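import Groth.Agent.Ega2.ArcTower
import Groth.Agent.CalgA.TateCore
import Mathlib.RingTheory.DedekindDomain.Basic
import Mathlib.RingTheory.KrullDimension.Basic

/-!
# Towers of quadratic transforms: finiteness of `V / Q`

With the notation of `ArcTower`: if the tower dominates a complete normal Noetherian local ring `B`
of dimension at least two (with bounded residue fields) then `Q ≠ 0`.
-/

set_option autoImplicit false

universe u

open IsLocalRing

namespace Groth.Agent.Ega2.ArcTower.IsTower

open ArcVal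

variable {K : Type u} [Field K] {A : ℕ → LocalSubring K} {x : K} {V : Subring K}
  (h : IsTower A x V)

include h

section Complete

variable (B : LocalSubring K) (hB : B ≤ A 0)

/-- `V` as a subalgebra over `B`. -/
def VA : Subalgebra B.toSubring K where
  carrier := V
  mul_mem' := V.mul_mem
  one_mem' := V.one_mem
  add_mem' := V.add_mem
  zero_mem' := V.zero_mem
  algebraMap_mem' r := h.le_V 0 (hB.1 r.2)

theorem mem_VA {z : K} : z ∈ h.VA B hB ↔ z ∈ V := Iff.rfl

theorem div_pow_mem (n : ℕ) (z : h.VA B hB)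
    (hz : z ∈ (maximalIdeal B.toSubring ^ n • ⊤ : Submodule B.toSubring (h.VA B hB))) :
    (z : K) / x ^ n ∈ V := by
  induction n generalizing z with
  | zero =>
    have := z.2
    simpa using (show (z : K) ∈ V from this)
  | succ n ih =>
    rw [pow_succ', Submodule.mul_smul] at hz
    induction hz using Submodule.smul_induction_on' with
    | smul r hr w hw =>
      have h1 := ih w hw
      have h2 : (r : K) / x ∈ V :=
        h.le_V 1 ((h.step 0).div_mem r (Mx.of_le hB ⟨r.2, hr⟩))
      have h3 := V.mul_mem h2 h1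
      change ((r : K) * (w : K)) / x ^ (n + 1) ∈ V
      have h4 : ((r : K) * (w : K)) / x ^ (n + 1) = (r : K) / x * ((w : K) / x ^ n) := by
        rw [pow_succ']
        ring
      rw [h4]
      exact h3
    | add y _ z _ hy hz =>
      have := V.add_mem hy hz
      rw [← add_div] at this
      exact this

include hB in
theorem exists_fg_sub (t : Finset K) (htV : ∀ z ∈ t, z ∈ V)
    (hres : ∀ i, ∀ z ∈ (A i).toSubring, ∃ a ∈ Submodule.span B.toSubring (t : Set K),
      Mx (A i) (z - a)) (e : ℕ) :
    ∃ N : Submodule B.toSubring K, N.FG ∧ (∀ z ∈ N, z ∈ V) ∧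
      ∀ z ∈ V, ∃ n ∈ N, (z - n) / x ^ e ∈ V := by
  induction e with
  | zero => exact ⟨⊥, Submodule.fg_bot, by
      intro z hz
      rw [(Submodule.mem_bot _).1 hz]
      exact V.zero_mem, fun z hz => ⟨0, Submodule.zero_mem _, by simpa using hz⟩⟩
  | succ e ih =>
    obtain ⟨N, hN, hNV, hNs⟩ := ih
    let m : K →ₗ[B.toSubring] K := LinearMap.mulLeft _ (x ^ e)
    have hspanV : ∀ z ∈ Submodule.span B.toSubring (t : Set K), z ∈ V := by
      intro z hz
      have h1 : Submodule.span B.toSubring (t : Set K) ≤ Subalgebra.toSubmodule (h.VA B hB) :=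
        Submodule.span_le.2 htV
      exact h1 hz
    refine ⟨N ⊔ (Submodule.span B.toSubring (t : Set K)).map m,
      hN.sup ((Submodule.fg_span t.finite_toSet).map m), ?_, ?_⟩
    · intro z hz
      obtain ⟨n, hn, w, ⟨a, ha, rfl⟩, rfl⟩ := Submodule.mem_sup.1 hz
      exact V.add_mem (hNV n hn) (V.mul_mem (V.pow_mem h.isPar.mem e) (hspanV a ha))
    · intro z hz
      obtain ⟨n, hn, hzn⟩ := hNs z hz
      obtain ⟨i, hi⟩ := (h.mem_iff _).1 hzn
      obtain ⟨a, ha, hm⟩ := hres i _ hi
      refine ⟨n + x ^ e * a, Submodule.add_mem_sup hn ⟨a, ha, rfl⟩, ?_⟩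
      have h1 := h.le_V (i + 1) ((h.step i).div_mem _ hm)
      have h2 : (z - (n + x ^ e * a)) / x ^ (e + 1) = ((z - n) / x ^ e - a) / x := by
        have := h.ne
        rw [pow_succ]
        field_simp
        ring
      rw [h2]
      exact h1

include hB in
/-- If the tower dominates a complete normal local ring whose maximal ideal is not principal then
`Q` is not zero. -/
theorem exists_QS_ne_zero [IsAdicComplete (maximalIdeal B.toSubring) B.toSubring]
    (hBint : ∀ z : K, IsIntegral B.toSubring z → z ∈ B.toSubring)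
    (hBp : ¬ (maximalIdeal B.toSubring).IsPrincipal) (t : Finset K) (htV : ∀ z ∈ t, z ∈ V)
    (hres : ∀ i, ∀ z ∈ (A i).toSubring, ∃ a ∈ Submodule.span B.toSubring (t : Set K),
      Mx (A i) (z - a)) : ∃ q ∈ QS x V, q ≠ 0 := by
  by_contra hc
  push Not at hc
  -- a nonzero element of the maximal ideal
  have hb : ∃ b ∈ maximalIdeal B.toSubring, b ≠ 0 := by
    by_contra hb
    push Not at hb
    apply hBp
    have : maximalIdeal B.toSubring = ⊥ := (Submodule.eq_bot_iff _).2 hb
    rw [this]
    exact bot_isPrincipal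
  obtain ⟨b, hbm, hb0⟩ := hb
  have hb0' : (b : K) ≠ 0 := fun h0 => hb0 (Subtype.ext h0)
  have hbV : (b : K) ∈ V := h.le_V 0 (hB.1 b.2)
  obtain ⟨e, he, he', -⟩ := exists_unit_of_notMem h.isPar hbV (fun hq => hb0' (hc _ hq))
  obtain ⟨N, hN, hNV, hNs⟩ := h.exists_fg_sub B hB t htV hres e
  have hhaus : IsHausdorff (maximalIdeal B.toSubring) (h.VA B hB) := by
    constructor
    intro z hz
    apply Subtype.ext
    refine hc _ fun n => ?_
    refine h.div_pow_mem B hB n z ?_
    have := hz n
    rwa [SModEq.zero] at this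
  have hNle : N ≤ Subalgebra.toSubmodule (h.VA B hB) := hNV
  let N' : Submodule B.toSubring (h.VA B hB) :=
    N.comap (Subalgebra.toSubmodule (h.VA B hB)).subtype
  have hN' : N'.FG := by
    refine Submodule.fg_of_fg_map_injective (Subalgebra.toSubmodule (h.VA B hB)).subtype
      Subtype.val_injective ?_
    have : N'.map (Subalgebra.toSubmodule (h.VA B hB)).subtype = N := by
      rw [Submodule.map_comap_eq, Submodule.range_subtype]
      exact inf_eq_right.2 hNle
    rw [this]
    exact hN
  have hfin : Module.Finite B.toSubring (h.VA B hB) := by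
    refine Groth.Agent.CalgA.TateCore.finite_of_isAdicComplete (maximalIdeal B.toSubring) N' hN' ?_
    intro z
    obtain ⟨n, hn, hzn⟩ := hNs z z.2
    refine ⟨⟨n, hNV n hn⟩, hn, ?_⟩
    have h1 : z - ⟨n, hNV n hn⟩ = b • (⟨((b : K) / x ^ e)⁻¹ * (((z : K) - n) / x ^ e),
        V.mul_mem he' hzn⟩ : h.VA B hB) := by
      apply Subtype.ext
      change (z : K) - n = (b : K) * (((b : K) / x ^ e)⁻¹ * (((z : K) - n) / x ^ e))
      have h2 := pow_ne_zero e h.ne
      field_simp
    rw [h1]
    exact Submodule.smul_mem_smul hbm Submodule.mem_top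
  have hle : ∀ z ∈ V, z ∈ B.toSubring := by
    intro z hz
    refine hBint z ?_
    exact IsIntegral.of_mem_of_fg (h.VA B hB) (Module.Finite.iff_fg.1 hfin) z hz
  apply hBp
  have hxB : x ∈ B.toSubring := hle x h.isPar.mem
  have hxm : (⟨x, hxB⟩ : B.toSubring) ∈ maximalIdeal B.toSubring := by
    by_contra hcx
    have h3 : ¬ Mx B x := fun ⟨_, h4⟩ => hcx h4
    exact h.isPar.inv_notMem (h.le_V 0 (hB.1 (inv_mem_of_not_mx hxB h3).1))
  refine ⟨⟨⟨x, hxB⟩, le_antisymm ?_ ?_⟩⟩
  · intro y hy
    have h4 : (y : K) / x ∈ V := h.le_V 1 ((h.step 0).div_mem y (Mx.of_le hB ⟨y.2, hy⟩))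
    refine Submodule.mem_span_singleton.2 ⟨⟨(y : K) / x, hle _ h4⟩, ?_⟩
    apply Subtype.ext
    change (y : K) / x * x = y
    exact div_mul_cancel₀ _ h.ne
  · exact (Submodule.span_singleton_le_iff_mem _ _).2 hxm

end Complete

end Groth.Agent.Ega2.ArcTower.IsTower
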