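import Mathlib.RingTheory.DedekindDomain.Dvr
import Mathlib.RingTheory.Valuation.ValuationRing
import Mathlib.RingTheory.Localization.Integral
import Mathlib.RingTheory.DiscreteValuationRing.TFAE

/-!
# A discrete valuation ring birational over a one-dimensional domain with finite normalization

`D ⊆ O` with `O` a discrete valuation ring with the same fraction field as the one-dimensional
Noetherian domain `D`.  If the normalization of `D` is finite then `O` is a localization of a finite
`D`-subalgebra of `O`.
-/

set_option autoImplicit false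

universe u

open IsLocalRing

namespace Groth.Agent.Ega2.ArcNorm

theorem exists_val {R : Type u} [CommRing R] [IsDomain R] (p : Ideal R) [p.IsPrime]
    [ValuationRing (Localization.AtPrime p)] (a b : R) :
    ∃ c s, s ∉ p ∧ (s * a = c * b ∨ s * b = c * a) := by
  have hinj : Function.Injective (algebraMap R (Localization.AtPrime p)) :=
    IsLocalization.injective _ p.primeCompl_le_nonZeroDivisors
  obtain ⟨w, hw⟩ := ValuationRing.cond (algebraMap R (Localization.AtPrime p) a)
    (algebraMap R (Localization.AtPrime p) b)
  obtain ⟨⟨c, s⟩, hcs⟩ := IsLocalization.surj p.primeCompl w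
  refine ⟨c, s, s.2, ?_⟩
  rcases hw with hw | hw
  · right
    apply hinj
    rw [map_mul, map_mul, ← hw]
    rw [← hcs]
    ring
  · left
    apply hinj
    rw [map_mul, map_mul, ← hw]
    rw [← hcs]
    ring

variable (D O : Type u) [CommRing D] [IsDomain D] [IsNoetherianRing D] [Ring.DimensionLEOne D]
  [CommRing O] [IsDomain O] [IsLocalRing O] [IsIntegrallyClosed O] [Algebra D O]
  [FaithfulSMul D O]
  (hfrac : ∀ o : O, ∃ a s : D, s ≠ 0 ∧ algebraMap D O s * o = algebraMap D O a)
  [hfin : Module.Finite D (integralClosure D (FractionRing D))]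

include hfrac hfin

theorem exists_finite_subalgebra :
    ∃ C : Subalgebra D O, (Subalgebra.toSubmodule C).FG ∧
      ∀ o : O, ∃ c ∈ C, ∃ s ∈ C, IsUnit s ∧ s * o = c := by
  let L := FractionRing O
  let _ : Algebra D L := inferInstance
  have hinjDO : Function.Injective (algebraMap D O) := FaithfulSMul.algebraMap_injective D O
  have hinjOL : Function.Injective (algebraMap O L) := IsFractionRing.injective O L
  have hinjDL : Function.Injective (algebraMap D L) := by
    rw [IsScalarTower.algebraMap_eq D O L]
    exact hinjOL.comp hinjDO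
  have : FaithfulSMul D L := (faithfulSMul_iff_algebraMap_injective D L).2 hinjDL
  have hDL : IsFractionRing D L := by
    refine IsFractionRing.of_field D L fun z => ?_
    obtain ⟨o1, o2, ho2, rfl⟩ := IsFractionRing.div_surjective (A := O) z
    obtain ⟨a1, s1, hs1, h1⟩ := hfrac o1
    obtain ⟨a2, s2, hs2, h2⟩ := hfrac o2
    have ho20 : algebraMap O L o2 ≠ 0 := by
      rw [Ne, map_eq_zero_iff _ hinjOL]
      exact nonZeroDivisors.ne_zero ho2
    have hs10 : algebraMap D L s1 ≠ 0 := by rwa [Ne, map_eq_zero_iff _ hinjDL]
    have hs20 : algebraMap D L s2 ≠ 0 := by rwa [Ne, map_eq_zero_iff _ hinjDL]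
    have h1' : algebraMap D L s1 * algebraMap O L o1 = algebraMap D L a1 := by
      rw [IsScalarTower.algebraMap_apply D O L, IsScalarTower.algebraMap_apply D O L a1,
        ← map_mul, h1]
    have h2' : algebraMap D L s2 * algebraMap O L o2 = algebraMap D L a2 := by
      rw [IsScalarTower.algebraMap_apply D O L, IsScalarTower.algebraMap_apply D O L a2,
        ← map_mul, h2]
    refine ⟨a1 * s2, s1 * a2, ?_⟩
    rw [map_mul, map_mul, ← h1', ← h2',
      div_eq_div_iff ho20 (mul_ne_zero hs10 (mul_ne_zero hs20 ho20))]
    ring
  have hfinL : Module.Finite D (integralClosure D L) :=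
    Module.Finite.equiv (FractionRing.algEquiv D L).mapIntegralClosure.toLinearEquiv
  let C := integralClosure D O
  -- `C` is finite over `D`
  let j : C →ₗ[D] integralClosure D L :=
    { toFun := fun c => ⟨algebraMap O L c, (c.2 : IsIntegral D (c : O)).map
        (IsScalarTower.toAlgHom D O L)⟩
      map_add' := fun a b => Subtype.ext (map_add _ _ _)
      map_smul' := fun r a => Subtype.ext (by
        change algebraMap O L (r • (a : O)) = r • algebraMap O L (a : O)
        rw [Algebra.smul_def, map_mul, ← IsScalarTower.algebraMap_apply, ← Algebra.smul_def]) }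
  have hj : Function.Injective j := fun a b hab =>
    Subtype.ext (hinjOL (congrArg Subtype.val hab))
  have hCfin : Module.Finite D C := Module.Finite.of_injective j hj
  have hCnoeth : IsNoetherianRing C := IsNoetherianRing.of_finite D C
  have hCdim : Ring.DimensionLEOne C := inferInstance
  have hCinj : Function.Injective (algebraMap C L) := by
    rw [IsScalarTower.algebraMap_eq C O L]
    exact hinjOL.comp Subtype.val_injective
  have : FaithfulSMul C L := (faithfulSMul_iff_algebraMap_injective C L).2 hCinj
  have hCL : IsFractionRing C L := by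
    refine IsFractionRing.of_field C L fun z => ?_
    obtain ⟨a, s, hs, rfl⟩ := IsFractionRing.div_surjective (A := D) z
    exact ⟨algebraMap D C a, algebraMap D C s, by
      rw [← IsScalarTower.algebraMap_apply, ← IsScalarTower.algebraMap_apply]⟩
  have hCic : IsIntegrallyClosed C := by
    rw [isIntegrallyClosed_iff L]
    intro z hz
    have h1 : IsIntegral D z := isIntegral_trans (A := C) z hz
    have h2 : IsIntegral O z := h1.tower_top
    obtain ⟨o, rfl⟩ := IsIntegrallyClosed.isIntegral_iff.1 h2
    have h3 : IsIntegral D o := by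
      obtain ⟨p, hp, hp'⟩ := h1
      refine ⟨p, hp, hinjOL ?_⟩
      rw [map_zero, Polynomial.hom_eval₂, ← IsScalarTower.algebraMap_eq]
      exact hp'
    exact ⟨⟨o, h3⟩, rfl⟩
  have hCded : IsDedekindDomain C := { }
  let n : Ideal C := (maximalIdeal O).comap C.val.toRingHom
  have hn : n.IsPrime := Ideal.IsPrime.comap _
  have hval : ValuationRing (Localization.AtPrime n) := by
    have h1 := (tfae_of_isNoetherianRing_of_isLocalRing_of_isDomain
      (Localization.AtPrime n)).out 2 1
    exact h1.1 inferInstance
  refine ⟨C, Module.Finite.iff_fg.1 hCfin, fun o => ?_⟩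
  obtain ⟨a, s, hs, hos⟩ := hfrac o
  obtain ⟨c, t, ht, h1⟩ := exists_val n (algebraMap D C a) (algebraMap D C s)
  have htu : IsUnit (t : O) := by
    by_contra hc
    exact ht ((mem_maximalIdeal _).2 hc)
  have hs0 : algebraMap D O s ≠ 0 := by rwa [Ne, map_eq_zero_iff _ hinjDO]
  rcases h1 with h1 | h1
  · refine ⟨c, c.2, t, t.2, htu, ?_⟩
    have h2 : (t : O) * algebraMap D O a = c * algebraMap D O s := congrArg Subtype.val h1
    rw [← hos] at h2
    refine mul_left_cancel₀ hs0 ?_
    linear_combination h2
  · have h2 : (t : O) * algebraMap D O s = c * algebraMap D O a := congrArg Subtype.val h1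
    rw [← hos] at h2
    have h3 : (t : O) = c * o := by
      refine mul_left_cancel₀ hs0 ?_
      linear_combination h2
    refine ⟨t, t.2, c, c.2, ?_, h3.symm⟩
    exact isUnit_of_mul_isUnit_left (h3 ▸ htu)

end Groth.Agent.Ega2.ArcNorm
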