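import Groth.Agent.Ega2.ArcFinite
import Groth.Agent.Ega2.ArcNorm
import Mathlib.RingTheory.Localization.AtPrime.Basic
import Mathlib.RingTheory.DedekindDomain.Dvr
import Mathlib.RingTheory.Valuation.ValuationRing
import Mathlib.RingTheory.Localization.Integral

/-!
# Towers of quadratic transforms: `A n → V / Q` is surjective for large `n`
-/

set_option autoImplicit false

universe u

open IsLocalRing

namespace Groth.Agent.Ega2.ArcSurj

open ArcVal ArcTower ArcNorm

theorem chain_false {R : Type u} [CommRing R] (hd : ringKrullDim R ≤ 2)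
    {a b c d : PrimeSpectrum R} (h1 : a < b) (h2 : b < c) (h3 : c < d) : False := by
  have h4 := Order.height_add_one_le h1
  have h5 := Order.height_add_one_le h2
  have h6 := Order.height_add_one_le h3
  have h7 : (3 : ℕ∞) ≤ Order.height d := by
    calc (3 : ℕ∞) = 0 + 1 + 1 + 1 := by norm_num
      _ ≤ Order.height a + 1 + 1 + 1 := by gcongr; exact zero_le
      _ ≤ Order.height b + 1 + 1 := by gcongr
      _ ≤ Order.height c + 1 := by gcongr
      _ ≤ Order.height d := h6
  have h8 : ((Order.height d : ℕ∞) : WithBot ℕ∞) ≤ ringKrullDim R := Order.height_le_krullDim d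
  have h9 : ((3 : ℕ∞) : WithBot ℕ∞) ≤ 2 := (WithBot.coe_le_coe.2 h7).trans (h8.trans hd)
  have h10 : (3 : ℕ∞) ≤ 2 := WithBot.coe_le_coe.1 h9
  exact absurd h10 (by decide)

/-- The localization of a two-dimensional normal Noetherian local domain at a prime different from
zero and the maximal ideal is a valuation ring. -/
theorem valuationRing_localization {R : Type u} [CommRing R] [IsDomain R] [IsLocalRing R]
    [IsNoetherianRing R] [IsIntegrallyClosed R] (hd : ringKrullDim R ≤ 2) (p : Ideal R)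
    [hp : p.IsPrime] (hpm : p ≠ maximalIdeal R) :
    ValuationRing (Localization.AtPrime p) := by
  have : IsIntegrallyClosed (Localization.AtPrime p) :=
    isIntegrallyClosed_of_isLocalization _ p.primeCompl p.primeCompl_le_nonZeroDivisors
  have : IsNoetherianRing (Localization.AtPrime p) :=
    IsLocalization.isNoetherianRing p.primeCompl _ inferInstance
  have htfae := (tfae_of_isNoetherianRing_of_isLocalRing_of_isDomain
    (Localization.AtPrime p)).out 3 1
  refine htfae.1 ⟨inferInstance, fun P hP hP' => ?_⟩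
  -- the contraction
  set P' : Ideal R := P.comap (algebraMap R (Localization.AtPrime p)) with hP'def
  have hP'p : P'.IsPrime := inferInstance
  have hmap : P'.map (algebraMap R (Localization.AtPrime p)) = P :=
    IsLocalization.map_under p.primeCompl (Localization.AtPrime p) P
  have hle : P' ≤ p := by
    intro y hy
    by_contra hc
    have h1 : IsUnit (algebraMap R (Localization.AtPrime p) y) :=
      IsLocalization.map_units _ (⟨y, hc⟩ : p.primeCompl)
    exact hP'.ne_top (Ideal.eq_top_of_isUnit_mem _ hy h1)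
  have hne : P' ≠ ⊥ := by
    intro h0
    apply hP
    rw [← hmap, h0, Ideal.map_bot]
  have heq : P' = p := by
    by_contra hc
    have h1 : (⟨⊥, Ideal.isPrime_bot⟩ : PrimeSpectrum R) < ⟨P', hP'p⟩ :=
      lt_of_le_of_ne (bot_le (α := Ideal R)) (fun h => hne (congrArg PrimeSpectrum.asIdeal h).symm)
    have h2 : (⟨P', hP'p⟩ : PrimeSpectrum R) < ⟨p, hp⟩ := lt_of_le_of_ne hle
      (fun h => hc (congrArg PrimeSpectrum.asIdeal h))
    have h3 : (⟨p, hp⟩ : PrimeSpectrum R) < ⟨maximalIdeal R, inferInstance⟩ :=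
      lt_of_le_of_ne (IsLocalRing.le_maximalIdeal hp.ne_top)
      (fun h => hpm (congrArg PrimeSpectrum.asIdeal h))
    exact chain_false hd h1 h2 h3
  rw [← hmap, heq]
  exact Localization.AtPrime.map_eq_maximalIdeal

theorem dimensionLEOne_quot {R : Type u} [CommRing R] [IsDomain R] [IsLocalRing R]
    (hd : ringKrullDim R ≤ 2) (p : Ideal R) [hp : p.IsPrime] (hp0 : p ≠ ⊥) :
    Ring.DimensionLEOne (R ⧸ p) := by
  refine ⟨fun {P} hP hP' => ?_⟩
  set P' : Ideal R := P.comap (Ideal.Quotient.mk p) with hP'def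
  have hP'p : P'.IsPrime := inferInstance
  have hle : p < P' := by
    refine lt_of_le_of_ne ?_ ?_
    · intro y hy
      change Ideal.Quotient.mk p y ∈ P
      rw [Ideal.Quotient.eq_zero_iff_mem.2 hy]
      exact P.zero_mem
    · intro he
      apply hP
      rw [← Ideal.map_comap_of_surjective _ Ideal.Quotient.mk_surjective P, ← hP'def, ← he,
        Ideal.map_quotient_self]
  have hm : P' = maximalIdeal R := by
    by_contra hc
    have h1 : (⟨⊥, Ideal.isPrime_bot⟩ : PrimeSpectrum R) < ⟨p, hp⟩ :=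
      lt_of_le_of_ne (bot_le (α := Ideal R)) (fun h => hp0 (congrArg PrimeSpectrum.asIdeal h).symm)
    have h2 : (⟨p, hp⟩ : PrimeSpectrum R) < ⟨P', hP'p⟩ := hle
    have h3 : (⟨P', hP'p⟩ : PrimeSpectrum R) < ⟨maximalIdeal R, inferInstance⟩ :=
      lt_of_le_of_ne (IsLocalRing.le_maximalIdeal hP'p.ne_top)
      (fun h => hc (congrArg PrimeSpectrum.asIdeal h))
    exact chain_false hd h1 h2 h3
  have hmax : P'.IsMaximal := hm ▸ inferInstance
  rw [← Ideal.map_comap_of_surjective _ Ideal.Quotient.mk_surjective P, ← hP'def]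
  exact (Ideal.map_eq_top_or_isMaximal_of_surjective _ Ideal.Quotient.mk_surjective
    hmax).resolve_left (by
      rw [hP'def, Ideal.map_comap_of_surjective _ Ideal.Quotient.mk_surjective P]
      exact hP'.ne_top)

section Tower

variable {K : Type u} [Field K] {A : ℕ → LocalSubring K} {x : K} {V : Subring K}
  (h : IsTower A x V)

include h

theorem PI_zero_ne_bot [IsFractionRing (A 0).toSubring K] (hq : ∃ q ∈ IsTower.QS x V, q ≠ 0) :
    h.PI 0 ≠ ⊥ := by
  obtain ⟨q, hq, hq0⟩ := hq
  obtain ⟨a, s, hs, rfl⟩ := IsFractionRing.div_surjective (A := (A 0).toSubring) q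
  intro h0
  have h1 : a ∈ h.PI 0 := by
    change ((a : K)) ∈ IsTower.QS x V
    have hs0 : (s : K) ≠ 0 := by
      intro h2
      apply hq0
      change (a : K) / (s : K) = 0
      rw [h2, div_zero]
    have h3 : (a : K) = (s : K) * ((a : K) / (s : K)) := by
      rw [mul_div_cancel₀ _ hs0]
    rw [h3]
    exact IsTower.QS_mul (h.le_V 0 s.2) hq
  rw [h0, Submodule.mem_bot] at h1
  apply hq0
  change (a : K) / (s : K) = 0
  rw [h1]
  simp

instance PI_isPrime (i : ℕ) : (h.PI i).IsPrime where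
  ne_top' := by
    rw [Ne, Ideal.eq_top_iff_one]
    intro h1
    have h2 := h1 1
    simp only [OneMemClass.coe_one, pow_one, one_div] at h2
    exact h.isPar.inv_notMem h2
  mem_or_mem' := by
    intro a b hab
    exact h.QS_of_mul (h.le_V i a.2) (h.le_V i b.2) hab

theorem PI_ne_max (i : ℕ) : h.PI i ≠ maximalIdeal (A i).toSubring := by
  intro he
  have h1 : (⟨x, (h.step i).mem.1⟩ : (A i).toSubring) ∈ h.PI i := by
    rw [he]; exact (h.step i).mem.2
  exact x_notMem_Q h.isPar h1

theorem exists_val_tower [IsFractionRing (A 0).toSubring K] [IsNoetherianRing (A 0).toSubring]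
    [IsIntegrallyClosed (A 0).toSubring] (hd : ringKrullDim (A 0).toSubring ≤ 2) (y z : K) :
    ∃ a ∈ (A 0).toSubring, ∃ s ∈ (A 0).toSubring, s ∉ IsTower.QS x V ∧
      (s * y = a * z ∨ s * z = a * y) := by
  have := valuationRing_localization hd (h.PI 0) (PI_ne_max h 0)
  obtain ⟨y1, y2, hy2, rfl⟩ := IsFractionRing.div_surjective (A := (A 0).toSubring) y
  obtain ⟨z1, z2, hz2, rfl⟩ := IsFractionRing.div_surjective (A := (A 0).toSubring) z
  obtain ⟨c, s, hs, hcs⟩ := exists_val (h.PI 0) (y1 * z2) (z1 * y2)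
  have hy20 : (y2 : K) ≠ 0 := fun h0 => nonZeroDivisors.ne_zero hy2 (Subtype.ext h0)
  have hz20 : (z2 : K) ≠ 0 := fun h0 => nonZeroDivisors.ne_zero hz2 (Subtype.ext h0)
  refine ⟨c, c.2, s, s.2, hs, ?_⟩
  rcases hcs with h1 | h1
  · left
    have h2 : (s : K) * (y1 * z2) = c * (z1 * y2) := congrArg Subtype.val h1
    change (s : K) * (y1 / y2) = c * (z1 / z2)
    field_simp
    linear_combination h2
  · right
    have h2 : (s : K) * (z1 * y2) = c * (y1 * z2) := congrArg Subtype.val h1
    change (s : K) * (z1 / z2) = c * (y1 / y2)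
    field_simp
    linear_combination h2

/-- Every element of `V` is a fraction of elements of `A 0` with denominator not in `Q`. -/
theorem exists_frac_of_mem [IsFractionRing (A 0).toSubring K] [IsNoetherianRing (A 0).toSubring]
    [IsIntegrallyClosed (A 0).toSubring] (hd : ringKrullDim (A 0).toSubring ≤ 2) {v : K}
    (hv : v ∈ V) : ∃ a ∈ (A 0).toSubring, ∃ s ∈ (A 0).toSubring, s ∉ IsTower.QS x V ∧
      s * v = a := by
  obtain ⟨a, ha, s, hs, hsq, h1 | h1⟩ := exists_val_tower h hd v 1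
  · exact ⟨a, ha, s, hs, hsq, by rw [h1, mul_one]⟩
  · refine ⟨s, hs, a, ha, fun haq => hsq ?_, by rw [← h1, mul_one]⟩
    rw [mul_one] at h1
    rw [h1, mul_comm]
    exact IsTower.QS_mul hv haq

/-- `c ∈ V / Q` is the class of an element of `A n`. -/
def Lift (n : ℕ) (c : V ⧸ Q V x h.isPar) : Prop :=
  ∃ (v : K) (hv : v ∈ (A n).toSubring), Ideal.Quotient.mk _ (⟨v, h.le_V n hv⟩ : V) = c

theorem Lift.mono {m n : ℕ} (hmn : m ≤ n) {c : V ⧸ Q V x h.isPar} (hc : Lift h m c) :
    Lift h n c := by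
  obtain ⟨v, hv, rfl⟩ := hc
  exact ⟨v, (h.mono hmn).1 hv, rfl⟩

theorem exists_lift (c : V ⧸ Q V x h.isPar) : ∃ n, Lift h n c := by
  obtain ⟨⟨v, hv⟩, rfl⟩ := Ideal.Quotient.mk_surjective c
  obtain ⟨n, hn⟩ := (h.mem_iff v).1 hv
  exact ⟨n, v, hn, rfl⟩

theorem exists_lift_finset (F : Finset (V ⧸ Q V x h.isPar)) : ∃ n, ∀ c ∈ F, Lift h n c := by
  classical
  induction F using Finset.induction_on with
  | empty => exact ⟨0, by simp⟩
  | insert w F _ ih =>
    obtain ⟨n, hn⟩ := ih
    obtain ⟨m, hm⟩ := exists_lift h w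
    refine ⟨max m n, fun c hc => ?_⟩
    rcases Finset.mem_insert.1 hc with rfl | hc
    · exact hm.mono h (le_max_left _ _)
    · exact (hn c hc).mono h (le_max_right _ _)

/-- If the prime quotients of `A 0` have finite normalization then `A n → V / Q` is surjective for
some `n`. -/
theorem exists_surj [IsFractionRing (A 0).toSubring K] [IsNoetherianRing (A 0).toSubring]
    [IsIntegrallyClosed (A 0).toSubring] (hd : ringKrullDim (A 0).toSubring ≤ 2)
    (hq : ∃ q ∈ IsTower.QS x V, q ≠ 0)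
    (hN : ∀ (p : Ideal (A 0).toSubring) [p.IsPrime], Module.Finite ((A 0).toSubring ⧸ p)
      (integralClosure ((A 0).toSubring ⧸ p) (FractionRing ((A 0).toSubring ⧸ p)))) :
    ∃ n, ∀ z ∈ V, ∃ a ∈ (A n).toSubring, z - a ∈ IsTower.QS x V := by
  have hp0 : h.PI 0 ≠ ⊥ := PI_zero_ne_bot h hq
  have hDim : Ring.DimensionLEOne ((A 0).toSubring ⧸ h.PI 0) := dimensionLEOne_quot hd _ hp0
  have hfin := hN (h.PI 0)
  have hO := isDVR h.isPar
  let φ : ((A 0).toSubring ⧸ h.PI 0) →+* (V ⧸ Q V x h.isPar) :=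
    Ideal.quotientMap (Q V x h.isPar) (Subring.inclusion (h.le_V 0)) (fun _ hz => hz)
  have hφ : Function.Injective φ := Ideal.quotientMap_injective' (fun _ hz => hz)
  let _ : Algebra ((A 0).toSubring ⧸ h.PI 0) (V ⧸ Q V x h.isPar) := φ.toAlgebra
  have : FaithfulSMul ((A 0).toSubring ⧸ h.PI 0) (V ⧸ Q V x h.isPar) :=
    (faithfulSMul_iff_algebraMap_injective _ _).2 hφ
  have hsmul : ∀ (n : ℕ) (d : (A 0).toSubring ⧸ h.PI 0) (c : V ⧸ Q V x h.isPar), Lift h n c →
      Lift h n (d • c) := by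
    intro n d c hc
    obtain ⟨v, hv, rfl⟩ := hc
    obtain ⟨d, rfl⟩ := Ideal.Quotient.mk_surjective d
    refine ⟨d * v, (A n).toSubring.mul_mem ((h.mono (Nat.zero_le n)).1 d.2) hv, ?_⟩
    rw [Algebra.smul_def]
    change _ = φ _ * _
    rw [Ideal.quotientMap_mk, ← map_mul]
    rfl
  obtain ⟨C, ⟨F, hF⟩, hC⟩ := exists_finite_subalgebra ((A 0).toSubring ⧸ h.PI 0)
    (V ⧸ Q V x h.isPar) (by
      intro o
      obtain ⟨⟨v, hv⟩, rfl⟩ := Ideal.Quotient.mk_surjective o
      obtain ⟨a, ha, s, hs, hsq, he⟩ := exists_frac_of_mem h hd hv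
      refine ⟨Ideal.Quotient.mk _ ⟨a, ha⟩, Ideal.Quotient.mk _ ⟨s, hs⟩, ?_, ?_⟩
      · rw [Ne, Ideal.Quotient.eq_zero_iff_mem]
        exact hsq
      · change φ _ * _ = φ _
        rw [Ideal.quotientMap_mk, Ideal.quotientMap_mk, ← map_mul]
        congr 1
        exact Subtype.ext he)
  obtain ⟨n, hn⟩ := exists_lift_finset h F
  have hCl : ∀ c ∈ C, Lift h n c := by
    intro c hc
    have hc' : c ∈ Submodule.span ((A 0).toSubring ⧸ h.PI 0) (F : Set (V ⧸ Q V x h.isPar)) := by
      rw [hF]; exact hc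
    clear hc
    induction hc' using Submodule.span_induction with
    | mem w hw => exact hn w hw
    | zero => exact ⟨0, (A n).toSubring.zero_mem, map_zero _⟩
    | add a b _ _ ha hb =>
      obtain ⟨v, hv, rfl⟩ := ha
      obtain ⟨w, hw, rfl⟩ := hb
      exact ⟨v + w, (A n).toSubring.add_mem hv hw, map_add (Ideal.Quotient.mk (Q V x h.isPar))
        (⟨v, h.le_V n hv⟩ : V) ⟨w, h.le_V n hw⟩⟩
    | smul d c _ hc => exact hsmul n d c hc
  refine ⟨n, fun z hz => ?_⟩
  obtain ⟨c, hc, s, hs, hsu, hsc⟩ := hC (Ideal.Quotient.mk _ ⟨z, hz⟩)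
  obtain ⟨c', hc', rfl⟩ := hCl c hc
  obtain ⟨s', hs', rfl⟩ := hCl s hs
  rw [isUnit_mk_iff h.isPar] at hsu
  have h1 : ¬ Mx (A n) s' := by
    intro h1
    have h2 : s' / x ∈ V := h.le_V (n + 1) ((h.step n).div_mem s' h1)
    obtain ⟨w, hw⟩ := hsu.exists_right_inv
    have h3 : s' * (w : K) = 1 := congrArg Subtype.val hw
    have h4 := V.mul_mem h2 w.2
    have h5 : s' / x * (w : K) = x⁻¹ := by
      rw [div_mul_eq_mul_div, h3, one_div]
    rw [h5] at h4
    exact h.isPar.inv_notMem h4
  obtain ⟨h2, h3⟩ := inv_mem_of_not_mx hs' h1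
  refine ⟨s'⁻¹ * c', (A n).toSubring.mul_mem h2 hc', ?_⟩
  rw [← map_mul, Ideal.Quotient.eq] at hsc
  have h4 : s' * z - c' ∈ IsTower.QS x V := hsc
  have h5 : z - s'⁻¹ * c' = s'⁻¹ * (s' * z - c') := by
    field_simp
  rw [h5]
  exact IsTower.QS_mul (h.le_V n h2) h4

end Tower

/-- **Arc lemma.** Let `B` be a complete normal Noetherian local domain with fraction field `K`
whose maximal ideal is not principal, dominated by `A 0`, and `A 0 ≤ A 1 ≤ ...` a tower of quadratic
transforms with constant exceptional parameter `x` and bounded residue fields.  Assume that `A 0` is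
normal of dimension at most two and that its prime quotients have finite normalization.  Then for
large `i` the maximal ideal of `A i` is generated by `x` and one more element. -/
theorem arc_lemma {K : Type u} [Field K] {A : ℕ → LocalSubring K} {x : K} {V : Subring K}
    (h : IsTower A x V) (B : LocalSubring K) (hB : B ≤ A 0)
    [IsAdicComplete (maximalIdeal B.toSubring) B.toSubring]
    (hBint : ∀ z : K, IsIntegral B.toSubring z → z ∈ B.toSubring)
    (hBp : ¬ (maximalIdeal B.toSubring).IsPrincipal) (t : Finset K) (htV : ∀ z ∈ t, z ∈ V)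
    (hres : ∀ i, ∀ z ∈ (A i).toSubring, ∃ a ∈ Submodule.span B.toSubring (t : Set K),
      Mx (A i) (z - a))
    [∀ i, IsNoetherianRing (A i).toSubring] [IsFractionRing (A 0).toSubring K]
    [IsIntegrallyClosed (A 0).toSubring] (hd : ringKrullDim (A 0).toSubring ≤ 2)
    (hN : ∀ (p : Ideal (A 0).toSubring) [p.IsPrime], Module.Finite ((A 0).toSubring ⧸ p)
      (integralClosure ((A 0).toSubring ⧸ p) (FractionRing ((A 0).toSubring ⧸ p)))) :
    ∃ N, ∀ i, N ≤ i → ∃ y : (A i).toSubring,
      maximalIdeal (A i).toSubring = Ideal.span {(⟨x, (h.step i).mem.1⟩ : (A i).toSubring), y} := by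
  have hq := h.exists_QS_ne_zero B hB hBint hBp t htV hres
  obtain ⟨n, hn⟩ := exists_surj h hd hq hN
  have hval := exists_val_tower h hd
  obtain ⟨N, hN'⟩ := (h.shift n).exists_maximalIdeal_eq hn (by
    intro y z
    obtain ⟨a, ha, s, hs, hsq, he⟩ := hval y z
    exact ⟨a, (h.mono (Nat.zero_le n)).1 ha, s, (h.mono (Nat.zero_le n)).1 hs, hsq, he⟩)
  refine ⟨n + N, fun i hi => ?_⟩
  obtain ⟨j, rfl⟩ := Nat.exists_eq_add_of_le (show n ≤ i by omega)
  exact hN' j (by omega)

end Groth.Agent.Ega2.ArcSurj
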