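import Groth.Agent.Ega2.ArcVal
import Mathlib.RingTheory.Nakayama
import Mathlib.RingTheory.Jacobson.Ideal

/-!
# Towers of quadratic transforms with a constant exceptional parameter

`A 0 ≤ A 1 ≤ ...` are Noetherian local subrings of a field `K`, `A (i + 1)` is a localization of
`(A i)[𝔪 / x]` dominating `A i`, with the same `x` for all `i`.  Let `V` be the union and
`Q = ⋂ x ^ n V`.  If `A 0 → V / Q` is surjective and the localization of `A 0` at `Q ∩ A 0` is a
valuation ring, then the maximal ideal of `A i` is generated by two elements for large `i`.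
-/

set_option autoImplicit false

universe u

open IsLocalRing

namespace Groth.Agent.Ega2.ArcTower

open ArcVal

variable {K : Type u} [Field K]

/-- `y` lies in the maximal ideal of the local subring `A`. -/
def Mx (A : LocalSubring K) (y : K) : Prop :=
  ∃ h : y ∈ A.toSubring, (⟨y, h⟩ : A.toSubring) ∈ maximalIdeal A.toSubring

theorem inv_mem_of_not_mx {A : LocalSubring K} {y : K} (hy : y ∈ A.toSubring) (h : ¬ Mx A y) :
    y⁻¹ ∈ A.toSubring ∧ y ≠ 0 := by
  have h1 : IsUnit (⟨y, hy⟩ : A.toSubring) := by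
    by_contra hc
    exact h ⟨hy, (mem_maximalIdeal _).2 hc⟩
  obtain ⟨w, hw⟩ := h1
  have h2 : y * (((w⁻¹ : (A.toSubring)ˣ) : A.toSubring) : K) = 1 := by
    have h3 : (w : A.toSubring) * ((w⁻¹ : (A.toSubring)ˣ) : A.toSubring) = 1 := w.mul_inv
    rw [hw] at h3
    exact congrArg Subtype.val h3
  constructor
  · rw [inv_eq_of_mul_eq_one_right h2]
    exact Subtype.property _
  · rintro rfl
    rw [zero_mul] at h2
    exact zero_ne_one h2

theorem not_mx_of_inv_mem {A : LocalSubring K} {y : K} (h0 : y ≠ 0) (hy' : y⁻¹ ∈ A.toSubring) :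
    ¬ Mx A y := by
  rintro ⟨hy, h1⟩
  rw [mem_maximalIdeal] at h1
  refine h1 (IsUnit.of_mul_eq_one ⟨y⁻¹, hy'⟩ ?_)
  exact Subtype.ext (mul_inv_cancel₀ h0)

theorem Mx.of_le {A A' : LocalSubring K} (h : A ≤ A') {y : K} (hy : Mx A y) : Mx A' y := by
  obtain ⟨h1, h2⟩ := h
  obtain ⟨h3, h4⟩ := hy
  refine ⟨h1 h3, ?_⟩
  rw [mem_maximalIdeal] at h4 ⊢
  intro h5
  exact h4 (h2.map_nonunit ⟨y, h3⟩ h5)

/-- The chart `A[𝔪 / x]` of the blow-up of the maximal ideal. -/
def chart (A : LocalSubring K) (x : K) : Subring K :=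
  Subring.closure ((A.toSubring : Set K) ∪ {w | ∃ y, Mx A y ∧ w = y / x})

/-- `A'` is a localization of `A[𝔪 / x]` and dominates `A`. -/
structure IsStep (A A' : LocalSubring K) (x : K) : Prop where
  le : A ≤ A'
  mem : Mx A x
  div_mem : ∀ y, Mx A y → y / x ∈ A'.toSubring
  frac : ∀ z ∈ A'.toSubring, ∃ s ∈ chart A x, s⁻¹ ∈ A'.toSubring ∧ s ≠ 0 ∧ z * s ∈ chart A x

theorem IsStep.chart_le {A A' : LocalSubring K} {x : K} (h : IsStep A A' x) :
    chart A x ≤ A'.toSubring := by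
  rw [chart, Subring.closure_le]
  rintro z (hz | ⟨y, hy, rfl⟩)
  · exact h.le.1 hz
  · exact h.div_mem y hy

/-- A tower of quadratic transforms with constant exceptional parameter `x` and union `V`. -/
structure IsTower (A : ℕ → LocalSubring K) (x : K) (V : Subring K) : Prop where
  ne : x ≠ 0
  step : ∀ i, IsStep (A i) (A (i + 1)) x
  mem_iff : ∀ z, z ∈ V ↔ ∃ i, z ∈ (A i).toSubring

namespace IsTower

variable {A : ℕ → LocalSubring K} {x : K} {V : Subring K} (h : IsTower A x V)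

include h

theorem mono : Monotone A := monotone_nat_of_le_succ fun i => (h.step i).le

theorem le_V (i : ℕ) : (A i).toSubring ≤ V := fun z hz => (h.mem_iff z).2 ⟨i, hz⟩

theorem shift (n : ℕ) : IsTower (fun j => A (n + j)) x V where
  ne := h.ne
  step i := h.step (n + i)
  mem_iff z := by
    rw [h.mem_iff]
    constructor
    · rintro ⟨i, hi⟩
      exact ⟨i, (h.mono (Nat.le_add_left i n)).1 hi⟩
    · rintro ⟨i, hi⟩
      exact ⟨n + i, hi⟩

theorem isPar : IsPar V x where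
  ne := h.ne
  mem := h.le_V 0 (h.step 0).mem.1
  inv_notMem hx := by
    obtain ⟨i, hi⟩ := (h.mem_iff _).1 hx
    exact not_mx_of_inv_mem h.ne hi (h.step i).mem
  inv_or_div z hz h0 := by
    obtain ⟨i, hi⟩ := (h.mem_iff _).1 hz
    by_cases h1 : Mx (A i) z
    · exact Or.inr (h.le_V (i + 1) ((h.step i).div_mem z h1))
    · exact Or.inl (h.le_V i (inv_mem_of_not_mx hi h1).1)

/-- `Q` as a subset of `K`. -/
def QS (x : K) (V : Subring K) : Set K := {z | ∀ n : ℕ, z / x ^ n ∈ V}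

omit h in
theorem QS_mem {z : K} (hz : z ∈ QS x V) : z ∈ V := by simpa using hz 0

omit h in
theorem QS_add {y z : K} (hy : y ∈ QS x V) (hz : z ∈ QS x V) : y + z ∈ QS x V := fun n => by
  rw [add_div]; exact V.add_mem (hy n) (hz n)

omit h in
theorem QS_mul {y z : K} (hy : y ∈ V) (hz : z ∈ QS x V) : y * z ∈ QS x V := fun n => by
  rw [mul_div_assoc]; exact V.mul_mem hy (hz n)

omit h in
theorem QS_zero : (0 : K) ∈ QS x V := fun n => by simp

omit h in
theorem QS_neg {z : K} (hz : z ∈ QS x V) : -z ∈ QS x V := fun n => by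
  rw [neg_div]; exact V.neg_mem (hz n)

omit h in
theorem QS_sub {y z : K} (hy : y ∈ QS x V) (hz : z ∈ QS x V) : y - z ∈ QS x V := by
  rw [sub_eq_add_neg]; exact QS_add hy (QS_neg hz)

omit h in
theorem QS_div {z : K} (hz : z ∈ QS x V) : z / x ∈ QS x V := fun n => by
  have := hz (n + 1)
  rwa [pow_succ', ← div_div] at this

theorem QS_iff {z : K} (hz : z ∈ V) : (⟨z, hz⟩ : V) ∈ Q V x h.isPar ↔ z ∈ QS x V := Iff.rfl

theorem mx_of_QS {i : ℕ} {z : K} (hz : z ∈ (A i).toSubring) (hq : z ∈ QS x V) : Mx (A i) z := by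
  by_contra hc
  obtain ⟨h1, h2⟩ := inv_mem_of_not_mx hz hc
  have h3 := V.mul_mem (QS_mem (QS_div hq)) (h.le_V i h1)
  have h4 : z / x * z⁻¹ = x⁻¹ := by
    have := h.ne
    field_simp
  rw [h4] at h3
  exact h.isPar.inv_notMem h3

theorem QS_of_mul {y z : K} (hy : y ∈ V) (hz : z ∈ V) (hyz : y * z ∈ QS x V) :
    y ∈ QS x V ∨ z ∈ QS x V := by
  have := (isPrime_Q h.isPar).mem_or_mem (x := ⟨y, hy⟩) (y := ⟨z, hz⟩) hyz
  exact this

/-- The ideal `Q ∩ A i`, as a module over `A 0`. -/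
def P (i : ℕ) : Submodule (A 0).toSubring K where
  carrier := {z | z ∈ (A i).toSubring ∧ z ∈ QS x V}
  zero_mem' := ⟨(A i).toSubring.zero_mem, QS_zero⟩
  add_mem' ha hb := ⟨(A i).toSubring.add_mem ha.1 hb.1, QS_add ha.2 hb.2⟩
  smul_mem' c _ ha := ⟨(A i).toSubring.mul_mem ((h.mono (Nat.zero_le i)).1 c.2) ha.1,
    QS_mul (h.le_V 0 c.2) ha.2⟩

theorem mem_P {i : ℕ} {z : K} : z ∈ h.P i ↔ z ∈ (A i).toSubring ∧ z ∈ QS x V := Iff.rfl

theorem P_mono {i j : ℕ} (hij : i ≤ j) : h.P i ≤ h.P j := fun _ hz =>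
  ⟨(h.mono hij).1 hz.1, hz.2⟩

theorem div_mem_P {i : ℕ} {z : K} (hz : z ∈ h.P i) : z / x ∈ h.P (i + 1) :=
  ⟨(h.step i).div_mem z (h.mx_of_QS hz.1 hz.2), QS_div hz.2⟩

theorem mul_mem_P {i : ℕ} {a z : K} (ha : a ∈ (A i).toSubring) (hz : z ∈ h.P i) :
    a * z ∈ h.P i :=
  ⟨(A i).toSubring.mul_mem ha hz.1, QS_mul (h.le_V i ha) hz.2⟩

theorem mul_mem_P2 {i : ℕ} {a z : K} (ha : a ∈ (A i).toSubring) (hz : z ∈ h.P i * h.P i) :
    a * z ∈ h.P i * h.P i := by
  induction hz using Submodule.mul_induction_on' with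
  | mem_mul_mem m hm n hn =>
    rw [← mul_assoc]
    exact Submodule.mul_mem_mul (h.mul_mem_P ha hm) hn
  | add y _ z _ hy hz =>
    rw [mul_add]
    exact Submodule.add_mem _ hy hz

theorem P2_le (i : ℕ) : h.P i * h.P i ≤ h.P i := by
  rw [Submodule.mul_le]
  intro m hm n hn
  exact h.mul_mem_P hm.1 hn

theorem P2_mono {i j : ℕ} (hij : i ≤ j) : h.P i * h.P i ≤ h.P j * h.P j :=
  mul_le_mul' (h.P_mono hij) (h.P_mono hij)

theorem div_mem_P2 {i : ℕ} {z : K} (hz : z ∈ h.P i * h.P i) :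
    z / x ∈ h.P (i + 1) * h.P (i + 1) := by
  induction hz using Submodule.mul_induction_on' with
  | mem_mul_mem m hm n hn =>
    rw [mul_div_right_comm]
    exact Submodule.mul_mem_mul (h.div_mem_P hm) (h.P_mono (Nat.le_succ i) hn)
  | add y _ z _ hy hz =>
    rw [add_div]
    exact Submodule.add_mem _ hy hz

theorem div2_mem_P2 {i : ℕ} {z : K} (hz : z ∈ h.P i * h.P i) :
    z / x / x ∈ h.P (i + 1) * h.P (i + 1) := by
  induction hz using Submodule.mul_induction_on' with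
  | mem_mul_mem m hm n hn =>
    have : m * n / x / x = (m / x) * (n / x) := by ring
    rw [this]
    exact Submodule.mul_mem_mul (h.div_mem_P hm) (h.div_mem_P hn)
  | add y _ z _ hy hz =>
    rw [add_div, add_div]
    exact Submodule.add_mem _ hy hz

/-- Division by `x` as a linear map over `A 0`. -/
noncomputable def divX (_ : IsTower A x V) : K →ₗ[(A 0).toSubring] K where
  toFun z := z / x
  map_add' a b := add_div a b x
  map_smul' c a := by
    change (c : K) * a / x = (c : K) * (a / x)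
    rw [mul_div_assoc]

theorem exists_sub_mem_P (hs : ∀ z ∈ V, ∃ a ∈ (A 0).toSubring, z - a ∈ QS x V) {i : ℕ} {z : K}
    (hz : z ∈ (A i).toSubring) : ∃ a ∈ (A 0).toSubring, z - a ∈ h.P i := by
  obtain ⟨a, ha, haq⟩ := hs z (h.le_V i hz)
  exact ⟨a, ha, (A i).toSubring.sub_mem hz ((h.mono (Nat.zero_le i)).1 ha), haq⟩

/-- `P (i + 1) = P i / x + P (i + 1) ^ 2`. -/
theorem P_succ_le (hs : ∀ z ∈ V, ∃ a ∈ (A 0).toSubring, z - a ∈ QS x V) (i : ℕ) :
    h.P (i + 1) ≤ (h.P i).map h.divX ⊔ h.P (i + 1) * h.P (i + 1) := by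
  set J := (h.P i).map h.divX ⊔ h.P (i + 1) * h.P (i + 1) with hJ
  have hdiv : ∀ y ∈ h.P i, y / x ∈ J := fun y hy =>
    Submodule.mem_sup_left ⟨y, hy, rfl⟩
  have hJP : J ≤ h.P (i + 1) := by
    refine sup_le ?_ (h.P2_le _)
    rintro _ ⟨y, hy, rfl⟩
    exact h.div_mem_P hy
  have hmul : ∀ c ∈ (A (i + 1)).toSubring, ∀ w ∈ J, c * w ∈ J := by
    intro c hc w hw
    obtain ⟨r, hr, hp⟩ := h.exists_sub_mem_P hs hc
    obtain ⟨w1, ⟨y, hy, rfl⟩, q, hq, rfl⟩ := Submodule.mem_sup.1 hw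
    have h1 : c * (h.divX y + q) = (⟨r, hr⟩ : (A 0).toSubring) • (h.divX y) +
        ((c - r) * h.divX y + c * q) := by
      change c * (y / x + q) = r * (y / x) + ((c - r) * (y / x) + c * q)
      ring
    rw [h1]
    refine J.add_mem (J.smul_mem _ (Submodule.mem_sup_left ⟨y, hy, rfl⟩))
      (Submodule.mem_sup_right (Submodule.add_mem _ ?_ (h.mul_mem_P2 hc hq)))
    exact Submodule.mul_mem_mul hp (h.div_mem_P hy)
  have hJA : ∀ w ∈ J, w ∈ (A (i + 1)).toSubring := fun w hw => (hJP hw).1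
  have hle : (A i).toSubring ≤ (A (i + 1)).toSubring := (h.step i).le.1
  have hchart : ∀ w ∈ chart (A i) x, ∃ c ∈ (A i).toSubring, w - c ∈ J := by
    intro w hw
    induction hw using Subring.closure_induction with
    | mem w hw =>
      rcases hw with hw | ⟨y, hy, rfl⟩
      · exact ⟨w, hw, by simp⟩
      · obtain ⟨r, hr, hq⟩ := hs (y / x) (h.le_V _ ((h.step i).div_mem y hy))
        have hr' : r ∈ (A i).toSubring := (h.mono (Nat.zero_le i)).1 hr
        refine ⟨r, hr', ?_⟩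
        have h1 : y / x - r = (y - x * r) / x := by
          rw [sub_div, mul_div_cancel_left₀ _ h.ne]
        rw [h1]
        refine hdiv _ ⟨(A i).toSubring.sub_mem hy.1
          ((A i).toSubring.mul_mem (h.step i).mem.1 hr'), ?_⟩
        have h2 : y - x * r = x * (y / x - r) := by
          rw [mul_sub, mul_div_cancel₀ _ h.ne]
        rw [h2]
        exact QS_mul h.isPar.mem hq
    | zero => exact ⟨0, (A i).toSubring.zero_mem, by simp⟩
    | one => exact ⟨1, (A i).toSubring.one_mem, by simp⟩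
    | add w w' _ _ hw hw' =>
      obtain ⟨c, hc, hcw⟩ := hw
      obtain ⟨c', hc', hcw'⟩ := hw'
      refine ⟨c + c', (A i).toSubring.add_mem hc hc', ?_⟩
      rw [add_sub_add_comm]
      exact J.add_mem hcw hcw'
    | neg w _ hw =>
      obtain ⟨c, hc, hcw⟩ := hw
      refine ⟨-c, (A i).toSubring.neg_mem hc, ?_⟩
      have h1 : -w - -c = -(w - c) := by ring
      rw [h1]
      exact J.neg_mem hcw
    | mul w w' _ _ hw hw' =>
      obtain ⟨c, hc, hcw⟩ := hw
      obtain ⟨c', hc', hcw'⟩ := hw'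
      refine ⟨c * c', (A i).toSubring.mul_mem hc hc', ?_⟩
      have h1 : w * w' - c * c' = c * (w' - c') + (c' * (w - c) + (w - c) * (w' - c')) := by ring
      rw [h1]
      exact J.add_mem (hmul _ (hle hc) _ hcw') (J.add_mem (hmul _ (hle hc') _ hcw)
        (hmul _ (hJA _ hcw) _ hcw'))
  intro z hz
  obtain ⟨s, hs1, hs2, hs0, hzs⟩ := (h.step i).frac z hz.1
  obtain ⟨c, hc, hcJ⟩ := hchart _ hzs
  have hcq : c ∈ QS x V := by
    have h1 : z * s ∈ QS x V := by
      rw [mul_comm]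
      exact QS_mul (h.le_V _ ((h.step i).chart_le hs1)) hz.2
    have h2 := QS_sub h1 (hJP hcJ).2
    simpa using h2
  have hcJ' : c ∈ J := by
    have h1 := hmul x (hle (h.step i).mem.1) _ (hdiv c ⟨hc, hcq⟩)
    rwa [mul_div_cancel₀ _ h.ne] at h1
  have h3 : z * s ∈ J := by
    have := J.add_mem hcJ hcJ'
    simpa using this
  have h4 := hmul _ hs2 _ h3
  rwa [mul_comm z s, inv_mul_cancel_left₀ hs0] at h4

theorem exists_P_zero (hs : ∀ z ∈ V, ∃ a ∈ (A 0).toSubring, z - a ∈ QS x V) (i : ℕ) {y : K}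
    (hy : y ∈ h.P i) : ∃ y0 ∈ h.P 0, y - y0 / x ^ i ∈ h.P i * h.P i := by
  induction i generalizing y with
  | zero => exact ⟨y, hy, by simp⟩
  | succ i ih =>
    obtain ⟨w1, ⟨y', hy', rfl⟩, q', hq', rfl⟩ := Submodule.mem_sup.1 (h.P_succ_le hs i hy)
    obtain ⟨y0, hy0, hq⟩ := ih hy'
    refine ⟨y0, hy0, ?_⟩
    have h1 : h.divX y' + q' - y0 / x ^ (i + 1) = (y' - y0 / x ^ i) / x + q' := by
      change y' / x + q' - y0 / x ^ (i + 1) = (y' - y0 / x ^ i) / x + q'
      rw [sub_div, div_div, pow_succ]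
      ring
    rw [h1]
    exact Submodule.add_mem _ (h.div_mem_P2 hq) hq'

/-- The ideal of `r ∈ P 0` such that `r / x ^ i ∈ P i ^ 2`. -/
def T (i : ℕ) : Ideal (A 0).toSubring where
  carrier := {r | (r : K) ∈ h.P 0 ∧ (r : K) / x ^ i ∈ h.P i * h.P i}
  zero_mem' := ⟨Submodule.zero_mem _, by simp⟩
  add_mem' {a b} ha hb := ⟨Submodule.add_mem _ ha.1 hb.1, by
    change ((a : K) + (b : K)) / x ^ i ∈ h.P i * h.P i
    rw [add_div]; exact Submodule.add_mem _ ha.2 hb.2⟩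
  smul_mem' c a ha := ⟨Submodule.smul_mem _ c ha.1, by
    change ((c : K) * (a : K)) / x ^ i ∈ h.P i * h.P i
    rw [mul_div_assoc]
    exact Submodule.smul_mem _ c ha.2⟩

theorem T_mono : Monotone h.T := monotone_nat_of_le_succ fun i r hr => by
  refine ⟨hr.1, ?_⟩
  rw [pow_succ, ← div_div]
  exact h.div_mem_P2 hr.2

theorem exists_T_eq [IsNoetherianRing (A 0).toSubring] : ∃ n, ∀ m, n ≤ m → h.T n = h.T m :=
  monotone_stabilizes_iff_noetherian.2 inferInstance ⟨h.T, h.T_mono⟩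

theorem P_zero_mem {y : K} (hy : y ∈ h.P 0) : y ∈ (A 0).toSubring := hy.1

/-- For large `i`, `P i / P i ^ 2` has no `x`-torsion. -/
theorem mem_P2_of_mul (hs : ∀ z ∈ V, ∃ a ∈ (A 0).toSubring, z - a ∈ QS x V) {i : ℕ}
    (hi : h.T i = h.T (i + 1)) {y : K} (hy : y ∈ h.P i) (hxy : x * y ∈ h.P i * h.P i) :
    y ∈ h.P i * h.P i := by
  obtain ⟨y0, hy0, hq⟩ := h.exists_P_zero hs i hy
  have hx : x ∈ (A i).toSubring := (h.step i).mem.1
  have h1 : x * (y0 / x ^ i) ∈ h.P i * h.P i := by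
    have h2 := Submodule.sub_mem _ hxy (h.mul_mem_P2 hx hq)
    rw [← mul_sub, sub_sub_cancel] at h2
    exact h2
  have h2 := h.div2_mem_P2 h1
  rw [mul_div_cancel_left₀ _ h.ne, div_div, ← pow_succ] at h2
  have h3 : (⟨y0, hy0.1⟩ : (A 0).toSubring) ∈ h.T (i + 1) := ⟨hy0, h2⟩
  rw [← hi] at h3
  have h4 := Submodule.add_mem _ hq h3.2
  simpa using h4

theorem mem_P2_of_pow_mul (hs : ∀ z ∈ V, ∃ a ∈ (A 0).toSubring, z - a ∈ QS x V) {i : ℕ}
    (hi : h.T i = h.T (i + 1)) (k : ℕ) {y : K} (hy : y ∈ h.P i)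
    (hxy : x ^ k * y ∈ h.P i * h.P i) : y ∈ h.P i * h.P i := by
  induction k with
  | zero => simpa using hxy
  | succ k ih =>
    apply ih
    rw [pow_succ', mul_assoc] at hxy
    refine h.mem_P2_of_mul hs hi (h.mul_mem_P ((A i).toSubring.pow_mem (h.step i).mem.1 k) hy) hxy

/-- An element of `A 0` not in `Q` is `x ^ k r + p` with `r` a unit of `A 0` and `p ∈ P 0`. -/
theorem exists_eq (hs : ∀ z ∈ V, ∃ a ∈ (A 0).toSubring, z - a ∈ QS x V) {s : K}
    (hs0 : s ∈ (A 0).toSubring) (hsq : s ∉ QS x V) :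
    ∃ (k : ℕ) (r : K), r ∈ (A 0).toSubring ∧ r⁻¹ ∈ (A 0).toSubring ∧ r ≠ 0 ∧
      s - x ^ k * r ∈ h.P 0 := by
  obtain ⟨k, hk, hk', h0⟩ := exists_unit_of_notMem h.isPar (h.le_V 0 hs0) hsq
  obtain ⟨r, hr, hrq⟩ := hs _ hk
  have h1 : ¬ Mx (A 0) r := by
    intro h1
    have h2 : r / x ∈ V := h.le_V 1 ((h.step 0).div_mem r h1)
    have h3 : s / x ^ k / x ∈ V := by
      have := V.add_mem (QS_mem (QS_div hrq)) h2
      rw [← add_div, sub_add_cancel] at this
      exact this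
    have h4 := V.mul_mem h3 hk'
    have h5 : s / x ^ k / x * (s / x ^ k)⁻¹ = x⁻¹ := by
      have h6 : s / x ^ k ≠ 0 := div_ne_zero h0 (pow_ne_zero _ h.ne)
      have := h.ne
      rw [div_mul_eq_mul_div, mul_inv_cancel₀ h6, one_div]
    rw [h5] at h4
    exact h.isPar.inv_notMem h4
  obtain ⟨h2, h3⟩ := inv_mem_of_not_mx hr h1
  refine ⟨k, r, hr, h2, h3, ?_, ?_⟩
  · exact (A 0).toSubring.sub_mem hs0
      ((A 0).toSubring.mul_mem ((A 0).toSubring.pow_mem (h.step 0).mem.1 k) hr)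
  · have h4 : s - x ^ k * r = x ^ k * (s / x ^ k - r) := by
      rw [mul_sub, mul_div_cancel₀ _ (pow_ne_zero _ h.ne)]
    rw [h4]
    exact QS_mul (V.pow_mem h.isPar.mem k) hrq

/-- The submodule `(A 0) y + P i ^ 2`. -/
def L (i : ℕ) (y : K) : Submodule (A 0).toSubring K :=
  Submodule.span _ {y} ⊔ h.P i * h.P i

theorem mem_L {i : ℕ} {y z : K} :
    z ∈ h.L i y ↔ ∃ a ∈ (A 0).toSubring, z - a * y ∈ h.P i * h.P i := by
  rw [L, Submodule.mem_sup]
  constructor
  · rintro ⟨w, hw, q, hq, rfl⟩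
    obtain ⟨a, rfl⟩ := Submodule.mem_span_singleton.1 hw
    refine ⟨a, a.2, ?_⟩
    change (a : K) * y + q - a * y ∈ _
    rwa [add_sub_cancel_left]
  · rintro ⟨a, ha, hq⟩
    refine ⟨a * y, Submodule.mem_span_singleton.2 ⟨⟨a, ha⟩, rfl⟩, _, hq, by ring⟩

theorem L_or_L_aux (hs : ∀ z ∈ V, ∃ a ∈ (A 0).toSubring, z - a ∈ QS x V) {i : ℕ}
    (hi : h.T i = h.T (i + 1)) {y z : K} (hy : y ∈ h.P i) (hz : z ∈ h.P i) {a s : K}
    (ha : a ∈ (A 0).toSubring) (hs0 : s ∈ (A 0).toSubring) (hsq : s ∉ QS x V)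
    (he : s * y = a * z) : y ∈ h.L i z ∨ z ∈ h.L i y := by
  have h0i : (A 0).toSubring ≤ (A i).toSubring := (h.mono (Nat.zero_le i)).1
  have hx : x ∈ (A 0).toSubring := (h.step 0).mem.1
  obtain ⟨k, r, hr, hr', hr0, hp⟩ := h.exists_eq hs hs0 hsq
  have hpi : s - x ^ k * r ∈ h.P i := h.P_mono (Nat.zero_le i) hp
  by_cases haq : a ∈ QS x V
  · left
    have hai : a ∈ h.P i := ⟨h0i ha, haq⟩
    have h1 : x ^ k * y ∈ h.P i * h.P i := by
      have h2 : x ^ k * y = r⁻¹ * (a * z - (s - x ^ k * r) * y) := by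
        rw [← he]
        field_simp
        ring
      rw [h2]
      exact h.mul_mem_P2 (h0i hr') (Submodule.sub_mem _ (Submodule.mul_mem_mul hai hz)
        (Submodule.mul_mem_mul hpi hy))
    rw [h.mem_L]
    exact ⟨0, (A 0).toSubring.zero_mem, by simpa using h.mem_P2_of_pow_mul hs hi k hy h1⟩
  · obtain ⟨l, r', hr1, hr1', hr10, hp'⟩ := h.exists_eq hs ha haq
    have hpi' : a - x ^ l * r' ∈ h.P i := h.P_mono (Nat.zero_le i) hp'
    have h1 : x ^ k * r * y - x ^ l * r' * z ∈ h.P i * h.P i := by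
      have h2 : x ^ k * r * y - x ^ l * r' * z =
          (a - x ^ l * r') * z - (s - x ^ k * r) * y := by
        linear_combination he
      rw [h2]
      exact Submodule.sub_mem _ (Submodule.mul_mem_mul hpi' hz) (Submodule.mul_mem_mul hpi hy)
    rcases le_total k l with hkl | hkl
    · left
      obtain ⟨m, rfl⟩ := Nat.exists_eq_add_of_le hkl
      have hw : r * y - x ^ m * r' * z ∈ h.P i :=
        Submodule.sub_mem _ (h.mul_mem_P (h0i hr) hy) (h.mul_mem_P (h0i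
          ((A 0).toSubring.mul_mem ((A 0).toSubring.pow_mem hx m) hr1)) hz)
      have h3 : r * y - x ^ m * r' * z ∈ h.P i * h.P i := by
        refine h.mem_P2_of_pow_mul hs hi k hw ?_
        convert h1 using 1
        rw [pow_add]
        ring
      rw [h.mem_L]
      refine ⟨r⁻¹ * (x ^ m * r'), (A 0).toSubring.mul_mem hr'
        ((A 0).toSubring.mul_mem ((A 0).toSubring.pow_mem hx m) hr1), ?_⟩
      have h4 : y - r⁻¹ * (x ^ m * r') * z = r⁻¹ * (r * y - x ^ m * r' * z) := by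
        field_simp
      rw [h4]
      exact h.mul_mem_P2 (h0i hr') h3
    · right
      obtain ⟨m, rfl⟩ := Nat.exists_eq_add_of_le hkl
      have hw : r' * z - x ^ m * r * y ∈ h.P i :=
        Submodule.sub_mem _ (h.mul_mem_P (h0i hr1) hz) (h.mul_mem_P (h0i
          ((A 0).toSubring.mul_mem ((A 0).toSubring.pow_mem hx m) hr)) hy)
      have h3 : r' * z - x ^ m * r * y ∈ h.P i * h.P i := by
        refine h.mem_P2_of_pow_mul hs hi l hw ?_
        have h5 := Submodule.neg_mem _ h1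
        convert h5 using 1
        rw [pow_add]
        ring
      rw [h.mem_L]
      refine ⟨r'⁻¹ * (x ^ m * r), (A 0).toSubring.mul_mem hr1'
        ((A 0).toSubring.mul_mem ((A 0).toSubring.pow_mem hx m) hr), ?_⟩
      have h4 : z - r'⁻¹ * (x ^ m * r) * y = r'⁻¹ * (r' * z - x ^ m * r * y) := by
        field_simp
      rw [h4]
      exact h.mul_mem_P2 (h0i hr1') h3

theorem L_or_L (hs : ∀ z ∈ V, ∃ a ∈ (A 0).toSubring, z - a ∈ QS x V)
    (hv : ∀ y z : K, ∃ a ∈ (A 0).toSubring, ∃ s ∈ (A 0).toSubring, s ∉ QS x V ∧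
      (s * y = a * z ∨ s * z = a * y)) {i : ℕ}
    (hi : h.T i = h.T (i + 1)) {y z : K} (hy : y ∈ h.P i) (hz : z ∈ h.P i) :
    y ∈ h.L i z ∨ z ∈ h.L i y := by
  obtain ⟨a, ha, s, hs0, hsq, he | he⟩ := hv y z
  · exact h.L_or_L_aux hs hi hy hz ha hs0 hsq he
  · exact (h.L_or_L_aux hs hi hz hy ha hs0 hsq he).symm

theorem L_mono {i : ℕ} {y z : K} (hyz : y ∈ h.L i z) : h.L i y ≤ h.L i z := by
  refine sup_le ?_ le_sup_right
  rw [Submodule.span_singleton_le_iff_mem]
  exact hyz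

theorem self_mem_L (i : ℕ) (y : K) : y ∈ h.L i y :=
  Submodule.mem_sup_left (Submodule.mem_span_singleton_self y)

theorem exists_L (hs : ∀ z ∈ V, ∃ a ∈ (A 0).toSubring, z - a ∈ QS x V)
    (hv : ∀ y z : K, ∃ a ∈ (A 0).toSubring, ∃ s ∈ (A 0).toSubring, s ∉ QS x V ∧
      (s * y = a * z ∨ s * z = a * y)) {i : ℕ}
    (hi : h.T i = h.T (i + 1)) (F : Finset K) (hF : ∀ z ∈ F, z ∈ h.P i) :
    ∃ y ∈ h.P i, ∀ z ∈ F, z ∈ h.L i y := by
  classical
  induction F using Finset.induction_on with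
  | empty => exact ⟨0, Submodule.zero_mem _, by simp⟩
  | insert w F _ ih =>
    obtain ⟨y, hy, hyF⟩ := ih fun z hz => hF z (Finset.mem_insert_of_mem hz)
    have hw := hF w (Finset.mem_insert_self w F)
    rcases h.L_or_L hs hv hi hy hw with h1 | h1
    · refine ⟨w, hw, fun z hz => ?_⟩
      rcases Finset.mem_insert.1 hz with rfl | hz
      · exact h.self_mem_L i _
      · exact h.L_mono h1 (hyF z hz)
    · refine ⟨y, hy, fun z hz => ?_⟩
      rcases Finset.mem_insert.1 hz with rfl | hz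
      · exact h1
      · exact hyF z hz

theorem P_zero_fg [IsNoetherianRing (A 0).toSubring] : (h.P 0).FG := by
  have h1 : h.P 0 = (((h.P 0).comap (Algebra.linearMap (A 0).toSubring K)).map
      (Algebra.linearMap (A 0).toSubring K)) := by
    rw [Submodule.map_comap_eq]
    refine (inf_eq_right.2 ?_).symm
    intro y hy
    exact ⟨⟨y, hy.1⟩, rfl⟩
  rw [h1]
  exact Submodule.FG.map _ (IsNoetherian.noetherian _)

theorem exists_P_le_L [IsNoetherianRing (A 0).toSubring]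
    (hs : ∀ z ∈ V, ∃ a ∈ (A 0).toSubring, z - a ∈ QS x V)
    (hv : ∀ y z : K, ∃ a ∈ (A 0).toSubring, ∃ s ∈ (A 0).toSubring, s ∉ QS x V ∧
      (s * y = a * z ∨ s * z = a * y)) {i : ℕ}
    (hi : h.T i = h.T (i + 1)) : ∃ y ∈ h.P i, h.P i ≤ h.L i y := by
  classical
  obtain ⟨F, hF⟩ := h.P_zero_fg
  have hdiv : ∀ y ∈ h.P 0, y / x ^ i ∈ h.P i := by
    intro y hy
    refine ⟨?_, fun n => ?_⟩
    · have : ∀ j : ℕ, y / x ^ j ∈ h.P j := by
        intro j
        induction j with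
        | zero => simpa using hy
        | succ j ih =>
          rw [pow_succ, ← div_div]
          exact h.div_mem_P ih
      exact (this i).1
    · have := hy.2 (i + n)
      rwa [pow_add, ← div_div] at this
  obtain ⟨y, hy, hyF⟩ := h.exists_L hs hv hi (F.image fun z => z / x ^ i) (by
    intro z hz
    obtain ⟨w, hw, rfl⟩ := Finset.mem_image.1 hz
    exact hdiv w (hF ▸ Submodule.subset_span hw))
  refine ⟨y, hy, fun z hz => ?_⟩
  obtain ⟨z0, hz0, hq⟩ := h.exists_P_zero hs i hz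
  have h1 : z0 / x ^ i ∈ h.L i y := by
    rw [← hF] at hz0
    clear hq
    induction hz0 using Submodule.span_induction with
    | mem w hw => exact hyF _ (Finset.mem_image_of_mem _ hw)
    | zero => simp
    | add a b _ _ ha hb => rw [add_div]; exact Submodule.add_mem _ ha hb
    | smul c a _ ha =>
      have : (c • a) / x ^ i = c • (a / x ^ i) := by
        change (c : K) * a / x ^ i = (c : K) * (a / x ^ i)
        rw [mul_div_assoc]
      rw [this]
      exact Submodule.smul_mem _ c ha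
  have h2 := Submodule.add_mem _ (Submodule.mem_sup_right hq : _ ∈ h.L i y) h1
  rwa [sub_add_cancel] at h2

/-- The prime `Q ∩ A i` as an ideal of `A i`. -/
def PI (i : ℕ) : Ideal (A i).toSubring where
  carrier := {z | (z : K) ∈ QS x V}
  zero_mem' := QS_zero
  add_mem' ha hb := QS_add ha hb
  smul_mem' c _ ha := QS_mul (h.le_V i c.2) ha

theorem mem_PI {i : ℕ} {z : (A i).toSubring} : z ∈ h.PI i ↔ (z : K) ∈ QS x V := Iff.rfl

theorem exists_of_mem_P2 {i : ℕ} {z : K} (hz : z ∈ h.P i * h.P i) :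
    ∃ hz' : z ∈ (A i).toSubring, (⟨z, hz'⟩ : (A i).toSubring) ∈ h.PI i * h.PI i := by
  induction hz using Submodule.mul_induction_on' with
  | mem_mul_mem m hm n hn =>
    refine ⟨(A i).toSubring.mul_mem hm.1 hn.1, ?_⟩
    exact Ideal.mul_mem_mul (I := h.PI i) (J := h.PI i)
      (r := (⟨m, hm.1⟩ : (A i).toSubring)) (s := ⟨n, hn.1⟩) hm.2 hn.2
  | add y _ z _ hy hz =>
    obtain ⟨hy1, hy2⟩ := hy
    obtain ⟨hz1, hz2⟩ := hz
    exact ⟨(A i).toSubring.add_mem hy1 hz1, Ideal.add_mem _ hy2 hz2⟩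

theorem PI_le (i : ℕ) : h.PI i ≤ maximalIdeal (A i).toSubring := by
  intro z hz
  obtain ⟨h1, h2⟩ := h.mx_of_QS z.2 hz
  exact h2

/-- For large `i` the maximal ideal of `A i` is generated by `x` and one more element. -/
theorem exists_maximalIdeal_eq [∀ i, IsNoetherianRing (A i).toSubring]
    (hs : ∀ z ∈ V, ∃ a ∈ (A 0).toSubring, z - a ∈ QS x V)
    (hv : ∀ y z : K, ∃ a ∈ (A 0).toSubring, ∃ s ∈ (A 0).toSubring, s ∉ QS x V ∧
      (s * y = a * z ∨ s * z = a * y)) :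
    ∃ N, ∀ i, N ≤ i → ∃ y : (A i).toSubring,
      maximalIdeal (A i).toSubring = Ideal.span {(⟨x, (h.step i).mem.1⟩ : (A i).toSubring), y} := by
  obtain ⟨N, hN⟩ := h.exists_T_eq
  refine ⟨N, fun i hi => ?_⟩
  have hT : h.T i = h.T (i + 1) := by
    rw [← hN i hi, ← hN (i + 1) (by omega)]
  obtain ⟨y, hy, hyL⟩ := h.exists_P_le_L hs hv hT
  refine ⟨⟨y, hy.1⟩, le_antisymm ?_ ?_⟩
  · have h0i : (A 0).toSubring ≤ (A i).toSubring := (h.mono (Nat.zero_le i)).1
    have hPI : h.PI i ≤ Ideal.span {(⟨y, hy.1⟩ : (A i).toSubring)} := by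
      refine Submodule.le_of_le_smul_of_le_jacobson_bot (I := h.PI i)
        (IsNoetherian.noetherian _) ?_ ?_
      · rw [IsLocalRing.jacobson_eq_maximalIdeal ⊥ bot_ne_top]
        exact h.PI_le i
      · intro z hz
        have h1 : (z : K) ∈ h.L i y := hyL ⟨z.2, hz⟩
        obtain ⟨a, ha, hq⟩ := h.mem_L.1 h1
        obtain ⟨hq1, hq2⟩ := h.exists_of_mem_P2 hq
        have h2 : z = ⟨a, h0i ha⟩ * ⟨y, hy.1⟩ + ⟨(z : K) - a * y, hq1⟩ := by
          apply Subtype.ext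
          change (z : K) = a * y + (z - a * y)
          ring
        rw [h2]
        exact Submodule.add_mem_sup (Ideal.mem_span_singleton'.2 ⟨⟨a, h0i ha⟩, rfl⟩) hq2
    intro z hz
    have hzx : (z : K) / x ∈ (A (i + 1)).toSubring := (h.step i).div_mem z ⟨z.2, hz⟩
    obtain ⟨r, hr, hrq⟩ := hs _ (h.le_V _ hzx)
    have h3 : (z : K) - r * x ∈ QS x V := by
      have h4 : (z : K) - r * x = x * (z / x - r) := by
        rw [mul_sub, mul_div_cancel₀ _ h.ne, mul_comm r x]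
      rw [h4]
      exact QS_mul h.isPar.mem hrq
    have h5 : (z : K) - r * x ∈ (A i).toSubring :=
      (A i).toSubring.sub_mem z.2 ((A i).toSubring.mul_mem (h0i hr) (h.step i).mem.1)
    obtain ⟨c, hc⟩ := Ideal.mem_span_singleton'.1 (hPI (show (⟨_, h5⟩ : (A i).toSubring) ∈ h.PI i
      from h3))
    rw [Ideal.mem_span_pair]
    refine ⟨⟨r, h0i hr⟩, c, ?_⟩
    rw [hc]
    apply Subtype.ext
    change r * x + ((z : K) - r * x) = z
    ring
  · rw [Ideal.span_le]
    rintro z (rfl | rfl)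
    · exact (h.step i).mem.2
    · exact h.PI_le i hy.2

end IsTower

end Groth.Agent.Ega2.ArcTower
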