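import Mathlib.RingTheory.DiscreteValuationRing.TFAE
import Mathlib.RingTheory.LocalRing.LocalSubring

/-!
# Local domains with principal maximal ideal

`V` is a subring of a field `K` and `x ∈ V` a nonzero nonunit such that every nonzero `z ∈ V` is a
unit or divisible by `x`.  Then `Q = ⋂ x ^ n V` is a prime ideal and `V / Q` is a discrete valuation
ring with uniformizer `x`.
-/

set_option autoImplicit false

universe u

namespace Groth.Agent.Ega2.ArcVal

variable {K : Type u} [Field K]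

/-- `V` is local with maximal ideal generated by `x`. -/
structure IsPar (V : Subring K) (x : K) : Prop where
  ne : x ≠ 0
  mem : x ∈ V
  inv_notMem : x⁻¹ ∉ V
  inv_or_div : ∀ z ∈ V, z ≠ 0 → z⁻¹ ∈ V ∨ z / x ∈ V

variable {V : Subring K} {x : K}

/-- The ideal `⋂ x ^ n V`. -/
def Q (V : Subring K) (x : K) (_ : IsPar V x) : Ideal V where
  carrier := {z | ∀ n : ℕ, (z : K) / x ^ n ∈ V}
  zero_mem' n := by simp
  add_mem' {a b} ha hb n := by
    have := V.add_mem (ha n) (hb n)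
    rw [← add_div] at this
    exact this
  smul_mem' c a ha n := by
    have := V.mul_mem c.2 (ha n)
    rw [← mul_div_assoc] at this
    exact this

variable (h : IsPar V x)

theorem mem_Q {z : V} : z ∈ Q V x h ↔ ∀ n : ℕ, (z : K) / x ^ n ∈ V := Iff.rfl

include h

theorem exists_unit_of_notMem {z : K} (hz : z ∈ V) (hzQ : (⟨z, hz⟩ : V) ∉ Q V x h) :
    ∃ k : ℕ, z / x ^ k ∈ V ∧ (z / x ^ k)⁻¹ ∈ V ∧ z ≠ 0 := by
  classical
  rw [mem_Q] at hzQ
  push Not at hzQ
  have h0 : Nat.find hzQ ≠ 0 := by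
    intro h0
    have := Nat.find_spec hzQ
    rw [h0] at this
    exact this (by simpa using hz)
  obtain ⟨k, hk⟩ := Nat.exists_eq_succ_of_ne_zero h0
  have h1 : z / x ^ k ∈ V := by
    by_contra hc
    exact Nat.find_min hzQ (m := k) (by omega) hc
  have h2 : z / x ^ (k + 1) ∉ V := by
    have := Nat.find_spec hzQ
    rw [hk] at this
    exact this
  have h3 : z ≠ 0 := by
    rintro rfl
    exact h2 (by simp)
  refine ⟨k, h1, ?_, h3⟩
  have h4 : z / x ^ k ≠ 0 := div_ne_zero h3 (pow_ne_zero _ h.ne)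
  rcases h.inv_or_div _ h1 h4 with h5 | h5
  · exact h5
  · rw [div_div, ← pow_succ] at h5
    exact absurd h5 h2

theorem notMem_Q_of_unit {z : K} (hz' : z⁻¹ ∈ V) (h0 : z ≠ 0) (k : ℕ)
    (hzk : x ^ k * z ∈ V) : (⟨x ^ k * z, hzk⟩ : V) ∉ Q V x h := by
  intro hq
  have h1 := hq (k + 1)
  have h2 : x ^ k * z / x ^ (k + 1) = z / x := by
    rw [pow_succ]
    have := pow_ne_zero k h.ne
    field_simp [h.ne]
  simp only [h2] at h1
  have h3 := V.mul_mem h1 hz'
  have h4 : z / x * z⁻¹ = x⁻¹ := by field_simp [h.ne]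
  rw [h4] at h3
  exact h.inv_notMem h3

instance isPrime_Q : (Q V x h).IsPrime where
  ne_top' := by
    rw [Ne, Ideal.eq_top_iff_one]
    intro h1
    have := h1 1
    simp only [OneMemClass.coe_one, pow_one, one_div] at this
    exact h.inv_notMem this
  mem_or_mem' := by
    rintro ⟨a, ha⟩ ⟨b, hb⟩ hab
    by_contra hc
    push Not at hc
    obtain ⟨k, hk, hk', ha0⟩ := exists_unit_of_notMem h ha hc.1
    obtain ⟨l, hl, hl', hb0⟩ := exists_unit_of_notMem h hb hc.2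
    have h1 : a * b = x ^ (k + l) * (a / x ^ k * (b / x ^ l)) := by
      rw [pow_add]
      have := pow_ne_zero k h.ne
      have := pow_ne_zero l h.ne
      field_simp
    have h2 : a / x ^ k * (b / x ^ l) ∈ V := V.mul_mem hk hl
    have h3 : (a / x ^ k * (b / x ^ l))⁻¹ ∈ V := by
      rw [mul_inv]
      exact V.mul_mem hk' hl'
    have h4 : a / x ^ k * (b / x ^ l) ≠ 0 :=
      mul_ne_zero (div_ne_zero ha0 (pow_ne_zero _ h.ne)) (div_ne_zero hb0 (pow_ne_zero _ h.ne))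
    have h5 : x ^ (k + l) * (a / x ^ k * (b / x ^ l)) ∈ V := h1 ▸ V.mul_mem ha hb
    refine notMem_Q_of_unit h h3 h4 (k + l) h5 ?_
    convert hab using 1
    exact Subtype.ext h1.symm

theorem div_mem_Q {z : V} (hz : z ∈ Q V x h) :
    ∃ h1 : (z : K) / x ∈ V, (⟨(z : K) / x, h1⟩ : V) ∈ Q V x h := by
  have h1 : (z : K) / x ∈ V := by simpa using hz 1
  refine ⟨h1, fun n => ?_⟩
  have := hz (n + 1)
  rw [pow_succ'] at this
  simpa [div_div] using this

theorem x_notMem_Q : (⟨x, h.mem⟩ : V) ∉ Q V x h := by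
  have := notMem_Q_of_unit h (z := 1) (by simp) one_ne_zero 1
    (by simpa using h.mem)
  simpa using this

/-- An element of `V` which is not in `Q` is `x ^ k` times a unit. -/
theorem exists_eq_pow_mul {z : V} (hz : z ∉ Q V x h) :
    ∃ (k : ℕ) (w : Vˣ), z = ⟨x, h.mem⟩ ^ k * (w : V) := by
  obtain ⟨k, hk, hk', h0⟩ := exists_unit_of_notMem h z.2 hz
  refine ⟨k, ⟨⟨_, hk⟩, ⟨_, hk'⟩, ?_, ?_⟩, ?_⟩
  · apply Subtype.ext
    exact mul_inv_cancel₀ (div_ne_zero h0 (pow_ne_zero _ h.ne))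
  · apply Subtype.ext
    exact inv_mul_cancel₀ (div_ne_zero h0 (pow_ne_zero _ h.ne))
  · apply Subtype.ext
    change (z : K) = x ^ k * (z / x ^ k)
    rw [mul_div_cancel₀ _ (pow_ne_zero _ h.ne)]

theorem isUnit_or_dvd (z : V) : IsUnit z ∨ (⟨x, h.mem⟩ : V) ∣ z := by
  by_cases h0 : (z : K) = 0
  · right
    have : z = 0 := Subtype.ext h0
    rw [this]
    exact dvd_zero _
  rcases h.inv_or_div z z.2 h0 with h1 | h1
  · left
    exact ⟨⟨z, ⟨_, h1⟩, Subtype.ext (mul_inv_cancel₀ h0), Subtype.ext (inv_mul_cancel₀ h0)⟩, rfl⟩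
  · right
    exact ⟨⟨_, h1⟩, Subtype.ext (mul_div_cancel₀ _ h.ne).symm⟩

theorem not_isUnit_x : ¬ IsUnit (⟨x, h.mem⟩ : V) := by
  rintro ⟨w, hw⟩
  have h1 : ((w : V) : K) * ((w⁻¹ : Vˣ) : V) = 1 := by
    rw [← Subring.coe_mul, Units.mul_inv]; rfl
  rw [hw] at h1
  have h2 : x⁻¹ = (((w⁻¹ : Vˣ) : V) : K) := inv_eq_of_mul_eq_one_right h1
  exact h.inv_notMem (h2 ▸ ((w⁻¹ : Vˣ) : V).2)

theorem isLocalRing : IsLocalRing V := by
  refine IsLocalRing.of_nonunits_add ?_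
  intro a b ha hb
  have ha' := (isUnit_or_dvd h a).resolve_left ha
  have hb' := (isUnit_or_dvd h b).resolve_left hb
  intro hab
  exact not_isUnit_x h (isUnit_of_dvd_unit (dvd_add ha' hb') hab)

instance isDomain_quot : IsDomain (V ⧸ Q V x h) := Ideal.Quotient.isDomain _

theorem irreducible_mk : Irreducible (Ideal.Quotient.mk (Q V x h) ⟨x, h.mem⟩) := by
  have h2 : ¬ IsUnit (Ideal.Quotient.mk (Q V x h) ⟨x, h.mem⟩) := by
    intro h1
    obtain ⟨b, hb⟩ := h1.exists_right_inv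
    obtain ⟨b, rfl⟩ := Ideal.Quotient.mk_surjective b
    rw [← map_mul, ← map_one (Ideal.Quotient.mk (Q V x h)), Ideal.Quotient.eq] at hb
    obtain ⟨h3, -⟩ := div_mem_Q h hb
    have h4 := V.sub_mem b.2 h3
    have h5 : (b : K) - ((⟨x, h.mem⟩ * b - 1 : V) : K) / x = x⁻¹ := by
      change (b : K) - (x * b - 1) / x = x⁻¹
      field_simp [h.ne]
      ring
    rw [h5] at h4
    exact h.inv_notMem h4
  have hx0 : Ideal.Quotient.mk (Q V x h) ⟨x, h.mem⟩ ≠ 0 := by
    rw [Ne, Ideal.Quotient.eq_zero_iff_mem]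
    exact x_notMem_Q h
  have h6 : ∀ a : V ⧸ Q V x h, IsUnit a ∨ Ideal.Quotient.mk (Q V x h) ⟨x, h.mem⟩ ∣ a := by
    intro a
    obtain ⟨a, rfl⟩ := Ideal.Quotient.mk_surjective a
    exact (isUnit_or_dvd h a).imp (fun h => h.map _) (fun h => map_dvd _ h)
  refine ⟨h2, fun a b hab => ?_⟩
  by_contra hc
  push Not at hc
  obtain ⟨a', ha'⟩ := (h6 a).resolve_left hc.1
  obtain ⟨b', hb'⟩ := (h6 b).resolve_left hc.2
  rw [ha', hb'] at hab
  apply h2
  refine IsUnit.of_mul_eq_one (a' * b') ?_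
  refine mul_left_cancel₀ hx0 ?_
  rw [mul_one]
  conv_rhs => rw [hab]
  ring

theorem isDVR : IsDiscreteValuationRing (V ⧸ Q V x h) := by
  refine IsDiscreteValuationRing.ofHasUnitMulPowIrreducibleFactorization
    ⟨_, irreducible_mk h, ?_⟩
  intro a ha
  obtain ⟨a, rfl⟩ := Ideal.Quotient.mk_surjective a
  rw [Ne, Ideal.Quotient.eq_zero_iff_mem] at ha
  obtain ⟨k, w, rfl⟩ := exists_eq_pow_mul h ha
  refine ⟨k, Units.map (Ideal.Quotient.mk (Q V x h)).toMonoidHom w, ?_⟩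
  rw [map_mul, map_pow]
  rfl

theorem isUnit_mk_iff (z : V) : IsUnit (Ideal.Quotient.mk (Q V x h) z) ↔ IsUnit z := by
  refine ⟨fun h1 => ?_, fun h1 => h1.map _⟩
  refine (isUnit_or_dvd h z).resolve_right fun h2 => ?_
  exact (irreducible_mk h).not_isUnit (isUnit_of_dvd_unit (map_dvd _ h2) h1)

end Groth.Agent.Ega2.ArcVal
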