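import Groth.Agent.Ega2.DVRCriterion
import Mathlib.AlgebraicGeometry.FunctionField
import Mathlib.AlgebraicGeometry.Morphisms.Separated

/-!
# The valuative criterion of properness with valuation rings of the function field

For an integral separated scheme `X` and a quasi-compact morphism `f : X ⟶ Y` to a separated scheme,
the existence part of the valuative criterion only has to be checked for valuation rings of the
function field of `X` and the generic point of `X`.
-/

set_option autoImplicit false

universe u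

open CategoryTheory CategoryTheory.Limits AlgebraicGeometry IsLocalRing

namespace Groth.Agent.Ega2.DVRFunctionField

open Groth.Agent.Ega2.DVRCriterion

/-- **Existence part of the valuative criterion**: it suffices to solve lifting problems
`Spec κ(ξ) → X`, `Spec V → Y` for valuation rings `V` of residue fields `κ(ξ)` of
points `ξ : X`. -/
theorem existence_of_residueField {X Y : Scheme.{u}} (f : X ⟶ Y)
    (H : ∀ (ξ : X) (V : ValuationSubring (X.residueField ξ)),
      ∀ j₂ : Spec (CommRingCat.of V) ⟶ Y,
        X.fromSpecResidueField ξ ≫ f =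
          Spec.map (CommRingCat.ofHom (algebraMap V (X.residueField ξ))) ≫ j₂ →
        ∃ l : Spec (CommRingCat.of V) ⟶ X, l ≫ f = j₂ ∧
          Spec.map (CommRingCat.ofHom (algebraMap V (X.residueField ξ))) ≫ l =
            X.fromSpecResidueField ξ) :
    ValuativeCriterion.Existence f := by
  intro S
  obtain ⟨R, K, i₁, i₂, ⟨comm⟩⟩ := S
  dsimp only at *
  set ξ : X := i₁ (closedPoint K) with hξ
  let κ : Type u := X.residueField ξ
  let ι : X.residueField ξ ⟶ CommRingCat.of K :=
    X.descResidueField (Scheme.stalkClosedPointTo i₁)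
  have hι : Spec.map ι ≫ X.fromSpecResidueField ξ = i₁ :=
    Scheme.descResidueField_stalkClosedPointTo_fromSpecResidueField K X i₁
  let VR : ValuationSubring K :=
    ⟨(algebraMap R K).range, ValuationRing.isInteger_or_isInteger R⟩
  let V₀ : ValuationSubring κ := VR.comap ι.hom
  have hV₀ : ∀ x : κ, x ∈ V₀ ↔ ∃ r : R, algebraMap R K r = ι.hom x := fun x => Iff.rfl
  -- the map `V₀ → R`
  have hinj : Function.Injective (algebraMap R K) := IsFractionRing.injective R K
  choose γ₀ hγ₀ using fun x : V₀ => (hV₀ x.1).1 x.2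
  let γ : V₀ →+* R :=
    { toFun := γ₀
      map_one' := hinj (by rw [hγ₀, map_one]; exact map_one ι.hom)
      map_mul' := fun x y => hinj (by
        rw [hγ₀, map_mul, hγ₀, hγ₀]
        exact map_mul ι.hom x.1 y.1)
      map_zero' := hinj (by rw [hγ₀, map_zero]; exact map_zero ι.hom)
      map_add' := fun x y => hinj (by
        rw [hγ₀, map_add, hγ₀, hγ₀]
        exact map_add ι.hom x.1 y.1) }
  have hγ : CommRingCat.ofHom γ ≫ CommRingCat.ofHom (algebraMap R K) =
      CommRingCat.ofHom (algebraMap V₀ κ) ≫ ι := by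
    ext x
    exact hγ₀ x
  have hmono : Mono (CommRingCat.ofHom (algebraMap R K)) :=
    ConcreteCategory.mono_of_injective _ hinj
  -- the map to `Y`
  obtain ⟨V, hV, hyV, -⟩ := exists_isAffineOpen_mem_and_subset
    (U := (⊤ : Y.Opens)) (x := i₂ (closedPoint R)) trivial
  obtain ⟨α, hα⟩ := factor' i₂ hV hyV
  have hξV : f ξ ∈ V := by
    have h1 : (i₁ ≫ f) (closedPoint (CommRingCat.of K)) ∈ V := by
      rw [comm, ← hα, ← Category.assoc, ← Spec.map_comp]
      exact apply_mem hV _ _
    exact h1
  let ρ : Γ(Y, V) ⟶ X.residueField ξ := Y.evaluation V (f ξ) hξV ≫ f.residueFieldMap ξ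
  have hρ : Spec.map ρ ≫ hV.fromSpec = X.fromSpecResidueField ξ ≫ f := by
    rw [← Scheme.Hom.SpecMap_residueFieldMap_fromSpecResidueField, Spec.map_comp, Category.assoc]
    congr 1
    rw [Scheme.evaluation, Spec.map_comp, Category.assoc, Scheme.fromSpecResidueField,
      ← hV.fromSpecStalk_eq_fromSpecStalk hξV, IsAffineOpen.fromSpecStalk]
  have hρι : ρ ≫ ι = α ≫ CommRingCat.ofHom (algebraMap R K) := by
    apply hom_eq hV
    rw [Spec.map_comp, Category.assoc, hρ, ← Category.assoc, hι, comm, Spec.map_comp,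
      Category.assoc, hα]
  have hρV₀ : ∀ r, ρ.hom r ∈ V₀ := by
    intro r
    rw [hV₀]
    exact ⟨α.hom r, congr($(hρι).hom r).symm⟩
  let ρ₀ : Γ(Y, V) →+* V₀ := ρ.hom.codRestrict V₀.toSubring hρV₀
  have hρ₀ : CommRingCat.ofHom ρ₀ ≫ CommRingCat.ofHom (algebraMap V₀ κ) = ρ := rfl
  have hρ₀γ : CommRingCat.ofHom ρ₀ ≫ CommRingCat.ofHom γ = α := by
    rw [← cancel_mono (CommRingCat.ofHom (algebraMap R K)), Category.assoc, hγ,
      ← Category.assoc, hρ₀, hρι]
  obtain ⟨l, hl₁, hl₂⟩ := H ξ V₀ (Spec.map (CommRingCat.ofHom ρ₀) ≫ hV.fromSpec)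
    (by rw [← Category.assoc, ← Spec.map_comp]; exact hρ.symm)
  refine ⟨⟨⟨Spec.map (CommRingCat.ofHom γ) ≫ l, ?_, ?_⟩⟩⟩
  · rw [← Category.assoc, ← Spec.map_comp, hγ, Spec.map_comp, Category.assoc, hl₂, hι]
  · rw [Category.assoc, hl₁, ← Category.assoc, ← Spec.map_comp, hρ₀γ, hα]

/-- Two morphisms from the spectrum of a domain to a separated scheme which agree on the generic
point are equal. -/
lemma hom_ext_of_fractionField {T : Scheme.{u}} [T.IsSeparated] {A K : Type u} [CommRing A]
    [IsDomain A] [Field K] [Algebra A K] (hinj : Function.Injective (algebraMap A K))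
    (g₁ g₂ : Spec (CommRingCat.of A) ⟶ T)
    (h : Spec.map (CommRingCat.ofHom (algebraMap A K)) ≫ g₁ =
      Spec.map (CommRingCat.ofHom (algebraMap A K)) ≫ g₂) : g₁ = g₂ := by
  have : IsDominant (Spec.map (CommRingCat.ofHom (algebraMap A K))) := by
    rw [isDominant_iff]
    refine (PrimeSpectrum.denseRange_comap_iff_ker_le_nilRadical (algebraMap A K)).2 ?_
    rw [(RingHom.injective_iff_ker_eq_bot _).1 hinj]
    exact bot_le
  exact ext_of_isDominant (Spec.map (CommRingCat.ofHom (algebraMap A K))) h

/-- The composite valuation ring: for a valuation ring `W` of `K` and a valuation ring `V'` of its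
residue field, the ring of all elements of `W` with residue class in `V'`. -/
def composite {K : Type*} [Field K] (W : ValuationSubring K)
    (V' : ValuationSubring (ResidueField W)) : ValuationSubring K where
  carrier := {z | ∃ hz : z ∈ W, residue W ⟨z, hz⟩ ∈ V'}
  mul_mem' := by
    rintro a b ⟨ha, ha'⟩ ⟨hb, hb'⟩
    exact ⟨mul_mem ha hb, by
      have := V'.mul_mem _ _ ha' hb'
      rw [← map_mul] at this
      exact this⟩
  one_mem' := ⟨one_mem _, by
    have := V'.one_mem
    rw [← map_one (residue W)] at this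
    exact this⟩
  add_mem' := by
    rintro a b ⟨ha, ha'⟩ ⟨hb, hb'⟩
    exact ⟨add_mem ha hb, by
      have := V'.add_mem _ _ ha' hb'
      rw [← map_add] at this
      exact this⟩
  zero_mem' := ⟨zero_mem _, by
    have := V'.zero_mem
    rw [← map_zero (residue W)] at this
    exact this⟩
  neg_mem' := by
    rintro a ⟨ha, ha'⟩
    exact ⟨neg_mem ha, by
      have := V'.neg_mem _ ha'
      rw [← map_neg] at this
      exact this⟩
  mem_or_inv_mem' := by
    intro z
    by_cases hz : z ∈ W
    · by_cases hz' : z⁻¹ ∈ W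
      · rcases V'.mem_or_inv_mem (residue W ⟨z, hz⟩) with h | h
        · exact Or.inl ⟨hz, h⟩
        · right
          refine ⟨hz', ?_⟩
          have h1 : residue W ⟨z⁻¹, hz'⟩ = (residue W ⟨z, hz⟩)⁻¹ := by
            by_cases h0 : z = 0
            · subst h0
              have e1 : (⟨(0 : K)⁻¹, hz'⟩ : W) = 0 := Subtype.ext inv_zero
              have e2 : (⟨(0 : K), hz⟩ : W) = 0 := rfl
              rw [e1, e2, map_zero, inv_zero]
            · apply eq_inv_of_mul_eq_one_left
              rw [← map_mul, ← map_one (residue W)]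
              congr 1
              exact Subtype.ext (inv_mul_cancel₀ h0)
          rw [h1]
          exact h
      · left
        refine ⟨hz, ?_⟩
        have h1 : (⟨z, hz⟩ : W) ∈ maximalIdeal W := by
          intro hu
          apply hz'
          obtain ⟨⟨u, v, huv, hvu⟩, hu⟩ := hu
          have h2 : z * (v : K) = 1 := by
            have h3 := congrArg Subtype.val huv
            have h4 : u = ⟨z, hz⟩ := hu
            rw [h4] at h3
            exact h3
          rw [← eq_inv_of_mul_eq_one_right h2]
          exact v.2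
        rw [(residue_eq_zero_iff _).2 h1]
        exact V'.zero_mem
    · right
      have hz' : z⁻¹ ∈ W := (W.mem_or_inv_mem z).resolve_left hz
      refine ⟨hz', ?_⟩
      have h1 : (⟨z⁻¹, hz'⟩ : W) ∈ maximalIdeal W := by
        intro hu
        apply hz
        obtain ⟨⟨u, v, huv, hvu⟩, hu⟩ := hu
        have h2 : z⁻¹ * (v : K) = 1 := by
          have h3 := congrArg Subtype.val huv
          have h4 : u = ⟨z⁻¹, hz'⟩ := hu
          rw [h4] at h3
          exact h3
        have h3 := eq_inv_of_mul_eq_one_right h2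
        rw [inv_inv] at h3
        rw [← h3]
        exact v.2
      rw [(residue_eq_zero_iff _).2 h1]
      exact V'.zero_mem

set_option maxHeartbeats 1000000 in
/-- For an integral separated scheme `X` and a morphism `f : X ⟶ Y` to a separated scheme, the
existence part of the valuative criterion only has to be checked for valuation rings of the
function field of `X` and the generic point of `X`. -/
theorem existence_of_generic {X Y : Scheme.{u}} [IsIntegral X] [X.IsSeparated] [Y.IsSeparated]
    (f : X ⟶ Y)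
    (H : ∀ (V : ValuationSubring X.functionField) (j₂ : Spec (CommRingCat.of V) ⟶ Y),
      X.fromSpecStalk (genericPoint X) ≫ f =
        Spec.map (CommRingCat.ofHom (algebraMap V X.functionField)) ≫ j₂ →
      ∃ l : Spec (CommRingCat.of V) ⟶ X, l ≫ f = j₂ ∧
        Spec.map (CommRingCat.ofHom (algebraMap V X.functionField)) ≫ l =
          X.fromSpecStalk (genericPoint X)) :
    ValuativeCriterion.Existence f := by
  apply existence_of_residueField
  intro ξ V j₂ hj₂
  let K : Type u := X.functionField
  have hη : genericPoint X ⤳ ξ := (genericPoint_spec X).specializes trivial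
  let a : X.presheaf.stalk ξ ⟶ X.functionField := X.presheaf.stalkSpecializes hη
  have ha : Spec.map a ≫ X.fromSpecStalk ξ = X.fromSpecStalk (genericPoint X) :=
    Scheme.SpecMap_stalkSpecializes_fromSpecStalk hη
  obtain ⟨W, hW, hWloc⟩ := IsLocalRing.exists_factor_valuationRing (K := K) a.hom
  let w : X.presheaf.stalk ξ →+* W := a.hom.codRestrict W.toSubring hW
  have hwloc : IsLocalHom w := hWloc
  let wbar : X.residueField ξ →+* ResidueField W := ResidueField.map w
  have hwbar : ∀ q : X.presheaf.stalk ξ, wbar ((X.residue ξ).hom q) = residue W (w q) :=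
    fun q => rfl
  obtain ⟨V', hV', hV'loc⟩ := IsLocalRing.exists_factor_valuationRing (R := V)
    (K := ResidueField W) (wbar.comp V.subtype)
  have hVV' : ∀ z : X.residueField ξ, wbar z ∈ V' → z ∈ V := by
    intro z hz
    rcases V.mem_or_inv_mem z with h | h
    · exact h
    · by_cases h0 : z = 0
      · rw [h0]
        exact V.zero_mem
      · have h1 : IsUnit (((wbar.comp V.subtype).codRestrict V'.toSubring hV') ⟨z⁻¹, h⟩) := by
          rw [isUnit_iff_exists_inv]
          refine ⟨⟨wbar z, hz⟩, Subtype.ext ?_⟩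
          change wbar z⁻¹ * wbar z = 1
          rw [← map_mul, inv_mul_cancel₀ h0, map_one]
        have h2 := hV'loc.map_nonunit _ h1
        obtain ⟨v, hv⟩ := isUnit_iff_exists_inv.1 h2
        have h3 : z⁻¹ * (v : X.residueField ξ) = 1 := congrArg Subtype.val hv
        have h4 := eq_inv_of_mul_eq_one_right h3
        rw [inv_inv] at h4
        rw [← h4]
        exact v.2
  let R' : ValuationSubring K := composite W V'
  -- the map to `Y`
  obtain ⟨VY, hVY, hyVY, -⟩ := exists_isAffineOpen_mem_and_subset
    (U := (⊤ : Y.Opens)) (x := j₂ (closedPoint V)) trivial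
  obtain ⟨β, hβ⟩ := factor' j₂ hVY hyVY
  have hfξ : f ξ ∈ VY := by
    have h1 : (X.fromSpecResidueField ξ ≫ f) (closedPoint (CommRingCat.of (X.residueField ξ))) ∈
        VY := by
      rw [hj₂, ← hβ, ← Category.assoc, ← Spec.map_comp]
      exact apply_mem hVY _ _
    have h2 := Scheme.fromSpecResidueField_apply ξ
      (show Spec (X.residueField ξ) from closedPoint (X.residueField ξ))
    have h3 : f ((X.fromSpecResidueField ξ)
      (show Spec (X.residueField ξ) from closedPoint (X.residueField ξ))) ∈ VY := h1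
    rw [h2] at h3
    exact h3
  let σ : Γ(Y, VY) ⟶ X.presheaf.stalk ξ := Y.presheaf.germ VY (f ξ) hfξ ≫ f.stalkMap ξ
  have hσ : Spec.map σ ≫ hVY.fromSpec = X.fromSpecStalk ξ ≫ f := by
    have h1 := hVY.fromSpecStalk_eq_fromSpecStalk hfξ
    rw [IsAffineOpen.fromSpecStalk] at h1
    rw [Spec.map_comp, Category.assoc, h1, Scheme.SpecMap_stalkMap_fromSpecStalk]
  have hσβ : σ ≫ X.residue ξ = β ≫ CommRingCat.ofHom (algebraMap V (X.residueField ξ)) := by
    apply hom_eq hVY
    rw [Spec.map_comp, Category.assoc, hσ, Spec.map_comp, Category.assoc, hβ, ← hj₂,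
      Scheme.fromSpecResidueField, Category.assoc]
  let τ : Γ(Y, VY) ⟶ X.functionField := σ ≫ a
  have hτ : Spec.map τ ≫ hVY.fromSpec = X.fromSpecStalk (genericPoint X) ≫ f := by
    rw [Spec.map_comp, Category.assoc, hσ, ← Category.assoc, ha]
  have hτR' : ∀ r, τ.hom r ∈ R' := by
    intro r
    refine ⟨hW (σ.hom r), ?_⟩
    have h1 : residue W (w (σ.hom r)) ∈ V' := by
      rw [← hwbar]
      have h2 : (X.residue ξ).hom (σ.hom r) = (β.hom r : X.residueField ξ) :=
        congr($(hσβ).hom r)
      rw [h2]
      exact hV' (β.hom r)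
    exact h1
  let τ₀ : Γ(Y, VY) →+* R' := τ.hom.codRestrict R'.toSubring hτR'
  obtain ⟨l', hl'₁, hl'₂⟩ := H R' (Spec.map (CommRingCat.ofHom τ₀) ≫ hVY.fromSpec) (by
    rw [← Category.assoc, ← Spec.map_comp]
    exact hτ.symm)
  obtain ⟨U, hU, hxU, -⟩ := exists_isAffineOpen_mem_and_subset
    (U := (⊤ : X.Opens)) (x := l' (closedPoint R')) trivial
  obtain ⟨lam, hlam⟩ := factor' l' hU hxU
  let c : R' →+* W :=
    { toFun := fun z => ⟨z.1, z.2.choose⟩
      map_one' := rfl
      map_mul' := fun _ _ => rfl
      map_zero' := rfl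
      map_add' := fun _ _ => rfl }
  have hg : Spec.map (CommRingCat.ofHom c) ≫ l' =
      Spec.map (CommRingCat.ofHom w) ≫ X.fromSpecStalk ξ := by
    apply hom_ext_of_fractionField (A := W) (K := K) Subtype.val_injective
    rw [← Category.assoc, ← Category.assoc, ← Spec.map_comp, ← Spec.map_comp]
    exact hl'₂.trans ha.symm
  have hξU : ξ ∈ U := by
    have h1 : (Spec.map (CommRingCat.ofHom w) ≫ X.fromSpecStalk ξ)
        (closedPoint (CommRingCat.of W)) ∈ U := by
      rw [← hg, ← hlam, ← Category.assoc, ← Spec.map_comp]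
      exact apply_mem hU _ _
    have h2 : (Spec.map (CommRingCat.ofHom w)) (closedPoint (CommRingCat.of W)) =
        closedPoint (X.presheaf.stalk ξ) := IsLocalRing.comap_closedPoint w
    have h3 : X.fromSpecStalk ξ ((Spec.map (CommRingCat.ofHom w))
      (closedPoint (CommRingCat.of W))) ∈ U := h1
    rw [h2, Scheme.fromSpecStalk_closedPoint] at h3
    exact h3
  have hUst := hU.fromSpecStalk_eq_fromSpecStalk hξU
  rw [IsAffineOpen.fromSpecStalk] at hUst
  have hlam' : lam ≫ CommRingCat.ofHom (algebraMap R' K) = X.presheaf.germ U ξ hξU ≫ a := by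
    apply hom_eq hU
    rw [Spec.map_comp, Category.assoc, hlam, hl'₂, Spec.map_comp, Category.assoc, hUst, ha]
  have hevV : ∀ b : Γ(X, U), (X.residue ξ).hom ((X.presheaf.germ U ξ hξU).hom b) ∈ V := by
    intro b
    apply hVV'
    rw [hwbar]
    obtain ⟨h1, h2⟩ := (lam.hom b).2
    have h3 : ((lam.hom b : R') : K) = a.hom ((X.presheaf.germ U ξ hξU).hom b) :=
      congr($(hlam').hom b)
    have h4 : (⟨((lam.hom b : R') : K), h1⟩ : W) = w ((X.presheaf.germ U ξ hξU).hom b) :=
      Subtype.ext h3
    rw [← h4]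
    exact h2
  let ψ₀ : Γ(X, U) →+* V :=
    (X.presheaf.germ U ξ hξU ≫ X.residue ξ).hom.codRestrict V.toSubring hevV
  have hψ₀ : CommRingCat.ofHom ψ₀ ≫ CommRingCat.ofHom (algebraMap V (X.residueField ξ)) =
      X.presheaf.germ U ξ hξU ≫ X.residue ξ := rfl
  have hfin : Spec.map (CommRingCat.ofHom (algebraMap V (X.residueField ξ))) ≫
      Spec.map (CommRingCat.ofHom ψ₀) ≫ hU.fromSpec = X.fromSpecResidueField ξ := by
    rw [← Category.assoc, ← Spec.map_comp, hψ₀, Spec.map_comp, Category.assoc, hUst]
    rfl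
  refine ⟨Spec.map (CommRingCat.ofHom ψ₀) ≫ hU.fromSpec, ?_, hfin⟩
  apply hom_ext_of_fractionField (A := V) (K := X.residueField ξ) Subtype.val_injective
  rw [← hj₂, ← hfin]
  simp only [Category.assoc]

end Groth.Agent.Ega2.DVRFunctionField
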