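import Mathlib.RingTheory.Localization.Away.Basic
import Mathlib.RingTheory.IntegralClosure.IsIntegral.Basic
import Mathlib.RingTheory.IntegralClosure.Algebra.Basic
import Mathlib.RingTheory.RingHom.Finite
import Mathlib.FieldTheory.PurelyInseparable.PerfectClosure
import Mathlib.RingTheory.FiniteType

/-!
# Finitely generated subalgebras of a purely inseparable extension of the fraction field
-/

set_option autoImplicit false
universe u

namespace Groth.Agent.Ega2.GeoRadicial

variable {A K : Type u} [CommRing A] [IsDomain A] [Field K] [Algebra A K] [FaithfulSMul A K]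

/-- every element has a `q`-power in the fraction field of `A` -/
def Rad (A K : Type u) [CommRing A] [Field K] [Algebra A K] (q : ℕ) : Prop :=
  ∀ x : K, ∃ (n : ℕ) (a b : A), b ≠ 0 ∧ x ^ q ^ n * algebraMap A K b = algebraMap A K a

theorem mem_of_mem_adjoin {A K : Type u} [CommRing A] [Field K] [Algebra A K] {s : Set K} (S : Subring K)
    (h1 : ∀ a, algebraMap A K a ∈ S) (h2 : s ⊆ S) : ∀ x ∈ Algebra.adjoin A s, x ∈ S := by
  intro x hx
  induction hx using Algebra.adjoin_induction with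
  | mem x hx => exact h2 hx
  | algebraMap r => exact h1 r
  | add x y _ _ hx hy => exact add_mem hx hy
  | mul x y _ _ hx hy => exact mul_mem hx hy

theorem finite_codRestrict {A K T : Type u} [CommRing A] [Field K] [Algebra A K] [CommRing T] (φ₀ : T →+* K)
    (R' : Subalgebra A K) (hmem : ∀ y, φ₀ y ∈ R') (s : Set K) (hs : s.Finite)
    (hpow : ∀ x ∈ s, ∃ m > 0, x ^ m ∈ φ₀.range) (hsR : s ⊆ R')
    (hsup : ∀ S : Subring K, (∀ y, φ₀ y ∈ S) → s ⊆ S → ∀ x ∈ R', x ∈ S) :
    (φ₀.codRestrict R' hmem).Finite := by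
  let _ : Algebra T K := φ₀.toAlgebra
  let _ : Algebra T R' := (φ₀.codRestrict R' hmem).toAlgebra
  have hfg : (Subalgebra.toSubmodule (Algebra.adjoin T s)).FG := by
    refine fg_adjoin_of_finite hs ?_
    intro x hx
    obtain ⟨m, hm, y, hy⟩ := hpow x hx
    refine IsIntegral.of_pow hm ?_
    rw [← hy]
    exact isIntegral_algebraMap
  have hsub : ∀ x ∈ Algebra.adjoin T s, x ∈ R' := by
    intro x hx
    induction hx using Algebra.adjoin_induction with
    | mem x hx => exact hsR hx
    | algebraMap r => exact hmem r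
    | add x y _ _ hx hy => exact add_mem hx hy
    | mul x y _ _ hx hy => exact mul_mem hx hy
  have hsup' : ∀ x ∈ R', x ∈ Algebra.adjoin T s :=
    hsup (Algebra.adjoin T s).toSubring (fun y ↦ algebraMap_mem (Algebra.adjoin T s) y)
      Algebra.subset_adjoin
  let ψ : Algebra.adjoin T s →ₗ[T] R' :=
    { toFun := fun x ↦ ⟨x.1, hsub _ x.2⟩
      map_add' := fun x y ↦ rfl
      map_smul' := fun r x ↦ by
        apply Subtype.ext
        change ((r • x : Algebra.adjoin T s) : K) = ((r • (⟨x.1, hsub _ x.2⟩ : R') : R') : K)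
        rw [Algebra.smul_def, Algebra.smul_def]
        rfl }
  have hψ : Function.Surjective ψ := fun x ↦ ⟨⟨x.1, hsup' _ x.2⟩, rfl⟩
  have : Module.Finite T (Algebra.adjoin T s) := Module.Finite.iff_fg.mpr hfg
  exact Module.Finite.of_surjective ψ hψ

/-- A finitely generated subalgebra of `K` becomes, after inverting one element `g` of `A`, finite and radicial
over `A_g`. -/
theorem exists_radicial (q : ℕ) [hq : ExpChar K q] (hrad : Rad A K q) (R : Subalgebra A K) (hR : R.FG) :
    ∃ (g : A) (_ : g ≠ 0) (R' : Subalgebra A K), R ≤ R' ∧ R'.FG ∧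
      ∃ (φ : Localization.Away g →+* R'), φ.comp (algebraMap A _) = algebraMap A R' ∧ φ.Finite ∧
        Function.Injective φ ∧ ∀ x : R', ∃ n : ℕ, x ^ q ^ n ∈ φ.range := by
  classical
  obtain ⟨s, hs⟩ := hR
  choose n a b hb hab using hrad
  have hqpos : 0 < q := expChar_pos K q
  let g : A := ∏ x ∈ s, b x
  have hg : g ≠ 0 := Finset.prod_ne_zero_iff.mpr fun x _ ↦ hb x
  have hinj : Function.Injective (algebraMap A K) := FaithfulSMul.algebraMap_injective A K
  have hgK : algebraMap A K g ≠ 0 := (map_ne_zero_iff _ hinj).mpr hg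
  have hunit : IsUnit (algebraMap A K g) := isUnit_iff_ne_zero.mpr hgK
  let φ₀ : Localization.Away g →+* K := IsLocalization.Away.lift g hunit
  have hφ₀ : ∀ x, φ₀ (algebraMap A _ x) = algebraMap A K x := fun x ↦ IsLocalization.Away.lift_eq g hunit x
  let R' : Subalgebra A K := Algebra.adjoin A (s ∪ {(algebraMap A K g)⁻¹})
  have hRR' : R ≤ R' := by
    rw [← hs]
    exact Algebra.adjoin_mono Set.subset_union_left
  have hinvR' : (algebraMap A K g)⁻¹ ∈ R' := Algebra.subset_adjoin (Or.inr rfl)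
  -- description of `φ₀`
  have hsurj : ∀ y : Localization.Away g, ∃ (c : A) (N : ℕ),
      y * algebraMap A _ g ^ N = algebraMap A _ c := by
    intro y
    obtain ⟨N, c, hc⟩ := IsLocalization.Away.surj g y
    exact ⟨c, N, by rw [← hc]⟩
  have hφ₀' : ∀ y, ∃ (c : A) (N : ℕ), φ₀ y = algebraMap A K c * ((algebraMap A K g)⁻¹) ^ N := by
    intro y
    obtain ⟨c, N, h⟩ := hsurj y
    refine ⟨c, N, ?_⟩
    have := congrArg φ₀ h
    rw [map_mul, map_pow, hφ₀, hφ₀] at this
    rw [← this, mul_assoc, ← mul_pow, mul_inv_cancel₀ hgK, one_pow, mul_one]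
  have hmem : ∀ y, φ₀ y ∈ R' := by
    intro y
    obtain ⟨c, N, h⟩ := hφ₀' y
    rw [h]
    exact mul_mem (algebraMap_mem R' c) (pow_mem hinvR' N)
  have hrange : ∀ (c : A) (N : ℕ), ∃ y, φ₀ y = algebraMap A K c * ((algebraMap A K g)⁻¹) ^ N := by
    intro c N
    refine ⟨algebraMap A _ c * (IsLocalization.Away.invSelf g) ^ N, ?_⟩
    rw [map_mul, map_pow, hφ₀]
    congr 2
    refine eq_inv_of_mul_eq_one_right ?_
    rw [← hφ₀, ← map_mul, IsLocalization.Away.mul_invSelf, map_one]
  let φ : Localization.Away g →+* R' := φ₀.codRestrict R' hmem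
  have hφ : ∀ y, (φ y : K) = φ₀ y := fun y ↦ rfl
  -- the powers
  have hpow : ∀ x : K, x ∈ s → x ^ q ^ n x ∈ φ₀.range := by
    intro x hx
    obtain ⟨c, hc⟩ : ∃ c, g = b x * c := ⟨_, (Finset.mul_prod_erase s b hx).symm⟩
    obtain ⟨y, hy⟩ := hrange (a x * c) 1
    refine ⟨y, ?_⟩
    rw [hy, pow_one, map_mul, ← hab x]
    have h1 : algebraMap A K g = algebraMap A K (b x) * algebraMap A K c := by rw [← map_mul, ← hc]
    have h2 : algebraMap A K (b x) * algebraMap A K c ≠ 0 := h1 ▸ hgK
    rw [h1, mul_assoc (x ^ q ^ n x), mul_assoc, mul_inv_cancel₀ h2, mul_one]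
  have hinv : (algebraMap A K g)⁻¹ ∈ φ₀.range := by
    obtain ⟨y, hy⟩ := hrange 1 1
    exact ⟨y, by rw [hy, map_one, one_mul, pow_one]⟩
  -- all elements of `R'` have a power in the range
  have hstep : ∀ {x : K} {m : ℕ} (k : ℕ), x ^ q ^ m ∈ φ₀.range → x ^ q ^ (m + k) ∈ φ₀.range := by
    intro x m k h
    rw [pow_add, pow_mul]
    exact pow_mem h _
  have hall : ∀ x : K, x ∈ R' → ∃ m : ℕ, x ^ q ^ m ∈ φ₀.range := by
    intro x hx
    induction hx using Algebra.adjoin_induction with
    | mem x hx =>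
      rcases hx with hx | hx
      · exact ⟨n x, hpow x hx⟩
      · rw [Set.mem_singleton_iff] at hx
        exact ⟨0, by rw [pow_zero, pow_one, hx]; exact hinv⟩
    | algebraMap r => exact ⟨0, by rw [pow_zero, pow_one]; exact ⟨_, hφ₀ r⟩⟩
    | add x y _ _ hx hy =>
      obtain ⟨m, hm⟩ := hx
      obtain ⟨l, hl⟩ := hy
      refine ⟨m + l, ?_⟩
      rw [add_pow_expChar_pow]
      exact add_mem (hstep l hm) (by rw [add_comm m l]; exact hstep m hl)
    | mul x y _ _ hx hy =>
      obtain ⟨m, hm⟩ := hx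
      obtain ⟨l, hl⟩ := hy
      refine ⟨m + l, ?_⟩
      rw [mul_pow]
      exact mul_mem (hstep l hm) (by rw [add_comm m l]; exact hstep m hl)
  refine ⟨g, hg, R', hRR', ?_, φ, ?_, ?_, ?_, ?_⟩
  · rw [Subalgebra.fg_def]
    exact ⟨_, s.finite_toSet.union (Set.finite_singleton _), rfl⟩
  · ext x
    exact hφ₀ x
  · -- finiteness
    refine finite_codRestrict φ₀ R' hmem (s : Set K) s.finite_toSet ?_
      (fun x hx ↦ Algebra.subset_adjoin (Or.inl hx)) ?_
    · intro x hx
      obtain ⟨y, hy⟩ := hpow x hx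
      exact ⟨q ^ n x, pow_pos hqpos _, y, hy⟩
    · intro S hS1 hS2
      refine mem_of_mem_adjoin S (fun r ↦ ?_) (Set.union_subset hS2 ?_)
      · rw [← hφ₀]
        exact hS1 _
      · obtain ⟨y, hy⟩ := hinv
        rw [Set.singleton_subset_iff, ← hy]
        exact hS1 y
  · -- injectivity
    rw [injective_iff_map_eq_zero]
    intro y hy
    have hy' : φ₀ y = 0 := by rw [← hφ, hy]; rfl
    obtain ⟨c, N, h⟩ := hsurj y
    have h1 : algebraMap A K c = 0 := by
      rw [← hφ₀, ← h, map_mul, hy', zero_mul]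
    have h2 : c = 0 := (map_eq_zero_iff _ hinj).mp h1
    rw [h2, map_zero] at h
    have h3 : IsUnit (algebraMap A (Localization.Away g) g ^ N) :=
      (IsLocalization.Away.algebraMap_isUnit g).pow N
    exact (h3.mul_left_eq_zero).mp h
  · intro x
    obtain ⟨m, y, hy⟩ := hall x.1 x.2
    refine ⟨m, y, Subtype.ext ?_⟩
    rw [hφ, hy, Subalgebra.coe_pow]

end Groth.Agent.Ega2.GeoRadicial
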