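import Groth.Agent.Ega2.GeoGood
import Groth.Agent.Ega2.GeoRadicial
import Groth.Agent.Etcore.FGLim
import Mathlib.AlgebraicGeometry.FunctionField

/-!
# Generic smooth compactification of a relative curve after a radicial base change
-/

set_option autoImplicit false
universe u

open CategoryTheory CategoryTheory.Limits AlgebraicGeometry Opposite

namespace Groth.Agent.Ega2.GeoCompact

open GeoGood GeoRadicial Etcore.FGLim

/-- The field case of the compactification theorem. -/
def FieldCase : Prop :=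
  ∀ (k : Type u) [Field k] [PerfectField k] {C : Scheme.{u}} (f : C ⟶ Spec (CommRingCat.of k))
    [SmoothOfRelativeDimension 1 f] [IsSeparated f] [QuasiCompact f],
    ∃ (Q E : Scheme.{u}) (p : Q ⟶ Spec (CommRingCat.of k)) (j : C ⟶ Q) (i : E ⟶ Q), j ≫ p = f ∧ IsProper p ∧
      SmoothOfRelativeDimension 1 p ∧ IsOpenImmersion j ∧ IsClosedImmersion i ∧ IsFinite (i ≫ p) ∧
      Etale (i ≫ p) ∧ Set.range i.base = (Set.range j.base)ᶜ

section Radicial

variable {T R : Type u} [CommRing T] [CommRing R] (φ : T →+* R)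

theorem universallyInjective_of_pow (q : ℕ) (hq : q = 1 ∨ CharP R q ∧ q.Prime)
    (h : ∀ x : R, ∃ n : ℕ, x ^ q ^ n ∈ φ.range) :
    UniversallyInjective (Spec.map (CommRingCat.ofHom φ)) := by
  refine ((tfae_universallyInjective _).out 0 1).mpr ?_
  intro F _ g₁ g₂ hg
  obtain ⟨ψ₁, rfl⟩ := Spec.map_surjective g₁
  obtain ⟨ψ₂, rfl⟩ := Spec.map_surjective g₂
  congr 1
  ext x
  have hφ : ∀ y, ψ₁ (φ y) = ψ₂ (φ y) := by
    intro y
    have := Spec.map_injective (by simpa [← Spec.map_comp] using hg :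
      Spec.map (CommRingCat.ofHom φ ≫ ψ₁) = Spec.map (CommRingCat.ofHom φ ≫ ψ₂))
    exact congr($this y)
  obtain ⟨n, y, hy⟩ := h x
  have h1 : ψ₁.hom x ^ q ^ n = ψ₂.hom x ^ q ^ n := by
    rw [← map_pow, ← map_pow, ← hy]
    exact hφ y
  rcases hq with rfl | ⟨hc, hp⟩
  · simpa using h1
  · have := Fact.mk hp
    have : CharP F q := by
      have h0 : ((q : ℕ) : F) = 0 := by
        have : ((q : ℕ) : R) = 0 := CharP.cast_eq_zero R q
        rw [← map_natCast ψ₁.hom, this, map_zero]
      exact (CharP.charP_iff_prime_eq_zero hp).mpr h0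
    exact iterateFrobenius_inj F q n h1

theorem surjective_of_finite (h1 : φ.Finite) (h2 : Function.Injective φ) :
    Surjective (Spec.map (CommRingCat.ofHom φ)) :=
  ⟨RingHom.IsIntegral.comap_surjective h1.to_isIntegral h2⟩

end Radicial

section Limit

variable (A K : Type u) [CommRing A] [IsDomain A] [IsNoetherianRing A] [Field K] [Algebra A K]
  [FaithfulSMul A K]

/-- The diagram of the spectra of the finitely generated `A`-subalgebras of `K`. -/
noncomputable abbrev specSys : (FGSub A K)ᵒᵖ ⥤ Scheme.{u} := (fgSys A K).op ⋙ Scheme.Spec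

/-- `Spec K` as a cone. -/
noncomputable abbrev specCone : Cone (specSys A K) := Scheme.Spec.mapCone (fgCocone A K).op

/-- `Spec K` is the limit. -/
noncomputable def isLimitSpecCone : IsLimit (specCone A K) :=
  isLimitOfPreserves Scheme.Spec (isColimitFG A K).op

instance (i : (FGSub A K)ᵒᵖ) : IsNoetherianRing i.unop.1 := by
  have := (Subalgebra.fg_iff_finiteType _).1 i.unop.2
  exact Algebra.FiniteType.isNoetherianRing A _

instance (i : (FGSub A K)ᵒᵖ) : CompactSpace ((specSys A K).obj i) :=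
  inferInstanceAs (CompactSpace (Spec (CommRingCat.of i.unop.1)))

instance (i : (FGSub A K)ᵒᵖ) : IsIntegral ((specSys A K).obj i) :=
  inferInstanceAs (IsIntegral (Spec (CommRingCat.of i.unop.1)))

instance (i : (FGSub A K)ᵒᵖ) : IsLocallyNoetherian ((specSys A K).obj i) :=
  inferInstanceAs (IsLocallyNoetherian (Spec (CommRingCat.of i.unop.1)))

instance (i j : (FGSub A K)ᵒᵖ) (f : i ⟶ j) : IsAffineHom ((specSys A K).map f) := 
  inferInstanceAs (IsAffineHom (Spec.map ((fgSys A K).map f.unop)))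

instance : Nonempty (specCone A K).pt :=
  inferInstanceAs (Nonempty (PrimeSpectrum K))

omit [IsDomain A] [IsNoetherianRing A] [FaithfulSMul A K] in
lemma specCone_π_apply (i : (FGSub A K)ᵒᵖ) (x : (specCone A K).pt) :
    (specCone A K).π.app i x = genericPoint ((specSys A K).obj i) := by
  have h1 : genericPoint (Spec (CommRingCat.of i.unop.1)) = (⟨⊥, Ideal.isPrime_bot⟩ : PrimeSpectrum i.unop.1) :=
    genericPoint_eq_bot_of_affine (CommRingCat.of i.unop.1)
  refine Eq.trans ?_ h1.symm
  have hx : (show PrimeSpectrum K from x).asIdeal = ⊥ :=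
    (Ideal.eq_bot_or_top _).resolve_right (show PrimeSpectrum K from x).2.ne_top
  apply PrimeSpectrum.ext
  change Ideal.comap i.unop.1.val.toRingHom (show PrimeSpectrum K from x).asIdeal = ⊥
  rw [hx]
  exact Ideal.comap_bot_of_injective _ Subtype.val_injective

end Limit

section Main

variable (hF : FieldCase.{u})

lemma spec_comp {A B₁ B₂ : Type u} [CommRing A] [CommRing B₁] [CommRing B₂] {Y : Scheme.{u}}
    (e : Spec (CommRingCat.of A) ⟶ Y) (α : A →+* B₁) (β : B₁ →+* B₂) (γ : A →+* B₂) (h : β.comp α = γ) :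
    Spec.map (CommRingCat.ofHom β) ≫ Spec.map (CommRingCat.ofHom α) ≫ e =
      Spec.map (CommRingCat.ofHom γ) ≫ e := by
  rw [← Spec.map_comp_assoc, ← CommRingCat.ofHom_comp, h]

include hF in
lemma good_of_field (K : Type u) [Field K] [PerfectField K] {C Y : Scheme.{u}} (f : C ⟶ Y)
    [SmoothOfRelativeDimension 1 f] [IsSeparated f] [QuasiCompact f] (p : Spec (CommRingCat.of K) ⟶ Y) :
    Good 1 f p := by
  have : SmoothOfRelativeDimension 1 (pullback.snd f p) :=
    GeoRelDim.relDim_of_isPullback (IsPullback.of_hasPullback f p) ‹_›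
  obtain ⟨Q, E, p', j, i, h1, h2, h3, h4, h5, h6, h7, h8⟩ := hF K (pullback.snd f p)
  refine ⟨Q, E, _, p', j, i, pullback.fst f p, ?_, h2, h3, h4, h5, h6, h7, h8⟩
  rw [h1]
  exact IsPullback.of_hasPullback f p

include hF in
theorem aux {C Y : Scheme.{u}} (f : C ⟶ Y)
    [SmoothOfRelativeDimension 1 f] [IsSeparated f] [QuasiCompact f]
    (A K : Type u) [CommRing A] [IsDomain A] [IsNoetherianRing A] [Field K] [Algebra A K]
    [FaithfulSMul A K] [PerfectField K] (q : ℕ) [ExpChar K q] (hrad : Rad A K q)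
    (e : Spec (CommRingCat.of A) ⟶ Y) [IsIso e] :
    ∃ (Y₁ : Y.Opens) (_ : (Y₁ : Set Y).Nonempty) (_ : IsAffineOpen Y₁) (Yt : Scheme.{u}) (a : Yt ⟶ Y₁.toScheme)
      (Q E C' : Scheme.{u}) (p : Q ⟶ Yt) (j : C' ⟶ Q) (i : E ⟶ Q) (b : C' ⟶ C),
      IsIntegral Yt ∧ IsFinite a ∧ UniversallyInjective a ∧ Surjective a ∧
      IsPullback b (j ≫ p) f (a ≫ Y₁.ι) ∧
      IsProper p ∧ SmoothOfRelativeDimension 1 p ∧
      IsOpenImmersion j ∧ IsClosedImmersion i ∧ IsFinite (i ≫ p) ∧ Etale (i ≫ p) ∧
      Set.range i.base = (Set.range j.base)ᶜ := by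
  -- the compactification over the perfect closure
  let t : ∀ j, (specSys A K).obj j ⟶ Y := fun j ↦ Spec.map (CommRingCat.ofHom (algebraMap A j.unop.1)) ≫ e
  have ht : ∀ {i j : (FGSub A K)ᵒᵖ} (φ : i ⟶ j), (specSys A K).map φ ≫ t j = t i := by
    intro i j φ
    exact spec_comp e (algebraMap A j.unop.1) (Subalgebra.inclusion (leOfHom φ.unop)).toRingHom
      (algebraMap A i.unop.1) rfl
  let p : (specCone A K).pt ⟶ Y := Spec.map (CommRingCat.ofHom (algebraMap A K)) ≫ e
  have hp : ∀ j, (specCone A K).π.app j ≫ t j = p := by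
    intro j
    exact spec_comp e (algebraMap A j.unop.1) j.unop.1.val.toRingHom (algebraMap A K) rfl
  have hsm : Smooth f := SmoothOfRelativeDimension.smooth 1 f
  have hgood : Good 1 f p := good_of_field hF K f (Spec.map (CommRingCat.ofHom (algebraMap A K)) ≫ e)
  obtain ⟨k, hk⟩ := exists_good (specSys A K) (specCone A K) (isLimitSpecCone A K)
    (fun j x ↦ specCone_π_apply A K j x) t ht f p hp hgood
  obtain ⟨g, hg, R', hRR', hfg, φ, hφ1, hφ2, hφ3, hφ4⟩ := exists_radicial q hrad k.unop.1 k.unop.2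
  let k' : (FGSub A K)ᵒᵖ := op ⟨R', hfg⟩
  let ψ : k' ⟶ k := (homOfLE hRR').op
  have hk' : Good 1 f (t k') := by
    rw [← ht ψ]
    exact hk.baseChange _
  obtain ⟨Q, E, C', q', j, i, b, h1, h2, h3, h4, h5, h6, h7, h8⟩ := hk'
  -- the open subset
  let w : Spec (CommRingCat.of (Localization.Away g)) ⟶ Y :=
    Spec.map (CommRingCat.ofHom (algebraMap A (Localization.Away g))) ≫ e
  have hw : IsOpenImmersion w := by
    have : IsOpenImmersion (Spec.map (CommRingCat.ofHom (algebraMap A (Localization.Away g)))) :=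
      inferInstance
    infer_instance
  have hne : (w.opensRange : Set Y).Nonempty := by
    have : Nontrivial (Localization.Away g) := φ.domain_nontrivial
    exact ⟨w (Classical.arbitrary (PrimeSpectrum (Localization.Away g))), _, rfl⟩
  have haff : IsAffineOpen w.opensRange := isAffineOpen_opensRange w
  let a : Spec (CommRingCat.of R') ⟶ w.opensRange :=
    Spec.map (CommRingCat.ofHom φ) ≫ w.isoOpensRange.hom
  have ha : a ≫ w.opensRange.ι = t k' := by
    simp only [a, Category.assoc, Scheme.Hom.isoOpensRange_hom_ι]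
    exact spec_comp e _ φ _ hφ1
  have i1 : IsFinite (Spec.map (CommRingCat.ofHom φ)) := by
    rw [IsFinite.SpecMap_iff]
    exact hφ2
  have i2 : UniversallyInjective (Spec.map (CommRingCat.ofHom φ)) := by
    refine universallyInjective_of_pow φ q ?_ hφ4
    rcases ‹ExpChar K q› with _ | hp
    · exact Or.inl rfl
    · exact Or.inr ⟨RingHom.charP R'.val.toRingHom Subtype.val_injective q, hp⟩
  have i3 : Surjective (Spec.map (CommRingCat.ofHom φ)) := surjective_of_finite φ hφ2 hφ3
  have i2' : UniversallyInjective a := MorphismProperty.comp_mem _ _ _ i2 inferInstance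
  refine ⟨w.opensRange, hne, haff, Spec (CommRingCat.of R'), a, Q, E, C', q', j, i, b, inferInstance,
    inferInstance, i2', inferInstance, ?_, h2, h3, h4, h5, h6, h7, h8⟩
  rw [ha]
  exact h1

include hF in
theorem exists_smooth_compactification_of_fieldCase {C Y : Scheme.{u}} (f : C ⟶ Y)
    [SmoothOfRelativeDimension 1 f] [IsSeparated f] [QuasiCompact f]
    [IsAffine Y] [IsIntegral Y] [IsLocallyNoetherian Y] :
    ∃ (Y₁ : Y.Opens) (_ : (Y₁ : Set Y).Nonempty) (_ : IsAffineOpen Y₁) (Yt : Scheme.{u}) (a : Yt ⟶ Y₁.toScheme)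
      (Q E C' : Scheme.{u}) (p : Q ⟶ Yt) (j : C' ⟶ Q) (i : E ⟶ Q) (b : C' ⟶ C),
      IsIntegral Yt ∧ IsFinite a ∧ UniversallyInjective a ∧ Surjective a ∧
      IsPullback b (j ≫ p) f (a ≫ Y₁.ι) ∧
      IsProper p ∧ SmoothOfRelativeDimension 1 p ∧
      IsOpenImmersion j ∧ IsClosedImmersion i ∧ IsFinite (i ≫ p) ∧ Etale (i ≫ p) ∧
      Set.range i.base = (Set.range j.base)ᶜ := by
  let A : Type u := Γ(Y, ⊤)
  have : IsDomain A := inferInstance
  have : IsNoetherianRing A := IsLocallyNoetherian.component_noetherian ⟨⊤, isAffineOpen_top Y⟩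
  let F := FractionRing A
  obtain ⟨K, _, _, _, hK⟩ : ∃ (K : Type u) (_ : Field K) (_ : PerfectField K) (_ : Algebra F K),
      IsPurelyInseparable F K :=
    ⟨perfectClosure F (AlgebraicClosure F), inferInstance, inferInstance, inferInstance, inferInstance⟩
  let q := ringExpChar F
  have : ExpChar K q := expChar_of_injective_algebraMap (algebraMap F K).injective q
  let _ : Algebra A K := ((algebraMap F K).comp (algebraMap A F)).toAlgebra
  have : IsScalarTower A F K := IsScalarTower.of_algebraMap_eq' rfl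
  have hinj : Function.Injective (algebraMap A K) :=
    (algebraMap F K).injective.comp (IsFractionRing.injective A F)
  have : FaithfulSMul A K := (faithfulSMul_iff_algebraMap_injective A K).mpr hinj
  refine aux hF f A K q ?_ Y.isoSpec.inv
  intro x
  obtain ⟨n, y, hy⟩ := IsPurelyInseparable.pow_mem F q x
  obtain ⟨a, b, hb, hab⟩ := IsFractionRing.div_surjective (A := A) y
  refine ⟨n, a, b, nonZeroDivisors.ne_zero hb, ?_⟩
  have hb' : algebraMap A F b ≠ 0 := by
    rw [Ne, FaithfulSMul.algebraMap_eq_zero_iff]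
    exact nonZeroDivisors.ne_zero hb
  rw [← hy, IsScalarTower.algebraMap_apply A F K, IsScalarTower.algebraMap_apply A F K, ← map_mul, ← hab,
    div_mul_cancel₀ _ hb']

end Main

end Groth.Agent.Ega2.GeoCompact
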