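import Groth.Agent.Ega2.GeoSpread
import Groth.Agent.Ega2.GeoRelDim
import Groth.Agent.Pi1A.FEtLimit
import Groth.Agent.S2074
import Groth.Agent.Flat2D.NoethConstr

/-!
# Spreading out a good compactification of a relative curve
-/

set_option autoImplicit false
set_option backward.isDefEq.respectTransparency false
universe u

open CategoryTheory CategoryTheory.Limits AlgebraicGeometry

namespace Groth.Agent.Ega2.GeoGood

open Ega43.LimitDescend Pi1A.LimIso GeoStage GeoSpread GeoRelDim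
open Smoothlim.LimBase (pbMap pbMap_fst pbMap_snd isPullback_pbMap)

/-- `f : C ⟶ Y` has, after the base change `s : S ⟶ Y`, a smooth proper compactification of relative
dimension `n` with boundary finite étale over `S`. -/
def Good (n : ℕ) {C Y S : Scheme.{u}} (f : C ⟶ Y) (s : S ⟶ Y) : Prop :=
  ∃ (Q E C' : Scheme.{u}) (q : Q ⟶ S) (j : C' ⟶ Q) (i : E ⟶ Q) (b : C' ⟶ C),
    IsPullback b (j ≫ q) f s ∧ IsProper q ∧ SmoothOfRelativeDimension n q ∧
      IsOpenImmersion j ∧ IsClosedImmersion i ∧ IsFinite (i ≫ q) ∧ Etale (i ≫ q) ∧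
      Set.range i.base = (Set.range j.base)ᶜ

section

variable {W X S V : Scheme.{u}} (w : W ⟶ X) (f : X ⟶ S) (v : V ⟶ S)

lemma range_of_isPullback {X X' Y Y' : Scheme.{u}} {g' : X' ⟶ X} {f' : X' ⟶ Y'} {f : X ⟶ Y} {g : Y' ⟶ Y}
    (H : IsPullback g' f' f g) : Set.range f' = g ⁻¹' Set.range f := by
  rw [← Scheme.Pullback.range_snd, ← H.isoPullback_hom_snd]
  ext y
  constructor
  · rintro ⟨x, rfl⟩
    exact ⟨H.isoPullback.hom x, by rw [Scheme.Hom.comp_apply]⟩
  · rintro ⟨x, rfl⟩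
    refine ⟨H.isoPullback.inv x, ?_⟩
    rw [← Scheme.Hom.comp_apply, Iso.inv_hom_id_assoc]

lemma range_pbMap : Set.range (pbMap w f v) = pullback.fst f v ⁻¹' Set.range w :=
  range_of_isPullback (isPullback_pbMap w f v).flip

end

/-- Base change of a good compactification. -/
theorem Good.baseChange {n : ℕ} {C Y S S' : Scheme.{u}} {f : C ⟶ Y} {s : S ⟶ Y} (h : Good n f s)
    (v : S' ⟶ S) : Good n f (v ≫ s) := by
  obtain ⟨Q, E, C', q, j, i, b, h1, h2, h3, h4, h5, h6, h7, h8⟩ := h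
  refine ⟨pullback q v, pullback (i ≫ q) v, pullback (j ≫ q) v, pullback.snd _ _, pbMap j q v, pbMap i q v,
    pullback.fst _ _ ≫ b, ?_, inferInstance, relDim_of_isPullback (IsPullback.of_hasPullback _ _) h3,
    ?_, ?_, ?_, ?_, ?_⟩
  · rw [pbMap_snd]
    exact (IsPullback.of_hasPullback (j ≫ q) v).paste_horiz h1
  · exact MorphismProperty.of_isPullback (isPullback_pbMap j q v).flip h4
  · exact MorphismProperty.of_isPullback (isPullback_pbMap i q v).flip h5
  · rw [pbMap_snd]; infer_instance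
  · rw [pbMap_snd]; infer_instance
  · rw [range_pbMap, range_pbMap, ← Set.preimage_compl]
    congr 1

lemma flat_of_isField {R S : Type*} [CommRing R] [CommRing S] (h : IsField R) (f : R →+* S) : f.Flat := by
  let := h.toField
  algebraize [f]
  exact (inferInstance : Module.Flat R S)

section

variable {J : Type u} [SmallCategory J] [IsCofiltered J] (E : J ⥤ Scheme.{u}) (c : Cone E)
    (hc : IsLimit c) [∀ {i j : J} (φ : i ⟶ j), IsAffineHom (E.map φ)]
    [∀ j, CompactSpace (E.obj j)] [∀ j, QuasiSeparatedSpace (E.obj j)]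
    {B W₀ : Scheme.{u}} (t : ∀ j, E.obj j ⟶ B)
    (ht : ∀ {i j : J} (φ : i ⟶ j), E.map φ ≫ t j = t i) (g₀ : W₀ ⟶ B)
    (p : c.pt ⟶ B) (hp : ∀ j, c.π.app j ≫ t j = p)

include hc ht hp in
/-- Smoothness of the base change to a limit lying over the generic point descends to a stage. -/
theorem exists_smooth [LocallyOfFinitePresentation g₀] [QuasiCompact g₀] [QuasiSeparated g₀]
    [IsLocallyNoetherian B] [CompactSpace B] [IsIntegral B] (hgen : ∀ x : c.pt, p x = genericPoint B)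
    {W' : Scheme.{u}} {gW : W' ⟶ W₀} {w' : W' ⟶ c.pt} (H : IsPullback gW w' g₀ p) [Smooth w'] :
    ∃ j, Smooth (pullback.snd g₀ (t j)) := by
  have : IsLocallyNoetherian W₀ := LocallyOfFiniteType.isLocallyNoetherian g₀
  have : CompactSpace W₀ := QuasiCompact.compactSpace_of_compactSpace g₀
  have : IsNoetherian W₀ := {}
  obtain ⟨j, hj⟩ := exists_empty E c hc t ht g₀ p hp (g₀.smoothLocus : Set W₀)ᶜ
    (Flat2D.NoethConstr.isConstructible_of_isOpen g₀.smoothLocus.2).compl (by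
      rw [Set.eq_empty_iff_forall_notMem]
      intro x hx
      refine hx ?_
      have h1 : g₀ (pullback.fst g₀ p x) = genericPoint B := by
        rw [← Scheme.Hom.comp_apply, pullback.condition, Scheme.Hom.comp_apply, hgen]
      have h2 : (g₀.stalkMap (pullback.fst g₀ p x)).hom.Flat := by
        refine flat_of_isField ?_ _
        rw [h1]
        exact Field.toIsField B.functionField
      have : Smooth (pullback.snd g₀ p) := by
        rw [← H.isoPullback_inv_snd]
        infer_instance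
      refine (Smoothlim.SmoothLocusBC.mem_smoothLocus_iff_of_isPullback
        (IsPullback.of_hasPullback g₀ p) x (Or.inl h2)).mp ?_
      rw [Scheme.Hom.smoothLocus_eq_top]
      trivial)
  refine ⟨j, ?_⟩
  let U := g₀.smoothLocus
  have hsm : Smooth (U.ι ≫ g₀) := by
    rw [← Scheme.Hom.smoothLocus_eq_top_iff, ← Scheme.Hom.preimage_smoothLocus_eq]
    exact U.ι_preimage_self
  have : IsIso (pbMap U.ι g₀ (t j)) := by
    refine isIso_of_isOpenImmersion_of_opensRange_eq_top _ (TopologicalSpace.Opens.ext ?_)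
    rw [Scheme.Hom.coe_opensRange, range_pbMap, Scheme.Opens.range_ι]
    rw [Set.preimage_compl, Set.compl_empty_iff] at hj
    exact hj
  rw [← IsIso.inv_hom_id_assoc (pbMap U.ι g₀ (t j)) (pullback.snd g₀ (t j)), pbMap_snd]
  infer_instance

end

section Main

variable {J : Type u} [SmallCategory J] [IsCofiltered J] (E : J ⥤ Scheme.{u}) (c : Cone E)
    (hc : IsLimit c) [∀ (i j : J) (φ : i ⟶ j), IsAffineHom (E.map φ)]
    [∀ j, CompactSpace (E.obj j)] [∀ j, IsIntegral (E.obj j)] [∀ j, IsLocallyNoetherian (E.obj j)]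

omit [∀ j, IsIntegral (E.obj j)] in
include hc in
/-- Properness descends. -/
theorem exists_proper (k : J) {Q Q' : Scheme.{u}} (q : Q ⟶ E.obj k) [LocallyOfFiniteType q]
    [QuasiCompact q] [QuasiSeparated q] (gQ : Q' ⟶ Q) (p' : Q' ⟶ c.pt) (hQ : IsPullback gQ p' q (c.π.app k))
    [IsProper p'] : ∃ m : Over k, IsProper (pullback.snd q (E.map m.hom)) := by
  have : CompactSpace Q := QuasiCompact.compactSpace_of_compactSpace q
  have : QuasiSeparatedSpace Q := quasiSeparatedSpace_of_quasiSeparated q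
  obtain ⟨i, φ, Xi, Yi, fi, gi, pY, pX, h1, h2, h3⟩ := S2074.result E c hc k q (𝟙 _) p' (𝟙 _) (c.π.app k) gQ
    (IsPullback.of_vert_isIso ⟨by simp⟩) hQ
  refine ⟨Over.mk φ, ?_⟩
  have : IsIso gi := (MorphismProperty.of_isPullback (P := MorphismProperty.isomorphisms _) h1
    (MorphismProperty.isomorphisms.infer_property _))
  refine Ega43.LimitDescendIso.prop_of_isPullback_of_isPullback (P := @IsProper) h2
    (IsPullback.of_hasPullback q (E.map φ)) (asIso gi) ?_ h3
  have := h1.w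
  rw [Category.comp_id] at this
  exact this.symm

include hc in
/-- A good compactification over a limit lying over the generic points descends to a stage. -/
theorem exists_good {n : ℕ} [Nonempty c.pt] (hgen : ∀ j (x : c.pt), c.π.app j x = genericPoint (E.obj j))
    {Y C : Scheme.{u}} (t : ∀ j, E.obj j ⟶ Y)
    (ht : ∀ {i j : J} (φ : i ⟶ j), E.map φ ≫ t j = t i) (f : C ⟶ Y)
    [LocallyOfFinitePresentation f] [QuasiCompact f] [QuasiSeparated f]
    (p : c.pt ⟶ Y) (hp : ∀ j, c.π.app j ≫ t j = p) (h : Good n f p) : ∃ k, Good n f (t k) := by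
  obtain ⟨Q', F', C', p', j', i', b', h1, h2, h3, h4, h5, h6, h7, h8⟩ := h
  have : Smooth p' := SmoothOfRelativeDimension.smooth n p'
  obtain ⟨k, Q, C₁, F, q, j₁, i₁, b₁, gQ, gC, gF, a1, a2, a3, a4, a5, a6, a7, a8, a9, a10⟩ :=
    exists_diagram E c hc t ht f p hp b' p' j' i' h1
  let t₁ : ∀ m : Over k, (above E k).obj m ⟶ E.obj k := fun m ↦ E.map m.hom
  have ht₁ : ∀ {m n : Over k} (φ : m ⟶ n), (above E k).map φ ≫ t₁ n = t₁ m := by
    intro m n φ
    change E.map φ.left ≫ E.map n.hom = E.map m.hom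
    rw [← E.map_comp, Over.w φ]
  have hp₁ : ∀ m : Over k, (overCone c k).π.app m ≫ t₁ m = c.π.app k := fun m ↦ c.w m.hom
  have hlim : IsLimit (overCone c k) := isLimitOverCone c hc k
  have b1 : LocallyOfFinitePresentation (j₁ ≫ q) := MorphismProperty.of_isPullback a7 inferInstance
  have b2 : QuasiCompact (j₁ ≫ q) := MorphismProperty.of_isPullback a7 inferInstance
  have b3 : QuasiSeparated (j₁ ≫ q) := MorphismProperty.of_isPullback a7 inferInstance
  have b4 : LocallyOfFinitePresentation j₁ := Ega43.FPOfComp.locallyOfFinitePresentation_of_comp j₁ q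
  have b5 : QuasiCompact j₁ := .of_comp j₁ q
  have b6 : QuasiSeparated j₁ := .of_comp j₁ q
  have b7 : LocallyOfFinitePresentation i₁ := Ega43.FPOfComp.locallyOfFinitePresentation_of_comp i₁ q
  have b8 : QuasiCompact i₁ := .of_comp i₁ q
  have b9 : QuasiSeparated i₁ := .of_comp i₁ q
  obtain ⟨m₁, hm₁⟩ := exists_proper E c hc k q gQ p' a8
  obtain ⟨m₂, hm₂⟩ := exists_prop (above E k) (overCone c k) hlim t₁ ht₁ j₁ q (c.π.app k) hp₁
    Ega43.LimitDescendOpen.descendsLim_isOpenImmersion (prop_pbMap_of_isPullback _ _ _ a8 a9 h4)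
  obtain ⟨m₃, hm₃⟩ := exists_prop (above E k) (overCone c k) hlim t₁ ht₁ i₁ q (c.π.app k) hp₁
    Ega43.LimitDescendClosed.descendsLim_isClosedImmersion (prop_pbMap_of_isPullback _ _ _ a8 a10 h5)
  obtain ⟨m₄, hm₄⟩ := Pi1A.FEtLimit.descendsLim_fEt (above E k) (overCone c k) hlim t₁ ht₁ (i₁ ≫ q)
    (c.π.app k) hp₁ _ _ (a10.paste_vert a8) ⟨h6, h7⟩
  obtain ⟨m₅, hm₅⟩ := exists_smooth (above E k) (overCone c k) hlim t₁ ht₁ q (c.π.app k) hp₁ (hgen k) a8
  -- ranges
  have c1 : CompactSpace C₁ := QuasiCompact.compactSpace_of_compactSpace (j₁ ≫ q)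
  have c2 : CompactSpace F := QuasiCompact.compactSpace_of_compactSpace (i₁ ≫ q)
  have c3 : CompactSpace Q := QuasiCompact.compactSpace_of_compactSpace q
  have c4 : QuasiSeparatedSpace Q := quasiSeparatedSpace_of_quasiSeparated q
  have cj : Topology.IsConstructible (Set.range j₁) := by
    rw [← Set.image_univ]
    exact j₁.isConstructible_image .univ
  have ci : Topology.IsConstructible (Set.range i₁) := by
    rw [← Set.image_univ]
    exact i₁.isConstructible_image .univ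
  have rj : gQ ⁻¹' Set.range j₁ = Set.range j' := (range_of_isPullback a9).symm
  have ri : gQ ⁻¹' Set.range i₁ = Set.range i' := (range_of_isPullback a10).symm
  let Z : Set Q := (Set.range i₁ ∪ Set.range j₁)ᶜ ∪ (Set.range i₁ ∩ Set.range j₁)
  have hZ : Topology.IsConstructible Z := (ci.union cj).compl.union (ci.inter cj)
  have hZ' : gQ ⁻¹' Z = ∅ := by
    change gQ ⁻¹' ((Set.range i₁ ∪ Set.range j₁)ᶜ ∪ (Set.range i₁ ∩ Set.range j₁)) = ∅
    rw [Set.preimage_union, Set.preimage_compl, Set.preimage_union, Set.preimage_inter, ri, rj, h8]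
    simp
  obtain ⟨m₆, hm₆⟩ := exists_empty (above E k) (overCone c k) hlim t₁ ht₁ q (c.π.app k) hp₁ Z hZ (by
    rw [Set.eq_empty_iff_forall_notMem] at hZ' ⊢
    intro x hx
    refine hZ' (a8.isoPullback.inv x) ?_
    have hx' : pullback.fst q (c.π.app k) x ∈ Z := hx
    rw [Set.mem_preimage, ← Scheme.Hom.comp_apply, IsPullback.isoPullback_inv_fst]
    exact hx')
  classical
  obtain ⟨m, hm⟩ := IsCofiltered.inf_objs_exists ({m₁, m₂, m₃, m₄, m₅, m₆} : Finset (Over k))
  obtain ⟨φ₁⟩ := hm (X := m₁) (by simp)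
  obtain ⟨φ₂⟩ := hm (X := m₂) (by simp)
  obtain ⟨φ₃⟩ := hm (X := m₃) (by simp)
  obtain ⟨φ₄⟩ := hm (X := m₄) (by simp)
  obtain ⟨φ₅⟩ := hm (X := m₅) (by simp)
  obtain ⟨φ₆⟩ := hm (X := m₆) (by simp)
  have k1 : IsProper (pullback.snd q (t₁ m)) := prop_snd (P := @IsProper) q (t₁ m₁) (t₁ m) _ (ht₁ φ₁) hm₁
  have k2 : IsOpenImmersion (pbMap j₁ q (t₁ m)) :=
    prop_pbMap (P := @IsOpenImmersion) j₁ q (t₁ m₂) (t₁ m) _ (ht₁ φ₂) hm₂
  have k3 : IsClosedImmersion (pbMap i₁ q (t₁ m)) :=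
    prop_pbMap (P := @IsClosedImmersion) i₁ q (t₁ m₃) (t₁ m) _ (ht₁ φ₃) hm₃
  have k4 : FEt.prop (pullback.snd (i₁ ≫ q) (t₁ m)) :=
    prop_snd (P := FEt.prop) (i₁ ≫ q) (t₁ m₄) (t₁ m) _ (ht₁ φ₄) hm₄
  have k5 : Smooth (pullback.snd q (t₁ m)) := prop_snd (P := @Smooth) q (t₁ m₅) (t₁ m) _ (ht₁ φ₅) hm₅
  have k6 : pullback.fst q (t₁ m) ⁻¹' Z = ∅ := by
    rw [Set.eq_empty_iff_forall_notMem] at hm₆ ⊢
    intro x hx
    refine hm₆ (bcMap q (t₁ m₆) (t₁ m) _ (ht₁ φ₆) x) ?_
    have hx' : pullback.fst q (t₁ m) x ∈ Z := hx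
    rw [Set.mem_preimage, ← Scheme.Hom.comp_apply, bcMap_fst]
    exact hx'
  refine ⟨m.left, pullback q (t₁ m), pullback (i₁ ≫ q) (t₁ m), pullback (j₁ ≫ q) (t₁ m), pullback.snd _ _,
    pbMap j₁ q (t₁ m), pbMap i₁ q (t₁ m), pullback.fst _ _ ≫ b₁, ?_, k1, ?_, k2, k3, ?_, ?_, ?_⟩
  · rw [pbMap_snd, ← ht m.hom]
    exact (IsPullback.of_hasPullback (j₁ ≫ q) (t₁ m)).paste_horiz a7
  · exact smoothOfRelativeDimension_of_generic n _ (c.π.app m.left) _ p'
      (isPullback_stMap (above E k) (overCone c k) t₁ q (c.π.app k) hp₁ _ _ a8 m) h3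
      (Classical.arbitrary c.pt) (hgen _ _)
  · rw [pbMap_snd]; exact k4.1
  · rw [pbMap_snd]; exact k4.2
  · rw [range_pbMap, range_pbMap]
    rw [Set.eq_empty_iff_forall_notMem] at k6
    ext x
    have h := k6 x
    simp only [Z, Set.mem_preimage, Set.mem_union, Set.mem_compl_iff, Set.mem_inter_iff] at h ⊢
    tauto

end Main

end Groth.Agent.Ega2.GeoGood
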