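import Groth.Agent.Ega2.GeoStage
import Groth.Agent.S0591

/-!
# Spreading out a diagram `C' ⟶ Q' ⟵ E'` over a limit to a stage
-/

set_option autoImplicit false
set_option backward.isDefEq.respectTransparency false
universe u

open CategoryTheory CategoryTheory.Limits AlgebraicGeometry

namespace Groth.Agent.Ega2.GeoSpread

open Ega43.LimitDescend Pi1A.LimIso GeoStage
open Smoothlim.LimBase (pbMap pbMap_fst pbMap_snd isPullback_pbMap)

variable {J : Type u} [SmallCategory J] [IsCofiltered J] (E : J ⥤ Scheme.{u}) (c : Cone E)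
    (hc : IsLimit c) [∀ (i j : J) (φ : i ⟶ j), IsAffineHom (E.map φ)]
    [∀ j, CompactSpace (E.obj j)] [∀ j, QuasiSeparatedSpace (E.obj j)]

/-- The diagram of `E` above the stage `k`. -/
noncomputable abbrev above (k : J) : Over k ⥤ Scheme.{u} := Over.forget k ⋙ E

include hc in
/-- Schemes of finite presentation over the limit descend to all late stages. -/
theorem exists_scheme {X : Scheme.{u}} (f : X ⟶ c.pt) [LocallyOfFinitePresentation f] [QuasiCompact f]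
    [QuasiSeparated f] :
    ∃ (j : J), ∀ (k : J) (_ : k ⟶ j), ∃ (X₁ : Scheme.{u}) (f₁ : X₁ ⟶ E.obj k) (g : X ⟶ X₁),
      LocallyOfFinitePresentation f₁ ∧ QuasiCompact f₁ ∧ QuasiSeparated f₁ ∧
      IsPullback g f f₁ (c.π.app k) := by
  obtain ⟨j, X₀, f₀, g, h1, h2, h3, h4⟩ := S0591.result E c hc X f
  refine ⟨j, fun k φ ↦ ⟨pullback f₀ (E.map φ), pullback.snd _ _,
    pullback.lift g (f ≫ c.π.app k) (by rw [Category.assoc, c.w, h4.w]), inferInstance, inferInstance,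
    inferInstance, ?_⟩⟩
  refine IsPullback.of_right (h₁₂ := pullback.fst f₀ (E.map φ)) (v₁₃ := f₀) (h₂₂ := E.map φ) ?_
    (pullback.lift_snd _ _ _) (IsPullback.of_hasPullback _ _)
  rw [pullback.lift_fst, c.w]
  exact h4

instance compactSpace_above (k : J) (j : Over k) : CompactSpace ((above E k).obj j) :=
  inferInstanceAs (CompactSpace (E.obj j.left))

instance quasiSeparatedSpace_above (k : J) (j : Over k) : QuasiSeparatedSpace ((above E k).obj j) :=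
  inferInstanceAs (QuasiSeparatedSpace (E.obj j.left))

instance isAffineHom_above (k : J) {i j : Over k} (φ : i ⟶ j) : IsAffineHom ((above E k).map φ) :=
  inferInstanceAs (IsAffineHom (E.map φ.left))

include hc in
/-- Spreading out a diagram `C' ⟶ Q' ⟵ F'` over the limit, where `C'` is the base change of `C`. -/
theorem exists_diagram {Y C : Scheme.{u}} (t : ∀ j, E.obj j ⟶ Y)
    (ht : ∀ {i j : J} (φ : i ⟶ j), E.map φ ≫ t j = t i) (f : C ⟶ Y)
    [LocallyOfFinitePresentation f] [QuasiCompact f] [QuasiSeparated f]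
    (p : c.pt ⟶ Y) (hp : ∀ j, c.π.app j ≫ t j = p)
    {C' Q' F' : Scheme.{u}} (b' : C' ⟶ C) (p' : Q' ⟶ c.pt) (j' : C' ⟶ Q') (i' : F' ⟶ Q')
    (hC : IsPullback b' (j' ≫ p') f p)
    [LocallyOfFinitePresentation p'] [QuasiCompact p'] [QuasiSeparated p']
    [LocallyOfFinitePresentation (i' ≫ p')] [QuasiCompact (i' ≫ p')] [QuasiSeparated (i' ≫ p')] :
    ∃ (k : J) (Q C₁ F : Scheme.{u}) (q : Q ⟶ E.obj k) (j₁ : C₁ ⟶ Q) (i₁ : F ⟶ Q) (b₁ : C₁ ⟶ C)
      (gQ : Q' ⟶ Q) (gC : C' ⟶ C₁) (gF : F' ⟶ F),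
      LocallyOfFinitePresentation q ∧ QuasiCompact q ∧ QuasiSeparated q ∧
      LocallyOfFinitePresentation (i₁ ≫ q) ∧ QuasiCompact (i₁ ≫ q) ∧ QuasiSeparated (i₁ ≫ q) ∧
      IsPullback b₁ (j₁ ≫ q) f (t k) ∧ IsPullback gQ p' q (c.π.app k) ∧
      IsPullback gC j' j₁ gQ ∧ IsPullback gF i' i₁ gQ := by
  obtain ⟨a, ha⟩ := exists_scheme E c hc p'
  obtain ⟨b, hb⟩ := exists_scheme E c hc (i' ≫ p')
  obtain ⟨k, φa, φb, -⟩ := IsCofilteredOrEmpty.cone_objs a b
  obtain ⟨Q₀, q₀, gQ, hq1, hq2, hq3, hQ⟩ := ha k φa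
  obtain ⟨F₀, r₀, gF, hr1, hr2, hr3, hF⟩ := hb k φb
  let t₁ : ∀ m : Over k, (above E k).obj m ⟶ E.obj k := fun m ↦ E.map m.hom
  have ht₁ : ∀ {m n : Over k} (φ : m ⟶ n), (above E k).map φ ≫ t₁ n = t₁ m := by
    intro m n φ
    change E.map φ.left ≫ E.map n.hom = E.map m.hom
    rw [← E.map_comp, Over.w φ]
  have hp₁ : ∀ m : Over k, (overCone c k).π.app m ≫ t₁ m = c.π.app k := fun m ↦ c.w m.hom
  have hlim : IsLimit (overCone c k) := isLimitOverCone c hc k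
  let c₀ : pullback f (t k) ⟶ E.obj k := pullback.snd f (t k)
  have hC₀ : IsPullback (pullback.lift b' ((j' ≫ p') ≫ c.π.app k) (by
      rw [Category.assoc, hp, hC.w]) : C' ⟶ pullback f (t k)) (j' ≫ p') c₀ (c.π.app k) := by
    refine IsPullback.of_right (h₁₂ := pullback.fst f (t k)) (v₁₃ := f) (h₂₂ := t k) ?_
      (pullback.lift_snd _ _ _) (IsPullback.of_hasPullback _ _)
    rw [pullback.lift_fst, hp]
    exact hC
  obtain ⟨m₁, hm₁⟩ := exists_hom (above E k) (overCone c k) hlim t₁ ht₁ c₀ q₀ (c.π.app k) hp₁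
    _ _ hC₀ _ _ hQ j' rfl
  obtain ⟨m₂, hm₂⟩ := exists_hom (above E k) (overCone c k) hlim t₁ ht₁ r₀ q₀ (c.π.app k) hp₁
    _ _ hF _ _ hQ i' rfl
  obtain ⟨m, ψ₁, ψ₂, -⟩ := IsCofilteredOrEmpty.cone_objs m₁ m₂
  obtain ⟨j₁, hj₁, hj₁'⟩ := hm₁ m ψ₁
  obtain ⟨i₁, hi₁, hi₁'⟩ := hm₂ m ψ₂
  refine ⟨m.left, pullback q₀ (t₁ m), pullback c₀ (t₁ m), pullback r₀ (t₁ m), pullback.snd _ _, j₁, i₁,
    pullback.fst _ _ ≫ pullback.fst _ _, _, _, _, inferInstance, inferInstance, inferInstance, ?_, ?_, ?_,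
    ?_, ?_, hj₁', hi₁'⟩
  · rw [hi₁]; infer_instance
  · rw [hi₁]; infer_instance
  · rw [hi₁]; infer_instance
  · rw [hj₁, ← ht m.hom]
    exact (IsPullback.of_hasPullback c₀ (t₁ m)).paste_horiz (IsPullback.of_hasPullback f (t k))
  · exact isPullback_stMap (above E k) (overCone c k) t₁ q₀ (c.π.app k) hp₁ _ _ hQ m

end Groth.Agent.Ega2.GeoSpread
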