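import Groth.Agent.Smoothlim.LimDescendSource
import Groth.Agent.Pi1A.LimIso
import Groth.Agent.Ega43.LimSurj
import Groth.Agent.Ega43.LimitDescendOpen
import Groth.Agent.Ega43.LimitDescendClosed

/-!
# Descending properties of morphisms over a limit: base change form

`pbMap w f v : W ×[S] V ⟶ X ×[S] V`.  A property `P` which `DescendsLim` and holds for `pbMap w f p` (`p : c.pt ⟶ B`)
holds for `pbMap w f (t j)` at some stage `j`, and at all later stages.
-/

set_option autoImplicit false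
set_option backward.isDefEq.respectTransparency false
universe u

open CategoryTheory CategoryTheory.Limits AlgebraicGeometry

namespace Groth.Agent.Ega2.GeoStage

open Ega43.LimitDescend Pi1A.LimIso
open Smoothlim.LimBase (pbMap pbMap_fst pbMap_snd isPullback_pbMap)

section

variable {W X S V V' : Scheme.{u}} (w : W ⟶ X) (f : X ⟶ S) (v : V ⟶ S) (v' : V' ⟶ S) (h : V' ⟶ V)
  (hv : h ≫ v = v')

lemma isPullback_bcMap_pbMap :
    IsPullback (bcMap (w ≫ f) v v' h hv) (pbMap w f v') (pbMap w f v) (bcMap f v v' h hv) := by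
  refine IsPullback.of_right (h₁₂ := pullback.fst (w ≫ f) v) (v₁₃ := w) (h₂₂ := pullback.fst f v) ?_ ?_
    (isPullback_pbMap w f v).flip
  · rw [bcMap_fst, bcMap_fst]
    exact (isPullback_pbMap w f v').flip
  · apply pullback.hom_ext
    · simp
    · simp

include hv in
lemma prop_pbMap {P : MorphismProperty Scheme.{u}} [P.IsStableUnderBaseChange]
    (hP : P (pbMap w f v)) : P (pbMap w f v') :=
  MorphismProperty.of_isPullback (isPullback_bcMap_pbMap w f v v' h hv) hP

include hv in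
lemma prop_snd {P : MorphismProperty Scheme.{u}} [P.IsStableUnderBaseChange]
    (hP : P (pullback.snd f v)) : P (pullback.snd f v') :=
  MorphismProperty.of_isPullback (isPullback_bcMap f v v' h hv) hP

/-- A base change of `w` along an arbitrary pullback square is the base change `pbMap`. -/
lemma prop_pbMap_of_isPullback {P : MorphismProperty Scheme.{u}} [P.RespectsIso] {W' X' : Scheme.{u}}
    {w' : W' ⟶ X'} {f' : X' ⟶ V} {gX : X' ⟶ X} {gW : W' ⟶ W} (h1 : IsPullback gX f' f v)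
    (h2 : IsPullback gW w' w gX) (hP : P w') : P (pbMap w f v) :=
  Ega43.LimitDescendIso.prop_of_isPullback_of_isPullback h2 (isPullback_pbMap w f v).flip
    h1.isoPullback (by simp) hP

end

section

variable {J : Type u} [SmallCategory J] [IsCofiltered J] (E : J ⥤ Scheme.{u}) (c : Cone E)
    (hc : IsLimit c) [∀ {i j : J} (φ : i ⟶ j), IsAffineHom (E.map φ)]
    [∀ j, CompactSpace (E.obj j)] [∀ j, QuasiSeparatedSpace (E.obj j)]
    {B V₀ W₀ : Scheme.{u}} (t : ∀ j, E.obj j ⟶ B)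
    (ht : ∀ {i j : J} (φ : i ⟶ j), E.map φ ≫ t j = t i) (f₀ : V₀ ⟶ W₀) (g₀ : W₀ ⟶ B)
    (p : c.pt ⟶ B) (hp : ∀ j, c.π.app j ≫ t j = p)

include hc ht hp in
/-- Properties of morphisms over the limit descend to a stage. -/
theorem exists_prop {P : MorphismProperty Scheme.{u}} [P.RespectsIso] (hP : DescendsLim P)
    [QuasiCompact g₀] [QuasiSeparated g₀]
    [LocallyOfFinitePresentation f₀] [QuasiCompact f₀] [QuasiSeparated f₀]
    (h : P (pbMap f₀ g₀ p)) : ∃ j, P (pbMap f₀ g₀ (t j)) := by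
  have hY : IsPullback (pullback.fst g₀ p) (pullback.snd g₀ p) g₀ p := IsPullback.of_hasPullback _ _
  obtain ⟨j, hj⟩ := hP (pbDiagram t ht g₀) (pbCone t ht g₀ c p hp _ _ hY)
    (isLimitPbCone t ht g₀ c p hp _ _ hY hc)
    (fun j ↦ pullback.fst g₀ (t j)) (fun φ ↦ pbDiagram_map_fst t ht g₀ φ) f₀ (pullback.fst g₀ p)
    (fun j ↦ pbCone_π_fst ..) (pullback.fst (f₀ ≫ g₀) p) (pbMap f₀ g₀ p)
    (isPullback_pbMap f₀ g₀ p).flip h
  refine ⟨j, ?_⟩
  have h1 := (isPullback_pbMap f₀ g₀ (t j)).flip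
  have h2 : pbMap f₀ g₀ (t j) = h1.isoPullback.hom ≫ pullback.snd f₀ (pullback.fst g₀ (t j)) := by
    simp
  rw [h2]
  exact (P.cancel_left_of_respectsIso _ _).mpr hj

include hc ht hp in
/-- Constructible subsets with empty preimage over the limit have an empty preimage at some stage. -/
theorem exists_empty [QuasiCompact g₀] [QuasiSeparated g₀] [CompactSpace B] [QuasiSeparatedSpace B] (Z : Set W₀)
    (hZ : Topology.IsConstructible Z) (h : pullback.fst g₀ p ⁻¹' Z = ∅) :
    ∃ j, pullback.fst g₀ (t j) ⁻¹' Z = ∅ := by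
  have hY : IsPullback (pullback.fst g₀ p) (pullback.snd g₀ p) g₀ p := IsPullback.of_hasPullback _ _
  obtain ⟨j₀⟩ := IsCofiltered.nonempty (C := J)
  have hcs : CompactSpace W₀ := QuasiCompact.compactSpace_of_compactSpace g₀
  have hqs : QuasiSeparatedSpace W₀ := quasiSeparatedSpace_of_quasiSeparated g₀
  have hcs' : CompactSpace ↑(pullback g₀ (t j₀)) :=
    QuasiCompact.compactSpace_of_compactSpace (pullback.snd g₀ (t j₀))
  have hqs' : QuasiSeparatedSpace ↑(pullback g₀ (t j₀)) :=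
    quasiSeparatedSpace_of_quasiSeparated (pullback.snd g₀ (t j₀))
  -- pull back the constructible set to the stage `j₀`
  have hZ' : Topology.IsConstructible (pullback.fst g₀ (t j₀) ⁻¹' Z) :=
    (pullback.fst g₀ (t j₀)).isConstructible_preimage hZ
  have i₁ : ∀ i j : J, ∀ f : i ⟶ j, IsAffineHom ((pbDiagram t ht g₀).map f) := fun i j f => inferInstance
  obtain ⟨i, φ, hφ⟩ := Ega43.LimSurj.exists_preimage_eq_empty_of_isConstructible
    (pbDiagram t ht g₀) (pbCone t ht g₀ c p hp _ _ hY)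
    (isLimitPbCone t ht g₀ c p hp _ _ hY hc) j₀ (pullback.fst g₀ (t j₀) ⁻¹' Z) hZ' (by
      rw [Set.eq_empty_iff_forall_notMem] at h ⊢
      intro x hx
      refine h x ?_
      have := congr($(pbCone_π_fst t ht g₀ c p hp _ _ hY j₀) x)
      rw [Scheme.Hom.comp_apply] at this
      rw [Set.mem_preimage, ← this]
      exact hx)
  refine ⟨i, ?_⟩
  rw [Set.eq_empty_iff_forall_notMem] at hφ ⊢
  intro x hx
  refine hφ x ?_
  have := congr($(pbDiagram_map_fst t ht g₀ φ) x)
  rw [Scheme.Hom.comp_apply] at this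
  have hx' : pullback.fst g₀ (t i) x ∈ Z := hx
  rw [← this] at hx'
  exact hx'

end

section Hom

variable {J : Type u} [SmallCategory J] [IsCofiltered J] (E : J ⥤ Scheme.{u}) (c : Cone E)
    (hc : IsLimit c) [∀ {i j : J} (φ : i ⟶ j), IsAffineHom (E.map φ)]
    [∀ j, CompactSpace (E.obj j)] [∀ j, QuasiSeparatedSpace (E.obj j)]
    {B V₀ W₀ : Scheme.{u}} (t : ∀ j, E.obj j ⟶ B)
    (ht : ∀ {i j : J} (φ : i ⟶ j), E.map φ ≫ t j = t i) (f₀ : V₀ ⟶ B) (g₀ : W₀ ⟶ B)
    (p : c.pt ⟶ B) (hp : ∀ j, c.π.app j ≫ t j = p)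

/-- The canonical map from a pullback over the limit to the chosen pullback at a stage. -/
noncomputable def stMap {V : Scheme.{u}} (qV : V ⟶ V₀) (v : V ⟶ c.pt) (hV : IsPullback qV v f₀ p) (j : J) :
    V ⟶ pullback f₀ (t j) :=
  pullback.lift qV (v ≫ c.π.app j) (by rw [Category.assoc, hp, hV.w])

variable {V W : Scheme.{u}} (qV : V ⟶ V₀) (v : V ⟶ c.pt) (hV : IsPullback qV v f₀ p)
  (qW : W ⟶ W₀) (w : W ⟶ c.pt) (hW : IsPullback qW w g₀ p)

omit [IsCofiltered J] [∀ {i j : J} (φ : i ⟶ j), IsAffineHom (E.map φ)]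
  [∀ j, CompactSpace (E.obj j)] [∀ j, QuasiSeparatedSpace (E.obj j)] in
@[reassoc (attr := simp)]
lemma stMap_fst (j : J) : stMap E c t f₀ p hp qV v hV j ≫ pullback.fst f₀ (t j) = qV :=
  pullback.lift_fst _ _ _

omit [IsCofiltered J] [∀ {i j : J} (φ : i ⟶ j), IsAffineHom (E.map φ)]
  [∀ j, CompactSpace (E.obj j)] [∀ j, QuasiSeparatedSpace (E.obj j)] in
@[reassoc (attr := simp)]
lemma stMap_snd (j : J) :
    stMap E c t f₀ p hp qV v hV j ≫ pullback.snd f₀ (t j) = v ≫ c.π.app j :=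
  pullback.lift_snd _ _ _

omit [IsCofiltered J] [∀ {i j : J} (φ : i ⟶ j), IsAffineHom (E.map φ)]
  [∀ j, CompactSpace (E.obj j)] [∀ j, QuasiSeparatedSpace (E.obj j)] in
lemma isPullback_stMap (j : J) :
    IsPullback (stMap E c t f₀ p hp qV v hV j) v (pullback.snd f₀ (t j)) (c.π.app j) := by
  refine IsPullback.of_right (h₁₂ := pullback.fst f₀ (t j)) (v₁₃ := f₀) (h₂₂ := t j) ?_
    (stMap_snd ..) (IsPullback.of_hasPullback _ _)
  rw [stMap_fst, hp]
  exact hV

include hc ht in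
/-- Morphisms over the limit descend to all sufficiently late stages. -/
theorem exists_hom [QuasiCompact f₀] [QuasiSeparated f₀] [LocallyOfFinitePresentation g₀]
    (e : V ⟶ W) (he : e ≫ w = v) :
    ∃ (j : J), ∀ (k : J) (_ : k ⟶ j), ∃ (e' : pullback f₀ (t k) ⟶ pullback g₀ (t k)),
      e' ≫ pullback.snd g₀ (t k) = pullback.snd f₀ (t k) ∧
      IsPullback (stMap E c t f₀ p hp qV v hV k) e e' (stMap E c t g₀ p hp qW w hW k) := by
  obtain ⟨j, e₁, he₁, he₁'⟩ := exists_hom_of_hom E c hc t ht f₀ g₀ p hp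
    (hV.isoPullback.inv ≫ e ≫ hW.isoPullback.hom) (by simp [he])
  refine ⟨j, fun k φ ↦ ?_⟩
  let l : pullback f₀ (t k) ⟶ pullback g₀ (t k) :=
    pullback.lift (bcMap f₀ (t j) (t k) (E.map φ) (ht φ) ≫ e₁ ≫ pullback.fst g₀ (t j))
      (pullback.snd f₀ (t k)) (by
        rw [Category.assoc, Category.assoc, pullback.condition, reassoc_of% he₁,
          bcMap_snd_assoc, ht])
  have hl : l ≫ pullback.snd g₀ (t k) = pullback.snd f₀ (t k) := pullback.lift_snd _ _ _
  have hl' : l ≫ pullback.fst g₀ (t k) = bcMap f₀ (t j) (t k) (E.map φ) (ht φ) ≫ e₁ ≫ pullback.fst g₀ (t j) :=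
    pullback.lift_fst _ _ _
  refine ⟨l, hl, ?_⟩
  refine IsPullback.of_bot (v₂₁ := w) (v₂₂ := pullback.snd g₀ (t k)) (h₃₁ := c.π.app k) ?_ ?_
    (isPullback_stMap ..)
  · rw [he, hl]
    exact isPullback_stMap ..
  · apply pullback.hom_ext
    · rw [Category.assoc, Category.assoc, stMap_fst, hl', ← Category.assoc, ← Category.assoc]
      have h1 : stMap E c t f₀ p hp qV v hV k ≫ bcMap f₀ (t j) (t k) (E.map φ) (ht φ) =
          hV.isoPullback.hom ≫ bcMap f₀ (t j) p (c.π.app j) (hp j) := by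
        apply pullback.hom_ext <;> simp
      rw [h1]
      simp only [Category.assoc]
      rw [reassoc_of% he₁']
      simp
    · rw [Category.assoc, Category.assoc, stMap_snd, hl, stMap_snd, reassoc_of% he]

end Hom

end Groth.Agent.Ega2.GeoStage
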