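import Groth.Prelude.Def_BlowUp2
import Groth.Agent.Ega1.GlobGenPt
import Groth.Agent.Fdesc.LocGenAmple
import Groth.Agent.Dix.IdealModSec
import Groth.Agent.PerfA.FGIdeal
import Groth.Agent.Ega2.TensMon

/-!
# Ampleness from quotients `O^k ⟶ I ⊗ L^n`

* `exists_mem_genLocus_of_epi`: if `F` is generated by global sections and `F ⟶ N` is epi, `N` having a generator near
  `x`, then some global section of `F` maps to a section of `N` generating at `x`.
* `mulMap I N : I ⊗ N ⟶ N`.
* `isAmple_of_ideal_quotients`: EGA II 4.5.5 (d'' ⇒ a).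
-/

set_option autoImplicit false
universe u

open CategoryTheory CategoryTheory.Limits AlgebraicGeometry TopologicalSpace Opposite
open Groth.Agent.Fdesc.LocGen Groth.Agent.Fdesc.Skyscraper Groth.Agent.Ega1.GlobGenPt

namespace Groth.Agent.Ega2.IdealAmple

variable {X : Scheme.{u}} {N F : X.Modules}

/-- If `F` is generated by global sections (morphisms out of `F` are determined by global sections) and `p : F ⟶ N` is
an epimorphism, `N` having a generator near `x`, then some global section of `F` generates `N` at `x`. -/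
theorem exists_mem_genLocus_of_epi (hF : ∀ (M : X.Modules) (f g : F ⟶ M),
      (∀ s : Coh.structureModule X ⟶ F, s ≫ f = s ≫ g) → f = g) (p : F ⟶ N) [Epi p]
    {U : X.Opens} {e : Γ(N, U)} (he : IsGen e) (x : X) (hx : x ∈ U) :
    ∃ s : Coh.structureModule X ⟶ F, x ∈ CohB1.genLocus N (s ≫ p) := by
  by_contra hcon
  push Not at hcon
  have key : ∀ s : Coh.structureModule X ⟶ F, N.presheaf.germ ⊤ x trivial (sec (s ≫ p) ⊤) ∈
      (IsLocalRing.maximalIdeal (X.presheaf.stalk x) •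
        (⊤ : Submodule (X.presheaf.stalk x) (N.presheaf.stalk x))) := by
    intro s
    obtain ⟨a, ha⟩ := he.exists_eq (sec (s ≫ p) U)
    have h1 := genLocus_inf_eq (s ≫ p) he ha
    have h2 : x ∉ X.basicOpen a := by
      rw [← h1]
      exact fun h => hcon s h.1
    rw [Scheme.mem_basicOpen X _ x hx] at h2
    have h3 : N.presheaf.germ ⊤ x trivial (sec (s ≫ p) ⊤) = N.presheaf.germ U x hx (sec (s ≫ p) U) := by
      rw [← res_sec (s ≫ p) (le_top : U ≤ ⊤), germ_res]
    rw [h3, ha, germ_smul]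
    exact Submodule.smul_mem_smul ((IsLocalRing.mem_maximalIdeal _).2 h2) Submodule.mem_top
  let Q := N.presheaf.stalk x ⧸ (IsLocalRing.maximalIdeal (X.presheaf.stalk x) •
        (⊤ : Submodule (X.presheaf.stalk x) (N.presheaf.stalk x)))
  let q : N.presheaf.stalk x →ₗ[X.presheaf.stalk x] Q := Submodule.mkQ _
  let ψ : N ⟶ sky x Q := toSky q
  have h0 : p ≫ ψ = p ≫ 0 := by
    apply hF
    intro s
    apply hom_ext_sec
    change ψ.app ⊤ (sec (s ≫ p) ⊤) = (0 : Γ(sky x Q, ⊤))
    refine (funext fun h => ?_ : (_ : Sec x Q ⊤) = _)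
    refine (toSky_app_apply q ⊤ _ h).trans ?_
    exact (Submodule.Quotient.mk_eq_zero _).2 (key s)
  have h1 : ψ = 0 := (cancel_epi p).1 h0
  have h2 : q = 0 := by
    rw [← ofSky_toSky q]
    change ofSky ψ = 0
    rw [h1]
    ext t
    obtain ⟨V, hV, s, rfl⟩ := TopCat.Presheaf.exists_germ_eq N.presheaf t
    rw [ofSky_germ]
    rfl
  have h3 : q (N.presheaf.germ U x hx e) = 0 := by rw [h2]; rfl
  exact germ_notMem_smul_top he x hx ((Submodule.Quotient.mk_eq_zero _).1 h3)

lemma freeMod_hom_ext (k : ℕ) (M : X.Modules) (f g : FlatMod.freeMod X k ⟶ M)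
    (h : ∀ s : Coh.structureModule X ⟶ FlatMod.freeMod X k, s ≫ f = s ≫ g) : f = g :=
  Sigma.hom_ext _ _ fun i => h (Sigma.ι (fun _ : Fin k => Coh.structureModule X) i)

/-- Multiplication `I ⊗ N ⟶ N`. -/
noncomputable def mulMap (I : X.IdealSheafData) (N : X.Modules) :
    CohB1.tensorMod (ClSub.idealMod I) N ⟶ N :=
  Tens.mapT (ClSub.idealModι I) (𝟙 N) ≫ (Tens.lunit N).hom

/-- A section of the ideal module as a function. -/
noncomputable def val (I : X.IdealSheafData) {U : X.Opens} (i : Γ(ClSub.idealMod I, U)) : Γ(X, U) :=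
  (ClSub.idealModι I).app U i

lemma val_res (I : X.IdealSheafData) {U V : X.Opens} (h : V ≤ U) (i : Γ(ClSub.idealMod I, U)) :
    val I (res _ h i) = ores h (val I i) := app_res (ClSub.idealModι I) h i

lemma val_smul (I : X.IdealSheafData) {U : X.Opens} (a : Γ(X, U)) (i : Γ(ClSub.idealMod I, U)) :
    val I (a • i) = a * val I i := Scheme.Modules.Hom.app_smul (ClSub.idealModι I) a i

lemma val_injective (I : X.IdealSheafData) {U : X.Opens} : Function.Injective (val I (U := U)) :=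
  Dix.IdealModSec.idealModι_app_injective I U

lemma mulMap_tmul (I : X.IdealSheafData) {U : X.Opens} (i : Γ(ClSub.idealMod I, U)) (n : Γ(N, U)) :
    (mulMap I N).app U (tmul i n) = val I i • n := by
  have h1 : (Tens.mapT (ClSub.idealModι I) (𝟙 N)).app U (Tens.tmul i n) = Tens.tmul (Tens.sm (val I i)) n :=
    Tens.mapT_tmul (ClSub.idealModι I) (𝟙 N) i n
  have h2 := Tens.lunit_hom_tmul (N := N) (val I i) n
  rw [← h1] at h2
  exact h2

/-- `1 ∈ I(V)` is a generator of the module of `I`. -/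
lemma isGen_of_val_eq_one (I : X.IdealSheafData) {V : X.Opens} (i : Γ(ClSub.idealMod I, V)) (hi : val I i = 1) :
    IsGen i := by
  intro W hW
  have h1 : ∀ a : Γ(X, W), val I (a • res _ hW i) = a := by
    intro a
    rw [val_smul, val_res, hi, map_one, mul_one]
  refine ⟨fun a b hab => ?_, fun t => ⟨val I t, val_injective I ?_⟩⟩
  · have := congrArg (val I) hab
    simpa only [h1] using this
  · exact h1 _

/-- If `I ⊗ N` is a quotient of `O^k`, `N` invertible, `I = 1` on the open `W`, and `D(a) ≤ W` for all local sections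
`a` of `I`, then every `x ∈ W` is in the generating locus of some section `q` of `N` with `X_q ≤ W`. -/
theorem exists_section (I : X.IdealSheafData) {N : X.Modules} (hN : PicF.IsInvertible N) (W : X.Opens)
    (hIW : ∀ A : X.affineOpens, A.1 ≤ W → I.ideal A = ⊤)
    (hbo : ∀ A : X.affineOpens, ∀ x ∈ I.ideal A, X.basicOpen x ≤ W) (k : ℕ)
    (p : FlatMod.freeMod X k ⟶ CohB1.tensorMod (ClSub.idealMod I) N) [Epi p] (x : X) (hxW : x ∈ W) :
    ∃ q : Coh.structureModule X ⟶ N, x ∈ CohB1.genLocus N q ∧ CohB1.genLocus N q ≤ W := by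
  -- near `x`
  obtain ⟨V, e, hV, hxV, hVW, he⟩ := exists_affine_gen hN hxW
  obtain ⟨i₁, hi₁⟩ := Dix.IdealModSec.exists_of_mem I ⟨V, hV⟩ 1 (by rw [hIW ⟨V, hV⟩ hVW]; trivial)
  have hgi₁ : IsGen i₁ := isGen_of_val_eq_one I i₁ hi₁
  obtain ⟨s, hs⟩ := exists_mem_genLocus_of_epi (freeMod_hom_ext k) p (hgi₁.tmul he) x hxV
  let q : Coh.structureModule X ⟶ N := (s ≫ p) ≫ mulMap I N
  refine ⟨q, ?_, ?_⟩
  · rw [mem_genLocus_iff]
    refine ⟨V ⊓ CohB1.genLocus _ (s ≫ p), ⟨hxV, hs⟩, ?_⟩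
    have h1 : IsGen (sec (s ≫ p) (V ⊓ CohB1.genLocus _ (s ≫ p))) := (le_genLocus_iff _ _).mp inf_le_right
    obtain ⟨u, hu, hu'⟩ := ((hgi₁.tmul he).res (inf_le_left : V ⊓ CohB1.genLocus _ (s ≫ p) ≤ V)).exists_unit h1
    rw [sec_comp, hu', Scheme.Modules.Hom.app_smul, app_res, mulMap_tmul]
    have h2 : val I i₁ = 1 := hi₁
    rw [h2, one_smul]
    exact (he.res _).unit_smul hu
  · intro y hy
    obtain ⟨V', e', hV', hyV', -, he'⟩ := exists_affine_gen hN (U := ⊤) (x := y) trivial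
    obtain ⟨i, hi⟩ := (tmul_right_bijective (ClSub.idealMod I) he' le_rfl).2 (sec (s ≫ p) V')
    dsimp only at hi
    rw [res_refl] at hi
    have h1 : sec q V' = val I i • e' := by
      rw [sec_comp, ← hi, mulMap_tmul]
    have h2 := genLocus_inf_eq q he' h1
    have h3 : y ∈ X.basicOpen (val I i) := by
      rw [← h2]
      exact ⟨hy, hyV'⟩
    exact hbo ⟨V', hV'⟩ _ (Dix.IdealModSec.idealModι_app_mem I ⟨V', hV'⟩ i) h3

/-- EGA II, 4.5.5 (d'' ⇒ a). -/
theorem isAmple_of_ideal_quotients [CompactSpace X] [QuasiSeparatedSpace X] (L : X.Modules)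
    (hL : PicF.IsInvertible L)
    (h : ∀ I : X.IdealSheafData, BlowUp.IsFiniteTypeIdeal I →
      ∃ (n k : ℕ) (p : FlatMod.freeMod X k ⟶ CohB1.tensorMod (ClSub.idealMod I) (CohB1.tensorPow L (n + 1))), Epi p) :
    CohB1.IsAmple L := by
  refine ⟨hL, inferInstance, fun x => ?_⟩
  obtain ⟨W, hW, hxW, -⟩ := exists_affine_nhds (U := (⊤ : X.Opens)) (x := x) trivial
  obtain ⟨I, hfg, hIW, hbo, -⟩ := PerfA.FGIdeal.exists_fg_of_isCompact W hW.isCompact
  obtain ⟨n, k, p, hp⟩ := h I hfg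
  obtain ⟨q, hq, hqW⟩ := exists_section I (isInvertible_tensorPow hL (n + 1)) W hIW hbo k p x hxW
  refine ⟨n, q, hq, ?_⟩
  have := isAffineOpen_genLocus_inf (isInvertible_tensorPow hL (n + 1)) q hW
  rwa [inf_eq_left.mpr hqW] at this

end Groth.Agent.Ega2.IdealAmple
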