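import Groth.Agent.Etcore.HpullCalc
import Groth.Agent.Sga4B.AcycCmp

/-!
# Classes dying under pullback along an acyclic morphism

`f : X ⟶ Y` with `R^q f_* (f⁻¹ G) = 0` for `q > 0`: a class in `H^n(Y, G)` with zero pullback to `X` dies in
`H^n(Y, f_* f⁻¹ G)`.
-/

set_option autoImplicit false
universe u
open CategoryTheory CategoryTheory.Limits AlgebraicGeometry Opposite Abelian
open scoped Groth.Agent.Etcore.EtInst
open Groth.Agent.Etcore.EtInst Groth.Agent.Etcore.HpullCalc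

namespace Groth.Agent.Ega2.LACKill

variable {X Y : Scheme.{u}}

theorem map_unit_eq_zero (f : X ⟶ Y) [PreservesFiniteLimits (EtCoh.pull f)] (G : EtCoh.Ab Y)
    (h : EtpbcB.Acyc.Acyclic (EtCoh.push f) ((EtCoh.pull f).obj G)) (n : ℕ) (x : HH Y G n)
    (hx : hp f G n x = 0) : HHmap ((EtCoh.pullPushAdj f).unit.app G) n x = 0 := by
  have h1 : x.mapExactFunctor (EtCoh.pull f) = 0 := by
    have h2 : (Ext.mk₀ (EtCore.pullConst f ℤ).inv).comp (x.mapExactFunctor (EtCoh.pull f))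
      (zero_add n) = 0 := hx
    have h3 := congrArg (fun y => (Ext.mk₀ (EtCore.pullConst f ℤ).hom).comp y (zero_add n)) h2
    rw [Ext.comp_zero, ← Ext.comp_assoc_of_second_deg_zero, Ext.mk₀_comp_mk₀, Iso.hom_inv_id,
      Ext.mk₀_id_comp] at h3
    exact h3
  have h4 := (Sga4B.AcycCmp.psi_bijective.{u+1, u+1} (EtCoh.pullPushAdj f) (EtCoh.const Y ℤ) n
    ((EtCoh.pull f).obj G) h).1
  rw [injective_iff_map_eq_zero] at h4
  apply h4
  have h5 : (EtCoh.pull f).map ((EtCoh.pullPushAdj f).unit.app G) ≫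
      (EtCoh.pullPushAdj f).counit.app ((EtCoh.pull f).obj G) = 𝟙 _ :=
    (EtCoh.pullPushAdj f).left_triangle_components G
  rw [Sga4B.AcycCmp.psi_apply, HHmap_apply, Ext.mapExactFunctor_comp, Ext.mapExactFunctor_mk₀,
    Ext.comp_assoc_of_third_deg_zero, Ext.mk₀_comp_mk₀, h5, Ext.comp_mk₀_id, h1]

end Groth.Agent.Ega2.LACKill
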