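import Groth.Agent.Ega2.LACStalk
import Groth.Agent.Sga4h.Acyc

/-!
# Decomposition of the inverse image of a direct image by sections

`f : Z₁ ⟶ Z₀` finite, `ρ : Z₂ ⟶ Z₀`, `s i : Z₂ ⟶ Z₁` finitely many lifts of `ρ`, `G` a sheaf on `Z₁`. If at every
geometric point of `Z₂` either the stalks of `G` at all points above vanish or the `s i` give all the points above
bijectively, then `ρ⁻¹ f_* G ≅ ⨁ (s i)⁻¹ G`.
-/

set_option autoImplicit false
set_option backward.isDefEq.respectTransparency.types false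
universe u

open CategoryTheory CategoryTheory.Limits AlgebraicGeometry Opposite

namespace Groth.Agent.Ega2.LACSum

open Groth.Agent.Etbase.StalkPull Groth.Agent.Etcore.Stalks Groth.Agent.Etbase.StalkPush LACStalk

/-- A map to a finite biproduct becomes an isomorphism of abelian groups under an additive functor `T` if it is
componentwise so on elements. -/
theorem isIso_map_lift {C : Type*} [Category* C] [Preadditive C] [HasFiniteBiproducts C]
    (T : C ⥤ AddCommGrpCat.{u + 1}) [T.Additive] {ι : Type} [Finite ι] {A : C} {B : ι → C}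
    (ψ : ∀ i, A ⟶ B i)
    (hinj : ∀ x : T.obj A, (∀ i, T.map (ψ i) x = 0) → x = 0)
    (hsurj : ∀ y : (∀ i, T.obj (B i)), ∃ x : T.obj A, ∀ i, T.map (ψ i) x = y i) :
    IsIso (T.map (biproduct.lift ψ)) := by
  have := Fintype.ofFinite ι
  have e : ∀ (x : T.obj A) (i : ι), T.map (biproduct.π B i) (T.map (biproduct.lift ψ) x) =
      T.map (ψ i) x := by
    intro x i
    rw [← ConcreteCategory.comp_apply, ← T.map_comp, biproduct.lift_π]
  have key : ∀ y : T.obj (⨁ B), (∀ i, T.map (biproduct.π B i) y = 0) → y = 0 := by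
    intro y hy
    have h1 : T.map (𝟙 (⨁ B)) y = y := by rw [T.map_id]; rfl
    rw [← h1, ← biproduct.total, T.map_sum]
    have h2 : ∀ (a : ι → (T.obj (⨁ B) ⟶ T.obj (⨁ B))), (∀ i, a i y = 0) → (∑ i, a i) y = 0 := by
      intro a ha
      have h3 : (∑ i, a i).hom y = ∑ i, (a i).hom y := by
        have h4 : (∑ i, a i).hom = ∑ i, (a i).hom :=
          map_sum (AddCommGrpCat.homAddEquiv (M := T.obj (⨁ B)) (N := T.obj (⨁ B))) a Finset.univ
        rw [h4, AddMonoidHom.finsetSum_apply]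
      exact h3.trans (Finset.sum_eq_zero fun i _ => ha i)
    apply h2
    intro i
    rw [T.map_comp, ConcreteCategory.comp_apply, hy i, map_zero]
  rw [ConcreteCategory.isIso_iff_bijective]
  constructor
  · rw [injective_iff_map_eq_zero]
    intro x hx
    apply hinj
    intro i
    rw [← e, hx, map_zero]
  · intro y
    obtain ⟨x, hx⟩ := hsurj fun i => T.map (biproduct.π B i) y
    refine ⟨x, ?_⟩
    rw [← sub_eq_zero]
    apply key
    intro i
    rw [map_sub, e, hx, sub_self]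

variable {Z₀ Z₁ Z₂ : Scheme.{u}} (f : Z₁ ⟶ Z₀) [IsFinite f] (ρ : Z₂ ⟶ Z₀) {ι : Type} [Finite ι]
  (s : ι → (Z₂ ⟶ Z₁)) (hs : ∀ i, s i ≫ f = ρ) (G : EtCoh.Ab Z₁)

theorem exists_geom (Z : Scheme.{u}) (z : Z) : ∃ (Ω : Type u) (_ : Field Ω) (_ : IsAlgClosed Ω)
    (l : Spec (CommRingCat.of Ω) ⟶ Z), l default = z := by
  refine ⟨AlgebraicClosure (Z.residueField z), inferInstance, inferInstance,
    Spec.map (CommRingCat.ofHom (algebraMap (Z.residueField z) _)) ≫ Z.fromSpecResidueField z, ?_⟩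
  rw [Scheme.Hom.comp_apply]
  exact Scheme.fromSpecResidueField_apply _ _

theorem isIso_lift_psi
    (H : ∀ (Ω : Type u) [Field Ω] [IsAlgClosed Ω] (z : Spec (CommRingCat.of Ω) ⟶ Z₂),
      (∀ ξ : Spec (CommRingCat.of Ω) ⟶ Z₁, ξ ≫ f = z ≫ ρ → Subsingleton ((EtCoh.stalk ξ).obj G)) ∨
      ((∀ ξ : Spec (CommRingCat.of Ω) ⟶ Z₁, ξ ≫ f = z ≫ ρ → ∃ i, z ≫ s i = ξ) ∧
        Function.Injective fun i => z ≫ s i)) :
    IsIso (biproduct.lift fun i => psi f (s i) ρ (hs i) G) := by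
  apply isIso_of_stalks
  intro x
  obtain ⟨Ω, _, _, z, hz⟩ := exists_geom Z₂ x
  refine ⟨Ω, inferInstance, inferInstance, z, hz, ?_⟩
  have hzs : ∀ i, (z ≫ s i) ≫ f = z ≫ ρ := fun i => by rw [Category.assoc, hs i]
  have b1 := ConcreteCategory.bijective_of_isIso ((stalkPullIso ρ z).hom.app ((EtCoh.push f).obj G))
  have b2 := fun i => ConcreteCategory.bijective_of_isIso ((stalkPullIso (s i) z).hom.app G)
  have hc : ∀ (i : ι) (x : (EtCoh.stalk (z ≫ ρ)).obj ((EtCoh.push f).obj G)),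
      (EtCoh.stalk z).map (psi f (s i) ρ (hs i) G) ((stalkPullIso ρ z).hom.app _ x) =
        (stalkPullIso (s i) z).hom.app G (cmp f (z ≫ s i) (hzs i) G x) := fun i x =>
    stalk_psi f (s i) ρ (hs i) G z x
  refine isIso_map_lift (EtCoh.stalk z) (fun i => psi f (s i) ρ (hs i) G) ?_ ?_
  · intro y hy
    obtain ⟨x, rfl⟩ := b1.2 y
    have h0 : ∀ i, cmp f (z ≫ s i) (hzs i) G x = 0 := by
      intro i
      apply (b2 i).1
      rw [← hc, hy i, map_zero]
    have h1 : x = 0 := by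
      apply injective_cmp f G x
      intro ξ hξ
      rcases H Ω z with h | ⟨h, -⟩
      · have := h ξ hξ
        exact Subsingleton.elim _ _
      · obtain ⟨i, rfl⟩ := h ξ hξ
        exact h0 i
    rw [h1, map_zero]
  · intro y
    choose w hw using fun i => (b2 i).2 (y i)
    have h1 : ∃ x : (EtCoh.stalk (z ≫ ρ)).obj ((EtCoh.push f).obj G), ∀ i, cmp f (z ≫ s i) (hzs i) G x = w i := by
      rcases H Ω z with h | ⟨h, hinj⟩
      · refine ⟨0, fun i => ?_⟩
        have := h (z ≫ s i) (hzs i)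
        exact Subsingleton.elim _ _
      · have h2 : ∀ ξ : {ξ : Spec (CommRingCat.of Ω) ⟶ Z₁ // ξ ≫ f = z ≫ ρ},
            ∃ v : (EtCoh.stalk ξ.1).obj G, ∀ (i : ι) (hi : z ≫ s i = ξ.1),
              v = hi ▸ w i := by
          rintro ⟨ξ, hξ⟩
          obtain ⟨i, rfl⟩ := h ξ hξ
          refine ⟨w i, fun j hj => ?_⟩
          obtain rfl : j = i := hinj hj
          rfl
        choose v hv using h2
        obtain ⟨x, hx⟩ := surjective_cmp f G v
        exact ⟨x, fun i => (hx ⟨z ≫ s i, hzs i⟩).trans (hv ⟨z ≫ s i, hzs i⟩ i rfl)⟩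
    obtain ⟨x, hx⟩ := h1
    refine ⟨(stalkPullIso ρ z).hom.app _ x, fun i => ?_⟩
    rw [hc, hx, hw]

include hs in
/-- vanishing of the cohomology of `ρ⁻¹ f_* G`. -/
theorem subsingleton_H
    (H : ∀ (Ω : Type u) [Field Ω] [IsAlgClosed Ω] (z : Spec (CommRingCat.of Ω) ⟶ Z₂),
      (∀ ξ : Spec (CommRingCat.of Ω) ⟶ Z₁, ξ ≫ f = z ≫ ρ → Subsingleton ((EtCoh.stalk ξ).obj G)) ∨
      ((∀ ξ : Spec (CommRingCat.of Ω) ⟶ Z₁, ξ ≫ f = z ≫ ρ → ∃ i, z ≫ s i = ξ) ∧
        Function.Injective fun i => z ≫ s i)) (q : ℕ)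
    (h : ∀ i, Subsingleton (EtCoh.H Z₂ ((EtCoh.pull (s i)).obj G) q)) :
    Subsingleton (EtCoh.H Z₂ ((EtCoh.pull ρ).obj ((EtCoh.push f).obj G)) q) := by
  have := isIso_lift_psi f ρ s hs G H
  have : (EtCoh.HF Z₂ q).Additive := inferInstanceAs (Sheaf.functorH _ q).Additive
  have h1 : IsZero ((EtCoh.HF Z₂ q).obj (⨁ fun i => (EtCoh.pull (s i)).obj G)) :=
    Groth.Agent.Sga4h.Acyc.isZero_map_biproduct (EtCoh.HF Z₂ q) _ fun i => by
      exact @AddCommGrpCat.isZero_of_subsingleton _ (h i)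
  have h2 : IsZero ((EtCoh.HF Z₂ q).obj ((EtCoh.pull ρ).obj ((EtCoh.push f).obj G))) :=
    h1.of_iso ((EtCoh.HF Z₂ q).mapIso (asIso (biproduct.lift fun i => psi f (s i) ρ (hs i) G)))
  exact AddCommGrpCat.subsingleton_of_isZero h2

end Groth.Agent.Ega2.LACSum
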