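import Groth.Agent.Ega2.LACDies
import Groth.Agent.Ega2.LACKill
import Groth.Agent.Ega2.LACSum
import Groth.Agent.EtpbcB.NKillH
import Groth.Agent.EtpbcB.SurjFaithful
import Groth.Agent.Sga4A.IntegralSection

/-!
# Descent of vanishing of cohomology from the integral closure in a Galois extension

`V` a normal noetherian domain with fraction field `K`, `Kb / K` Galois, `g : Z ⟶ Spec V` quasi-compact and
quasi-separated, `A` a sheaf on `Z` with zero stalks outside the generic fibre.  If the cohomology of `A` on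
`Z ×_V V̄` vanishes in all degrees (`V̄` the integral closure of `V` in `Kb`), so does that of `A` on `Z`.
-/

set_option autoImplicit false
universe u
open CategoryTheory CategoryTheory.Limits AlgebraicGeometry Opposite Abelian

namespace Groth.Agent.Ega2.LACDesc

open Groth.Agent.Etbase.StalkPull Groth.Agent.Etbase.StalkPush Sga1.UlaRes

/-- The stalks outside the generic fibre vanish. -/
def Supp {V : Type u} [CommRing V] {Z : Scheme.{u}} (g : Z ⟶ Spec (CommRingCat.of V)) (A : EtCoh.Ab Z) : Prop :=
  ∀ (Ω : Type u) [Field Ω] [IsAlgClosed Ω] (z : Spec (CommRingCat.of Ω) ⟶ Z) (v : V →+* Ω),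
    z ≫ g = Spec.map (CommRingCat.ofHom v) → ¬ Function.Injective v →
      Subsingleton ((EtCoh.stalk z).obj A)

section

variable {X Y Z : Scheme.{u}}

theorem subsingleton_stalk_pull (f : X ⟶ Y) (A : EtCoh.Ab Y) {Ω : Type u} [Field Ω] [IsSepClosed Ω]
    (z : Spec (CommRingCat.of Ω) ⟶ X) (y : Spec (CommRingCat.of Ω) ⟶ Y) (h : z ≫ f = y)
    (hA : Subsingleton ((EtCoh.stalk y).obj A)) :
    Subsingleton ((EtCoh.stalk z).obj ((EtCoh.pull f).obj A)) := by
  subst h
  exact ((stalkPullIso f z).app A).addCommGroupIsoToAddEquiv.toEquiv.subsingleton_congr.1 hA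

theorem subsingleton_pull_pull (f : X ⟶ Y) (g : Y ⟶ Z) (k : X ⟶ Z) (h : f ≫ g = k) (A : EtCoh.Ab Z)
    (q : ℕ) (hA : Subsingleton (EtCoh.H X ((EtCoh.pull k).obj A) q)) :
    Subsingleton (EtCoh.H X ((EtCoh.pull f).obj ((EtCoh.pull g).obj A)) q) :=
  (EtpbcB.IsoTransport.HPullComp f g k h A q).toEquiv.subsingleton_congr.1 hA

end

theorem epi_stalk {X : Scheme.{u}} {F G : EtCoh.Ab X} (φ : F ⟶ G) [Epi φ] {Ω : Type u} [Field Ω] [IsSepClosed Ω]
    (z : Spec (CommRingCat.of Ω) ⟶ X) (h : Subsingleton ((EtCoh.stalk z).obj F)) :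
    Subsingleton ((EtCoh.stalk z).obj G) := by
  have h1 : Epi ((EtCoh.stalk z).map φ) := inferInstance
  rw [AddCommGrpCat.epi_iff_surjective] at h1
  exact h1.subsingleton

variable (V K Kb : Type u) [CommRing V] [IsDomain V] [IsNoetherianRing V] [IsIntegrallyClosed V]
  [Field K] [Algebra V K] [IsFractionRing V K] [Field Kb]
  [Algebra K Kb] [Algebra V Kb] [IsScalarTower V K Kb] [IsGalois K Kb]
  {Z : Scheme.{u}} (g : Z ⟶ Spec (CommRingCat.of V))

/-- The projection from the base change to the whole integral closure. -/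
noncomputable abbrev rho :
    pullback g (Spec.map (CommRingCat.ofHom (algebraMap V (integralClosure V Kb)))) ⟶ Z :=
  pullback.fst g (Spec.map (CommRingCat.ofHom (algebraMap V (integralClosure V Kb))))

/-- The projection from a finite stage. -/
noncomputable abbrev fL (L : FiniteGaloisIntermediateField K Kb) :
    pullback g (Spec.map (CommRingCat.ofHom (algebraMap V (LACGal.S V K Kb L)))) ⟶ Z :=
  pullback.fst g (Spec.map (CommRingCat.ofHom (algebraMap V (LACGal.S V K Kb L))))

/-- The section attached to an automorphism. -/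
noncomputable def sec (L : FiniteGaloisIntermediateField K Kb) (σ : L ≃ₐ[K] L) :
    pullback g (Spec.map (CommRingCat.ofHom (algebraMap V (integralClosure V Kb)))) ⟶
      pullback g (Spec.map (CommRingCat.ofHom (algebraMap V (LACGal.S V K Kb L)))) :=
  pullback.lift (rho V Kb g)
    (pullback.snd _ _ ≫ Spec.map (CommRingCat.ofHom (LACGal.conj V K Kb L σ).toRingHom))
    (by
      rw [Category.assoc, ← Spec.map_comp]
      have : CommRingCat.ofHom (algebraMap V (LACGal.S V K Kb L)) ≫
          CommRingCat.ofHom (LACGal.conj V K Kb L σ).toRingHom =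
          CommRingCat.ofHom (algebraMap V (integralClosure V Kb)) := by
        rw [← CommRingCat.ofHom_comp]
        congr 1
        ext x
        simp
      rw [this]
      exact pullback.condition)

theorem sec_fL (L : FiniteGaloisIntermediateField K Kb) (σ : L ≃ₐ[K] L) :
    sec V K Kb g L σ ≫ fL V K Kb g L = rho V Kb g := pullback.lift_fst _ _ _

theorem sec_snd (L : FiniteGaloisIntermediateField K Kb) (σ : L ≃ₐ[K] L) :
    sec V K Kb g L σ ≫ pullback.snd _ _ =
      pullback.snd _ _ ≫ Spec.map (CommRingCat.ofHom (LACGal.conj V K Kb L σ).toRingHom) :=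
  pullback.lift_snd _ _ _

theorem isFinite_fL (L : FiniteGaloisIntermediateField K Kb) : IsFinite (fL V K Kb g L) := by
  have := LACGal.finite_S V K Kb L
  have : IsFinite (Spec.map (CommRingCat.ofHom (algebraMap V (LACGal.S V K Kb L)))) := by
    rw [IsFinite.SpecMap_iff]
    exact RingHom.finite_algebraMap.2 this
  infer_instance

theorem surjective_fL (L : FiniteGaloisIntermediateField K Kb) : Surjective (fL V K Kb g L) := by
  have hinj : Function.Injective (algebraMap V (LACGal.S V K Kb L)) := by
    have h1 : Function.Injective (algebraMap V L) := by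
      rw [IsScalarTower.algebraMap_eq V K L]
      exact (algebraMap K L).injective.comp (IsFractionRing.injective V K)
    intro a b hab
    apply h1
    exact congrArg (fun t : LACGal.S V K Kb L => (t : L)) hab
  have : Surjective (Spec.map (CommRingCat.ofHom (algebraMap V (LACGal.S V K Kb L)))) := by
    constructor
    have : FaithfulSMul V (LACGal.S V K Kb L) := (faithfulSMul_iff_algebraMap_injective _ _).2 hinj
    exact Algebra.IsIntegral.comap_surjective _ _
  infer_instance

/-- The direct image of the pullback of `A` at a finite stage. -/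
noncomputable abbrev Ap (L : FiniteGaloisIntermediateField K Kb) (A : EtCoh.Ab Z) : EtCoh.Ab Z :=
  (EtCoh.push (fL V K Kb g L)).obj ((EtCoh.pull (fL V K Kb g L)).obj A)

theorem supp_Ap (L : FiniteGaloisIntermediateField K Kb) (A : EtCoh.Ab Z) (hA : Supp g A) :
    Supp g (Ap V K Kb g L A) := by
  have := isFinite_fL V K Kb g L
  intro Ω _ _ z v hz hv
  refine subsingleton_of_forall_eq 0 fun x => ?_
  apply injective_cmp (fL V K Kb g L) _ x
  intro ξ hξ
  have := subsingleton_stalk_pull (fL V K Kb g L) A ξ z hξ (hA Ω z v hz hv)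
  exact Subsingleton.elim _ _

/-- The cohomology of the pullback of `Ap` to the whole integral closure vanishes. -/
theorem van_Ap (L : FiniteGaloisIntermediateField K Kb) (A : EtCoh.Ab Z) (hA : Supp g A)
    (q : ℕ) (h : Subsingleton (EtCoh.H _ ((EtCoh.pull (rho V Kb g)).obj A) q)) :
    Subsingleton (EtCoh.H _ ((EtCoh.pull (rho V Kb g)).obj (Ap V K Kb g L A)) q) := by
  have := isFinite_fL V K Kb g L
  have hfin : Finite (L ≃ₐ[K] L) := inferInstance
  let e := Finite.equivFin (L ≃ₐ[K] L)
  refine LACSum.subsingleton_H (fL V K Kb g L) (rho V Kb g) (fun i => sec V K Kb g L (e.symm i))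
    (fun i => sec_fL V K Kb g L _) _ ?_ q fun i => subsingleton_pull_pull _ _ _ (sec_fL V K Kb g L _) A q h
  intro Ω _ _ z
  obtain ⟨ω, hω⟩ := Spec.map_surjective (z ≫ pullback.snd _ _)
  have hω' : z ≫ rho V Kb g ≫ g =
      Spec.map (CommRingCat.ofHom (ω.hom.comp (algebraMap V (integralClosure V Kb)))) := by
    rw [CommRingCat.ofHom_comp, Spec.map_comp]
    have : CommRingCat.ofHom ω.hom = ω := rfl
    rw [this, hω, Category.assoc, pullback.condition]
  by_cases hinj : Function.Injective (ω.hom.comp (algebraMap V (integralClosure V Kb)))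
  · right
    constructor
    · intro ξ hξ
      obtain ⟨b, hb⟩ := Spec.map_surjective (ξ ≫ pullback.snd _ _)
      have hb' : b.hom.comp (algebraMap V (LACGal.S V K Kb L)) =
          ω.hom.comp (algebraMap V (integralClosure V Kb)) := by
        have h1 : Spec.map (CommRingCat.ofHom (b.hom.comp (algebraMap V (LACGal.S V K Kb L)))) =
            Spec.map (CommRingCat.ofHom (ω.hom.comp (algebraMap V (integralClosure V Kb)))) := by
          rw [← hω', ← Category.assoc, ← hξ, Category.assoc, pullback.condition, ← Category.assoc, ← hb,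
            CommRingCat.ofHom_comp, Spec.map_comp]
          rfl
        exact congrArg CommRingCat.Hom.hom (Spec.map_injective h1)
      obtain ⟨σ, hσ⟩ := LACGal.exists_conj V K Kb L ω.hom b.hom hb' hinj
      refine ⟨e σ, ?_⟩
      rw [Equiv.symm_apply_apply]
      apply pullback.hom_ext
      · rw [Category.assoc, sec_fL, hξ]
      · rw [Category.assoc, sec_snd, ← Category.assoc, ← hω, ← hb, ← Spec.map_comp]
        congr 1
        ext x
        exact congrArg (fun (g : _ →+* Ω) => g x) hσ
    · intro i j hij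
      apply e.symm.injective
      apply LACGal.conj_injective V K Kb L ω.hom hinj
      have h1 : z ≫ sec V K Kb g L (e.symm i) = z ≫ sec V K Kb g L (e.symm j) := hij
      have h2 := congrArg (fun t => t ≫ pullback.snd _ _) h1
      rw [Category.assoc, Category.assoc, sec_snd, sec_snd, ← Category.assoc, ← Category.assoc, ← hω,
        ← Spec.map_comp, ← Spec.map_comp] at h2
      exact congrArg CommRingCat.Hom.hom (Spec.map_injective h2)
  · left
    intro ξ hξ
    refine subsingleton_stalk_pull (fL V K Kb g L) A ξ _ hξ (hA Ω _ _ ?_ hinj)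
    rw [Category.assoc, hω']

variable [QuasiCompact g] [QuasiSeparated g]

theorem exists_unit_dies (A : EtCoh.Ab Z) (n : ℕ)
    (hvan : Subsingleton (EtCoh.H _ ((EtCoh.pull (rho V Kb g)).obj A) n)) (x : EtCoh.H Z A n) :
    ∃ L : FiniteGaloisIntermediateField K Kb,
      Sheaf.H.map ((EtCoh.pullPushAdj (fL V K Kb g L)).unit.app A) n x = 0 := by
  obtain ⟨L, hL⟩ := LACDies.exists_dies_galois V K Kb g A n x (hvan.elim _ _)
  have := isFinite_fL V K Kb g L
  refine ⟨L, ?_⟩
  exact LACKill.map_unit_eq_zero (fL V K Kb g L) A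
    (fun q hq => Sga4A.EtSplit.isZero_Rpush (fL V K Kb g L) _ q hq) n x hL

theorem mono_unit (L : FiniteGaloisIntermediateField K Kb) (A : EtCoh.Ab Z) :
    Mono ((EtCoh.pullPushAdj (fL V K Kb g L)).unit.app A) := by
  have := surjective_fL V K Kb g L
  exact EtpbcB.SurjFaithful.mono_unit _ A

/-- The short exact sequence `0 → A → Ap → A' → 0`. -/
noncomputable def sesq (L : FiniteGaloisIntermediateField K Kb) (A : EtCoh.Ab Z) :
    ShortComplex (EtCoh.Ab Z) :=
  ShortComplex.mk ((EtCoh.pullPushAdj (fL V K Kb g L)).unit.app A) (cokernel.π _) (cokernel.condition _)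

theorem sesq_shortExact (L : FiniteGaloisIntermediateField K Kb) (A : EtCoh.Ab Z) :
    (sesq V K Kb g L A).ShortExact := by
  have h1 : Mono (sesq V K Kb g L A).f := mono_unit V K Kb g L A
  have h2 : Epi (sesq V K Kb g L A).g := inferInstanceAs (Epi (cokernel.π _))
  exact ShortComplex.ShortExact.mk (ShortComplex.exact_cokernel _)

include K in
theorem subsingleton_H (q : ℕ) : ∀ (A : EtCoh.Ab Z), Supp g A →
    (∀ n, Subsingleton (EtCoh.H _ ((EtCoh.pull (rho V Kb g)).obj A) n)) →
    Subsingleton (EtCoh.H Z A q) := by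
  induction q with
  | zero =>
    intro A hA hvan
    refine subsingleton_of_forall_eq 0 fun x => ?_
    obtain ⟨L, hL⟩ := exists_unit_dies V K Kb g A 0 (hvan 0) x
    have := mono_unit V K Kb g L A
    obtain ⟨t, rfl⟩ := (Ext.mk₀_bijective _ _).2 x
    rw [Sheaf.H.map_apply, Ext.mk₀_comp_mk₀, Ext.mk₀_eq_zero_iff] at hL
    rw [Ext.mk₀_eq_zero_iff]
    exact zero_of_comp_mono _ hL
  | succ q ih =>
    intro A hA hvan
    refine subsingleton_of_forall_eq 0 fun x => ?_
    obtain ⟨L, hL⟩ := exists_unit_dies V K Kb g A (q + 1) (hvan (q + 1)) x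
    have hS := sesq_shortExact V K Kb g L A
    obtain ⟨y, rfl⟩ := EtpbcB.NKillH.H_exact₁ hS q x hL
    have h3 : Supp g (sesq V K Kb g L A).X₃ := by
      intro Ω _ _ z v hz hv
      have := hS.epi_g
      exact epi_stalk (sesq V K Kb g L A).g z (supp_Ap V K Kb g L A hA Ω z v hz hv)
    have h4 : ∀ n, Subsingleton (EtCoh.H _ ((EtCoh.pull (rho V Kb g)).obj (sesq V K Kb g L A).X₃) n) := by
      intro n
      have hS' := hS.map_of_exact (EtCoh.pull (rho V Kb g))
      exact EtpbcB.NKillH.H_subsingleton_right hS' n (van_Ap V K Kb g L A hA n (hvan n)) (hvan (n + 1))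
    have := ih _ h3 h4
    rw [Subsingleton.elim y 0, Ext.zero_comp]
    rfl

end Groth.Agent.Ega2.LACDesc
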