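import Groth.Agent.Ega2.LACGal
import Groth.Agent.Etcore.HpullCalc
import Groth.Agent.Etcore.PullbackLim
import Groth.Agent.Etcore.HpullViaEq
import Groth.Agent.Etcore.HpullEq
import Groth.Agent.EtpbcB.IsoTransport
import Groth.Agent.Sga1.UlaRes2
import Groth.Agent.S0646

/-!
# Classes dying over the integral closure in an infinite Galois extension die at a finite stage
-/

set_option autoImplicit false
universe u
open CategoryTheory CategoryTheory.Limits AlgebraicGeometry Opposite Abelian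
open scoped Groth.Agent.Etcore.EtInst
open Groth.Agent.Etcore.EtInst Groth.Agent.Etcore.HpullCalc Groth.Agent.Etcore.PullbackLim

namespace Groth.Agent.Ega2.LACDies

variable {X Y Z : Scheme.{u}}

theorem hp_hp_eq_zero_iff (f : X ⟶ Y) (g : Y ⟶ Z) (k : X ⟶ Z) (h : f ≫ g = k)
    [PreservesFiniteLimits (EtCoh.pull f)] [PreservesFiniteLimits (EtCoh.pull g)]
    [PreservesFiniteLimits (EtCoh.pull k)] (G : EtCoh.Ab Z) (n : ℕ) (x : HH Z G n) :
    hp f _ n (hp g G n x) = 0 ↔ hp k G n x = 0 := by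
  subst h
  rw [hp_comp]
  exact map_eq_zero_iff _ (HHmap_bijective _ n).1

section

variable {ι : Type u} [Preorder ι] [IsDirected ι (· ≤ ·)]

/-- Abstract form: a class on `X` dying on the limit dies at a finite stage. -/
theorem exists_dies (Xs : ιᵒᵖ ⥤ Scheme.{u}) (haff : ∀ ⦃a b : ιᵒᵖ⦄ (h : a ⟶ b), IsAffineHom (Xs.map h))
    (hqc : ∀ a, CompactSpace ↥(Xs.obj a)) (hqs : ∀ a, QuasiSeparatedSpace ↥(Xs.obj a))
    (c : Cone Xs) (hc : IsLimit c) (i₀ : ι) {S : Scheme.{u}} (t : ∀ a, Xs.obj a ⟶ S)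
    (ht : ∀ ⦃a b : ιᵒᵖ⦄ (h : a ⟶ b), Xs.map h ≫ t b = t a) (τ : c.pt ⟶ S)
    (hτ : ∀ a, c.π.app a ≫ t a = τ) (A : EtCoh.Ab S) (n : ℕ) (x : HH S A n)
    (hx : hp τ A n x = 0) : ∃ (k : ι) (_ : i₀ ≤ k), hp (t (op k)) A n x = 0 := by
  let F₀ := (EtCoh.pull (t (op i₀))).obj A
  let ξ₀ : HH (Xs.obj (op i₀)) F₀ n := hp (t (op i₀)) A n x
  have key := (Groth.Agent.S0646.result Xs haff hqc hqs c hc i₀ F₀ n).2 i₀ le_rfl
    (hp (Xs.map (homOfLE (le_refl i₀)).op) F₀ n ξ₀) ?_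
  · obtain ⟨k, hk, h⟩ := key
    refine ⟨k, hk, ?_⟩
    have h1 : hp (Xs.map (homOfLE hk).op) _ n (hp (Xs.map (homOfLE (le_refl i₀)).op) F₀ n ξ₀) = 0 := h
    rw [hp_hp_eq_zero_iff _ _ (Xs.map (homOfLE hk).op) (by
      have : (homOfLE (le_refl i₀)) = 𝟙 i₀ := rfl
      rw [this]
      exact (congrArg (fun k => Xs.map (homOfLE hk).op ≫ k) (Xs.map_id _)).trans (Category.comp_id _))] at h1
    rwa [hp_hp_eq_zero_iff _ _ _ (ht _)] at h1
  · have h1 : hpVia (c.π.app (op i₀)) (Xs.map (homOfLE (le_refl i₀)).op) (c.π.app (op i₀))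
      (c.w (homOfLE (le_refl i₀)).op) F₀ n (hp (Xs.map (homOfLE (le_refl i₀)).op) F₀ n ξ₀) =
        hp (c.π.app (op i₀)) F₀ n ξ₀ := hpVia_hp _ _ _ _ _ _ _
    have h2 : hp (c.π.app (op i₀)) F₀ n ξ₀ = 0 := by
      rw [hp_hp_eq_zero_iff _ _ _ (hτ _)]
      exact hx
    exact h1.trans h2

end

variable (V K Kb : Type u) [CommRing V] [Field K] [Algebra V K] [Field Kb]
  [Algebra K Kb] [Algebra V Kb] [IsScalarTower V K Kb]

/-- The structure maps of the spectra of the integral closures. -/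
noncomputable abbrev tau (a : (FiniteGaloisIntermediateField K Kb)ᵒᵖ) :
    (specSys (LACGal.sys V K Kb)).obj a ⟶ Spec (CommRingCat.of V) :=
  Spec.map (CommRingCat.ofHom (algebraMap V (LACGal.S V K Kb a.unop)))

theorem tau_map ⦃a b : (FiniteGaloisIntermediateField K Kb)ᵒᵖ⦄ (h : a ⟶ b) :
    (specSys (LACGal.sys V K Kb)).map h ≫ tau V K Kb b = tau V K Kb a := by
  change Spec.map _ ≫ Spec.map _ = Spec.map _
  rw [← Spec.map_comp]
  rfl

theorem exists_dies_galois [IsGalois K Kb] {Z : Scheme.{u}} (g : Z ⟶ Spec (CommRingCat.of V)) [QuasiCompact g]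
    [QuasiSeparated g] (A : EtCoh.Ab Z) (n : ℕ) (x : HH Z A n)
    (hx : hp (pullback.fst g (Spec.map (CommRingCat.ofHom (algebraMap V (integralClosure V Kb))))) A n x = 0) :
    ∃ L : FiniteGaloisIntermediateField K Kb,
      hp (pullback.fst g (Spec.map (CommRingCat.ofHom (algebraMap V (LACGal.S V K Kb L))))) A n x = 0 := by
  obtain ⟨hcol⟩ := LACGal.nonempty_isColimit V K Kb
  have hlim := isLimitSpecCone (LACGal.sys V K Kb) (LACGal.cocone V K Kb) hcol
  let T := specSys (LACGal.sys V K Kb)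
  let c := specCone (LACGal.sys V K Kb) (LACGal.cocone V K Kb)
  let τ := tau V K Kb
  let t : c.pt ⟶ Spec (CommRingCat.of V) :=
    Spec.map (CommRingCat.ofHom (algebraMap V (integralClosure V Kb)))
  have hτ : ∀ ⦃a b : (FiniteGaloisIntermediateField K Kb)ᵒᵖ⦄ (h : a ⟶ b), T.map h ≫ τ b = τ a :=
    tau_map V K Kb
  have ht : ∀ a, c.π.app a ≫ τ a = t := by
    intro a
    change Spec.map _ ≫ Spec.map _ = Spec.map _
    rw [← Spec.map_comp]
    rfl
  obtain ⟨k, -, hk⟩ := exists_dies (sys T τ hτ g) (fun _ _ h => isAffineHom_mapp T τ hτ g (fun _ _ _ => inferInstance) h)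
    (fun a => compactSpace_obj T τ hτ g a) (fun a => quasiSeparatedSpace_obj T τ hτ g a)
    (cone T τ hτ g c t ht) (isLimitCone T τ hτ g c t ht hlim) ⊥ (fun a => pullback.fst g (τ a))
    (fun a b h => mapp_fst T τ hτ g h) (pullback.fst g t) (fun a => proj_fst T τ g c t ht a) A n x hx
  exact ⟨k, hk⟩

end Groth.Agent.Ega2.LACDies
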