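import Mathlib.FieldTheory.Galois.GaloisClosure
import Mathlib.FieldTheory.IsSepClosed
import Mathlib.RingTheory.DedekindDomain.IntegralClosure
import Mathlib.FieldTheory.Normal.Basic
import Groth.Agent.Etcore.FGLim

/-!
# The integral closure in a Galois extension as a directed union

`V` a domain with fraction field `K`, `Kb / K` a Galois extension.  The integral closure of `V` in `Kb` is the
colimit of the integral closures in the finite Galois subextensions `L`; ring homomorphisms from the integral
closure in `L` to a field, compatible over `V` with a given one on the whole integral closure, are the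
conjugates under `Gal(L/K)`.
-/

set_option autoImplicit false
universe u

open CategoryTheory CategoryTheory.Limits

namespace Groth.Agent.Ega2.LACGal

variable (V K Kb : Type u) [CommRing V] [Field K] [Algebra V K] [Field Kb]
  [Algebra K Kb] [Algebra V Kb] [IsScalarTower V K Kb]

/-- The integral closure of `V` in a finite Galois subextension. -/
abbrev S (L : FiniteGaloisIntermediateField K Kb) : Subalgebra V L := integralClosure V L

/-- The transition maps. -/
noncomputable def incl {L M : FiniteGaloisIntermediateField K Kb} (h : L ≤ M) :
    S V K Kb L →ₐ[V] S V K Kb M :=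
  ((IntermediateField.inclusion (E := (L : IntermediateField K Kb)) (F := (M : IntermediateField K Kb))
    h).restrictScalars V).mapIntegralClosure

/-- The map to the whole integral closure given by an automorphism of `L`. -/
noncomputable def conj (L : FiniteGaloisIntermediateField K Kb) (σ : L ≃ₐ[K] L) :
    S V K Kb L →ₐ[V] integralClosure V Kb :=
  (((L : IntermediateField K Kb).val.comp σ.toAlgHom).restrictScalars V).mapIntegralClosure

theorem coe_incl {L M : FiniteGaloisIntermediateField K Kb} (h : L ≤ M) (x : S V K Kb L) :
    (((incl V K Kb h x : S V K Kb M) : M) : Kb) = ((x : L) : Kb) := rfl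

theorem coe_conj (L : FiniteGaloisIntermediateField K Kb) (σ : L ≃ₐ[K] L) (x : S V K Kb L) :
    ((conj V K Kb L σ x : integralClosure V Kb) : Kb) = (σ (x : L) : L) := rfl

/-- The directed system of rings. -/
noncomputable def sys : FiniteGaloisIntermediateField K Kb ⥤ CommRingCat.{u} where
  obj L := CommRingCat.of (S V K Kb L)
  map h := CommRingCat.ofHom (incl V K Kb h.le).toRingHom
  map_id _ := rfl
  map_comp _ _ := rfl

/-- The cocone given by the whole integral closure. -/
noncomputable def cocone : Cocone (sys V K Kb) where
  pt := CommRingCat.of (integralClosure V Kb)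
  ι :=
    { app := fun L => CommRingCat.ofHom (conj V K Kb L (AlgEquiv.refl)).toRingHom
      naturality := fun _ _ _ => rfl }

theorem nonempty_isColimit [IsGalois K Kb] : Nonempty (IsColimit (cocone V K Kb)) := by
  apply Groth.Agent.Etcore.FGLim.nonempty_isColimit
  · rintro (x : integralClosure V Kb)
    let L : FiniteGaloisIntermediateField K Kb := FiniteGaloisIntermediateField.adjoin K {(x : Kb)}
    have hx : (x : Kb) ∈ (L : IntermediateField K Kb) :=
      FiniteGaloisIntermediateField.subset_adjoin K _ rfl
    refine ⟨L, ⟨⟨(x : Kb), hx⟩, ?_⟩, Subtype.ext rfl⟩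
    have h1 : IsIntegral V ((x : Kb)) := x.2
    have h2 : Function.Injective (algebraMap L Kb) := (algebraMap L Kb).injective
    exact (isIntegral_algHom_iff ((L : IntermediateField K Kb).val.restrictScalars V)
      Subtype.val_injective).1 h1
  · intro L y z h
    refine ⟨L, 𝟙 L, ?_⟩
    have h1 : y = z := by
      apply Subtype.ext
      apply Subtype.ext
      exact congrArg (fun t : integralClosure V Kb => (t : Kb)) h
    rw [h1]

theorem finite_S [IsDomain V] [IsFractionRing V K] [IsIntegrallyClosed V] [IsNoetherianRing V]
    (L : FiniteGaloisIntermediateField K Kb) : Module.Finite V (S V K Kb L) :=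
  IsIntegralClosure.finite V K L (integralClosure V L)

section points

theorem injective_of_isIntegral {A B C : Type u} [CommRing A] [Nontrivial A] [CommRing B] [IsDomain B]
    [Algebra A B] [Algebra.IsIntegral A B] [CommRing C] (b : B →+* C)
    (h : Function.Injective (b.comp (algebraMap A B))) : Function.Injective b := by
  rw [RingHom.injective_iff_ker_eq_bot]
  refine Ideal.eq_bot_of_comap_eq_bot (R := A) ?_
  rw [RingHom.comap_ker, ← RingHom.injective_iff_ker_eq_bot]
  exact h

variable [IsDomain V] [IsFractionRing V K] [Algebra.IsAlgebraic K Kb]
  {Ω : Type u} [Field Ω]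

include K in
theorem isFractionRing_integralClosure : IsFractionRing (integralClosure V Kb) Kb := by
  have : Algebra.IsAlgebraic V Kb := IsFractionRing.comap_isAlgebraic_iff (K := K).mpr inferInstance
  refine integralClosure.isFractionRing_of_algebraic (A := V) (L := Kb) fun x hx => ?_
  rw [IsScalarTower.algebraMap_apply V K Kb] at hx
  exact IsFractionRing.to_map_eq_zero_iff.mp ((map_eq_zero (algebraMap K Kb)).mp hx)

theorem exists_conj (L : FiniteGaloisIntermediateField K Kb) (ω : integralClosure V Kb →+* Ω)
    (b : S V K Kb L →+* Ω) (h : b.comp (algebraMap V _) = ω.comp (algebraMap V _))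
    (hω : Function.Injective (ω.comp (algebraMap V _))) :
    ∃ σ : L ≃ₐ[K] L, ω.comp (conj V K Kb L σ).toRingHom = b := by
  have hω' : Function.Injective ω := injective_of_isIntegral ω hω
  have hb' : Function.Injective b := injective_of_isIntegral b (by rw [h]; exact hω)
  have i1 := isFractionRing_integralClosure V K Kb
  have i2 : IsFractionRing (S V K Kb L) L := integralClosure.isFractionRing_of_finite_extension K L
  let ω' : Kb →+* Ω := IsFractionRing.lift hω'
  let b' : L →+* Ω := IsFractionRing.lift hb'
  have hω'' : ∀ x : integralClosure V Kb, ω' (x : Kb) = ω x := fun x =>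
    IsFractionRing.lift_algebraMap hω' x
  have hb'' : ∀ x : S V K Kb L, b' (x : L) = b x := fun x =>
    IsFractionRing.lift_algebraMap hb' x
  let _ : Algebra K Ω := (ω'.comp (algebraMap K Kb)).toAlgebra
  let _ : Algebra L Ω := (ω'.comp (algebraMap L Kb)).toAlgebra
  have : IsScalarTower K L Ω := IsScalarTower.of_algebraMap_eq fun x => rfl
  let B : L →ₐ[K] Ω :=
    { b' with
      commutes' := fun x => by
        have e : b'.comp (algebraMap K L) = ω'.comp (algebraMap K Kb) := by
          apply IsLocalization.ringHom_ext (nonZeroDivisors V)
          ext y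
          have h1 := congrArg (fun (g : V →+* Ω) => g y) h
          have h2 : algebraMap K L (algebraMap V K y) = ((algebraMap V (S V K Kb L) y : S V K Kb L) : L) :=
            (IsScalarTower.algebraMap_apply V K L y).symm
          have h3 : algebraMap K Kb (algebraMap V K y) =
              ((algebraMap V (integralClosure V Kb) y : integralClosure V Kb) : Kb) :=
            (IsScalarTower.algebraMap_apply V K Kb y).symm
          change b' (algebraMap K L (algebraMap V K y)) = ω' (algebraMap K Kb (algebraMap V K y))
          rw [h2, h3, hω'', hb'']
          exact h1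
        exact congrArg (fun (g : K →+* Ω) => g x) e }
  let σ := Normal.algHomEquivAut K Ω L B
  refine ⟨σ, ?_⟩
  ext x
  have h1 : (Normal.algHomEquivAut K Ω L).symm σ = B := Equiv.symm_apply_apply _ _
  have h2 : (IsScalarTower.toAlgHom K L Ω).comp σ.toAlgHom = B := h1
  have h3 := congrArg (fun (g : L →ₐ[K] Ω) => g (x : L)) h2
  change ω (conj V K Kb L σ x) = b x
  rw [← hω'', ← hb'', coe_conj]
  exact h3

omit [Algebra.IsAlgebraic K Kb] in
theorem conj_injective (L : FiniteGaloisIntermediateField K Kb) (ω : integralClosure V Kb →+* Ω)
    (hω : Function.Injective (ω.comp (algebraMap V _))) {σ τ : L ≃ₐ[K] L}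
    (h : ω.comp (conj V K Kb L σ).toRingHom = ω.comp (conj V K Kb L τ).toRingHom) : σ = τ := by
  have hω' : Function.Injective ω := injective_of_isIntegral ω hω
  have i2 : IsFractionRing (S V K Kb L) L := integralClosure.isFractionRing_of_finite_extension K L
  have h1 : (σ : L →+* L) = (τ : L →+* L) := by
    apply IsLocalization.ringHom_ext (nonZeroDivisors (S V K Kb L))
    ext x
    have h2 := hω' (congrArg (fun (g : S V K Kb L →+* Ω) => g x) h)
    exact congrArg (fun t : integralClosure V Kb => (t : Kb)) h2
  ext x
  exact congrArg (fun (g : L →+* L) => ((g x : L) : Kb)) h1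

end points

end Groth.Agent.Ega2.LACGal
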