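import Groth.Agent.Ega2.LACRB
import Mathlib.Algebra.Homology.DerivedCategory.Ext.ExactSequences

/-!
# Long exact sequences and invariance of cohomology
-/

set_option autoImplicit false
universe u

open CategoryTheory CategoryTheory.Limits AlgebraicGeometry Opposite Abelian
open scoped Groth.Agent.Etcore.EtInst
open Groth.Agent.Etcore.EtInst Groth.Agent.Etcore.HpullCalc

namespace Groth.Agent.Ega2.LACLes

open LACRB

variable {X Y : Scheme.{u}}

theorem bij_of_inv {F G : EtCoh.Ab Y} (φ : F ⟶ G) (h : X ⟶ Y) [IsIso ((EtCoh.pull h).map φ)] (hF : Inv h F)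
    (hG : Inv h G) (n : ℕ) : Function.Bijective (HHmap φ n) := by
  have h1 : ⇑(hp h G n) ∘ ⇑(HHmap φ n) = ⇑(HHmap ((EtCoh.pull h).map φ) n) ∘ ⇑(hp h F n) :=
    funext fun x => hp_map h φ n x
  rw [← Function.Bijective.of_comp_iff' (hG n), h1]
  exact (HHmap_bijective _ n).comp (hF n)

theorem inv_of_bij {F G : EtCoh.Ab Y} (φ : F ⟶ G) (h : X ⟶ Y) [IsIso ((EtCoh.pull h).map φ)] (hG : Inv h G)
    (hφ : ∀ n, Function.Bijective (HHmap φ n)) : Inv h F := by
  intro n
  have h1 : ⇑(hp h G n) ∘ ⇑(HHmap φ n) = ⇑(HHmap ((EtCoh.pull h).map φ) n) ∘ ⇑(hp h F n) :=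
    funext fun x => hp_map h φ n x
  rw [← Function.Bijective.of_comp_iff' (HHmap_bijective ((EtCoh.pull h).map φ) n), ← h1]
  exact (hG n).comp (hφ n)

variable {S : ShortComplex (EtCoh.Ab X)} (hS : S.ShortExact)

include hS

theorem van_of_bij (h : ∀ n, Function.Bijective (HHmap S.g n)) (n : ℕ) : Subsingleton (HH X S.X₁ n) := by
  refine subsingleton_of_forall_eq 0 fun x => ?_
  have h1 : HHmap S.f n x = 0 := by
    apply (h n).1
    rw [map_zero, ← HHmap_comp, S.zero, HHmap_apply, Ext.mk₀_zero, Ext.comp_zero]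
  cases n with
  | zero =>
    have := hS.mono_f
    obtain ⟨t, rfl⟩ := (Ext.mk₀_bijective _ _).2 x
    rw [HHmap_apply, Ext.mk₀_comp_mk₀, Ext.mk₀_eq_zero_iff] at h1
    rw [Ext.mk₀_eq_zero_iff]
    exact zero_of_comp_mono _ h1
  | succ n =>
    obtain ⟨y, rfl⟩ := Ext.covariant_sequence_exact₁ _ hS x h1 rfl
    obtain ⟨z, rfl⟩ := (h n).2 y
    rw [HHmap_apply, Ext.comp_assoc_of_second_deg_zero, ShortComplex.ShortExact.comp_extClass,
      Ext.comp_zero]

theorem bij_of_van (h : ∀ n, Subsingleton (HH X S.X₁ n)) (n : ℕ) : Function.Bijective (HHmap S.g n) := by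
  constructor
  · rw [injective_iff_map_eq_zero]
    intro x hx
    obtain ⟨y, rfl⟩ := Ext.covariant_sequence_exact₂ _ hS x hx
    have := h n
    rw [Subsingleton.elim y 0, Ext.zero_comp]
  · intro y
    have := h (n + 1)
    obtain ⟨x, hx⟩ := Ext.covariant_sequence_exact₃ _ hS y rfl (Subsingleton.elim _ _)
    exact ⟨x, hx⟩

end Groth.Agent.Ega2.LACLes
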