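import Groth.Agent.Etcore.HpullCalc
import Groth.Agent.Etrest.IsoInv
import Groth.Agent.S0101

/-!
# Invariance of the cohomology of a pulled back sheaf along a morphism

`RB F h a`: for `a : T ⟶ X`, `h : T' ⟶ T` all pullback maps `H^q(T, a⁻¹F) → H^q(T', h⁻¹a⁻¹F)` are bijective.
-/

set_option autoImplicit false
universe u

open CategoryTheory CategoryTheory.Limits AlgebraicGeometry Opposite
open scoped Groth.Agent.Etcore.EtInst
open Groth.Agent.Etcore.EtInst Groth.Agent.Etcore.HpullCalc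

namespace Groth.Agent.Ega2.LACRB

instance pull_pfl {X Y : Scheme.{u}} (f : X ⟶ Y) : PreservesFiniteLimits (EtCoh.pull f) :=
  Groth.Agent.S0101.result f

variable {X Y T T' T'' S S' : Scheme.{u}}

/-- All pullback maps `H^q(T, G) → H^q(T', h⁻¹G)` are bijective. -/
def Inv (h : T' ⟶ T) (G : EtCoh.Ab T) : Prop :=
  ∀ q : ℕ, Function.Bijective (hp h G q)

theorem Inv.of_iso {h : T' ⟶ T} {G G' : EtCoh.Ab T} (H : Inv h G) (e : G ≅ G') : Inv h G' :=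
  fun q => bijective_hp_of_iso h e (H q)

theorem Inv.comp {h' : T'' ⟶ T'} {h : T' ⟶ T} {G : EtCoh.Ab T} (H' : Inv h' ((EtCoh.pull h).obj G))
    (H : Inv h G) : Inv (h' ≫ h) G :=
  fun q => (bijective_hp_comp h' h G q (H q)).2 (H' q)

theorem Inv.of_comp_left {h' : T'' ⟶ T'} {h : T' ⟶ T} {G : EtCoh.Ab T} (H : Inv h G)
    (H'' : Inv (h' ≫ h) G) : Inv h' ((EtCoh.pull h).obj G) :=
  fun q => (bijective_hp_comp h' h G q (H q)).1 (H'' q)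

theorem Inv.of_comp_right {h' : T'' ⟶ T'} {h : T' ⟶ T} {G : EtCoh.Ab T} (H' : Inv h' ((EtCoh.pull h).obj G))
    (H'' : Inv (h' ≫ h) G) : Inv h G := by
  intro q
  have h1 : ⇑(hp (h' ≫ h) G q) = ⇑(hpVia h' h (h' ≫ h) rfl G q) ∘ ⇑(hp h G q) :=
    funext fun x => (hpVia_hp h' h (h' ≫ h) rfl G q x).symm
  have h2 := H'' q
  rw [h1] at h2
  exact (Function.Bijective.of_comp_iff' ((bijective_hpVia_iff h' h _ rfl G q).2 (H' q)) _).1 h2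

theorem Inv.of_isIso (h : T' ⟶ T) [IsIso h] (G : EtCoh.Ab T) : Inv h G :=
  fun q => Groth.Agent.Etrest.IsoInv.bijective_Hpull h G q

theorem Inv.congr {h h₂ : T' ⟶ T} {G : EtCoh.Ab T} (H : Inv h G) (e : h = h₂) : Inv h₂ G := e ▸ H

/-- the isomorphism `h⁻¹ a⁻¹ F ≅ k⁻¹ F`. -/
noncomputable def pullIso {h : T' ⟶ T} {a : T ⟶ X} {k : T' ⟶ X} (w : h ≫ a = k) (F : EtCoh.Ab X) :
    (EtCoh.pull h).obj ((EtCoh.pull a).obj F) ≅ (EtCoh.pull k).obj F :=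
  ((EtCore.pullComp h a).app F).symm ≪≫ (EtCore.pullCongr w).app F

/-- All pullback maps `H^q(T, a⁻¹F) → H^q(T', h⁻¹a⁻¹F)` are bijective. -/
def RB (F : EtCoh.Ab X) (h : T' ⟶ T) (a : T ⟶ X) : Prop := Inv h ((EtCoh.pull a).obj F)

theorem rb_def (F : EtCoh.Ab X) (h : T' ⟶ T) (a : T ⟶ X) : RB F h a ↔ Inv h ((EtCoh.pull a).obj F) := Iff.rfl

theorem inv_pull_iff {h : T' ⟶ T} {b : T ⟶ S} {a : S ⟶ X} {k : T ⟶ X} (w : b ≫ a = k) (F : EtCoh.Ab X) :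
    Inv h ((EtCoh.pull b).obj ((EtCoh.pull a).obj F)) ↔ RB F h k :=
  ⟨fun H => Inv.of_iso H (pullIso w F), fun H => Inv.of_iso H (pullIso w F).symm⟩

theorem RB.comp {F : EtCoh.Ab X} {h : T' ⟶ T} {a : T ⟶ X} {h' : T'' ⟶ T'} {a' : T' ⟶ X} (H' : RB F h' a')
    (H : RB F h a) (w : h ≫ a = a') (k : T'' ⟶ T) (hk : h' ≫ h = k) : RB F k a :=
  (Inv.comp ((inv_pull_iff w F).2 H') H).congr hk

theorem RB.of_comp_left {F : EtCoh.Ab X} {h : T' ⟶ T} {a : T ⟶ X} {h' : T'' ⟶ T'} {a' : T' ⟶ X}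
    (H : RB F h a) (w : h ≫ a = a') (k : T'' ⟶ T) (hk : h' ≫ h = k) (Hk : RB F k a) : RB F h' a' :=
  (inv_pull_iff w F).1 (Inv.of_comp_left H (Inv.congr Hk hk.symm))

theorem RB.of_comp_right {F : EtCoh.Ab X} {h : T' ⟶ T} {a : T ⟶ X} {h' : T'' ⟶ T'} {a' : T' ⟶ X}
    (H' : RB F h' a') (w : h ≫ a = a') (k : T'' ⟶ T) (hk : h' ≫ h = k) (Hk : RB F k a) : RB F h a :=
  Inv.of_comp_right ((inv_pull_iff w F).2 H') (Inv.congr Hk hk.symm)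

theorem RB.of_isIso (F : EtCoh.Ab X) (h : T' ⟶ T) [IsIso h] (a : T ⟶ X) : RB F h a := Inv.of_isIso h _

theorem RB.congr {F : EtCoh.Ab X} {h h₂ : T' ⟶ T} {a a₂ : T ⟶ X} (H : RB F h a) (e : h = h₂) (e' : a = a₂) :
    RB F h₂ a₂ := by
  subst e; subst e'; exact H

/-- transport along isomorphisms of the source and the target -/
theorem RB.of_square {F : EtCoh.Ab X} {h : T' ⟶ T} {a : T ⟶ X} (H : RB F h a) {k : S' ⟶ S} {b : S ⟶ X}
    (e' : S' ⟶ T') [IsIso e'] (e : S ⟶ T) [IsIso e] (w : k ≫ e = e' ≫ h) (w' : e ≫ a = b) : RB F k b :=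
  (RB.of_isIso F e a).of_comp_left w' (e' ≫ h) w ((RB.of_isIso F e' (h ≫ a)).comp H rfl _ rfl)

/-- change of the sheaf -/
theorem rb_pull_iff (F : EtCoh.Ab X) (g : Y ⟶ X) (a : T ⟶ Y) (b : T ⟶ X) (w : a ≫ g = b)
    (h : T' ⟶ T) : RB ((EtCoh.pull g).obj F) h a ↔ RB F h b := inv_pull_iff w F

theorem RB.of_iso {F G : EtCoh.Ab X} {h : T' ⟶ T} {a : T ⟶ X} (H : RB F h a) (e : F ≅ G) : RB G h a :=
  Inv.of_iso H ((EtCoh.pull a).mapIso e)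

end Groth.Agent.Ega2.LACRB
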