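import Groth.Agent.Etbase.StalkPush
import Groth.Agent.Etcore.StalkUnit
import Groth.Agent.EtpbcB.BCCalc

/-!
# Inverse images of direct images along a section

For `s : Z₂ ⟶ Z₁`, `f : Z₁ ⟶ Z₀`, `ρ = s ≫ f`: the map `psi : ρ⁻¹ f_* G ⟶ s⁻¹ G` and its stalks.
-/

set_option autoImplicit false
set_option backward.isDefEq.respectTransparency.types false
universe u

open CategoryTheory CategoryTheory.Limits AlgebraicGeometry Opposite

namespace Groth.Agent.Ega2.LACStalk

open Groth.Agent.Etbase.StalkPull Groth.Agent.Etcore.Stalks Groth.Agent.Etcore.StalkUnit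
  Groth.Agent.Etbase.StalkPush Groth.Agent.Etbase.FinLiftSch

variable {Z₀ Z₁ Z₂ : Scheme.{u}} (f : Z₁ ⟶ Z₀) (s : Z₂ ⟶ Z₁) (ρ : Z₂ ⟶ Z₀) (h : s ≫ f = ρ)
  (G : EtCoh.Ab Z₁)

/-- `ρ⁻¹ f_* G ⟶ s⁻¹ G` for `s ≫ f = ρ`. -/
noncomputable def psi : (EtCoh.pull ρ).obj ((EtCoh.push f).obj G) ⟶ (EtCoh.pull s).obj G :=
  ((EtCoh.pullPushAdj ρ).homEquiv _ _).symm
    ((EtCoh.push f).map ((EtCoh.pullPushAdj s).unit.app G) ≫
      (EtCoh.pushComp f s).hom.app ((EtCoh.pull s).obj G) ≫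
        (EtCoh.pushCongr h).hom.app ((EtCoh.pull s).obj G))

theorem unit_psi : (EtCoh.pullPushAdj ρ).unit.app ((EtCoh.push f).obj G) ≫
    (EtCoh.push ρ).map (psi f s ρ h G) =
      (EtCoh.push f).map ((EtCoh.pullPushAdj s).unit.app G) ≫
      (EtCoh.pushComp f s).hom.app ((EtCoh.pull s).obj G) ≫
        (EtCoh.pushCongr h).hom.app ((EtCoh.pull s).obj G) := by
  have := ((EtCoh.pullPushAdj ρ).homEquiv_unit (X := (EtCoh.push f).obj G)
    (f := psi f s ρ h G)).symm
  refine this.trans ?_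
  exact Equiv.apply_symm_apply _ _

theorem psi_unit_apply (V : Z₀.Etale) (t : EtCoh.sect ((EtCoh.push f).obj G) V) :
    (psi f s (s ≫ f) rfl G).hom.app (op ((EtCoh.bc (s ≫ f)).obj V))
      (((EtCoh.pullPushAdj (s ≫ f)).unit.app ((EtCoh.push f).obj G)).hom.app (op V) t) =
    ((EtCoh.pull s).obj G).obj.map (EtpbcB.BCCalc.compIso f s V).hom.op
      (((EtCoh.pullPushAdj s).unit.app G).hom.app (op ((EtCoh.bc f).obj V)) t) := by
  have h1 := congrArg (fun φ => φ.hom.app (op V)) (unit_psi f s (s ≫ f) rfl G)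
  have h2 := ConcreteCategory.congr_hom h1 t
  refine Eq.trans ?_ (h2.trans ?_)
  · rfl
  · have h3 : ((EtCoh.pushCongr (rfl : s ≫ f = s ≫ f)).hom.app ((EtCoh.pull s).obj G)).hom.app (op V) =
        𝟙 _ := by
      rw [EtpbcB.BCCalc.pushCongr_hom_app_app]
      have : (EtpbcB.BCCalc.congrIso (rfl : s ≫ f = s ≫ f) V).inv = 𝟙 _ := by
        apply EtpbcB.BCCalc.hom_ext_bc
        rw [EtpbcB.BCCalc.congrIso_inv_left_pr, EtpbcB.BCCalc.id_left]
        exact (Category.id_comp _).symm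
      rw [this]
      exact CategoryTheory.Functor.map_id ((EtCoh.pull s).obj G).obj _
    have h4 : ((EtCoh.push f).map ((EtCoh.pullPushAdj s).unit.app G) ≫
      (EtCoh.pushComp f s).hom.app ((EtCoh.pull s).obj G) ≫
        (EtCoh.pushCongr (rfl : s ≫ f = s ≫ f)).hom.app ((EtCoh.pull s).obj G)).hom.app (op V) =
        ((EtCoh.pullPushAdj s).unit.app G).hom.app (op ((EtCoh.bc f).obj V)) ≫
          ((EtCoh.pull s).obj G).obj.map (EtpbcB.BCCalc.compIso f s V).hom.op := by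
      refine (Category.assoc _ _ _).symm.trans ?_
      exact (congrArg (fun t => _ ≫ t) h3).trans (Category.comp_id _)
    exact ConcreteCategory.congr_hom h4 t

variable {Ω : Type u} [Field Ω] [IsSepClosed Ω] (z : Spec (CommRingCat.of Ω) ⟶ Z₂)

theorem fiber_eq (V : Z₀.Etale) (v : (Scheme.pointSmallEtale (z ≫ s ≫ f)).fiber.obj V) :
    (Scheme.pointSmallEtale z).fiber.map (EtpbcB.BCCalc.compIso f s V).hom
      ((fiberIso (s ≫ f) z).hom.app V v) =
    (fiberIso s z).hom.app ((EtCoh.bc f).obj V) (lft f (z ≫ s) (Category.assoc _ _ _) v) := by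
  apply pt_ext
  rw [ptHom_map]
  apply pr_ext
  · apply pr_ext
    · have h1 := EtpbcB.BCCalc.compIso_hom_left_pr f s V
      have h2 : ptHom ((fiberIso (s ≫ f) z).hom.app V v) ≫ pr1 (s ≫ f) V = ptHom v :=
        pullback.lift_fst _ _ _
      have h3 : ptHom ((fiberIso s z).hom.app ((EtCoh.bc f).obj V)
        (lft f (z ≫ s) (Category.assoc _ _ _) v)) ≫ pr1 s ((EtCoh.bc f).obj V) =
          ptHom (lft f (z ≫ s) (Category.assoc _ _ _) v) := pullback.lift_fst _ _ _
      rw [h3, lft_pr1, Category.assoc, Category.assoc]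
      exact (congrArg (fun k => ptHom ((fiberIso (s ≫ f) z).hom.app V v) ≫ k) h1).trans h2
    · have h2 : ptHom ((fiberIso (s ≫ f) z).hom.app V v) ≫ ((EtCoh.bc (s ≫ f)).obj V).hom = z :=
        pullback.lift_snd _ _ _
      have h3 : ptHom ((fiberIso s z).hom.app ((EtCoh.bc f).obj V)
        (lft f (z ≫ s) (Category.assoc _ _ _) v)) ≫ pr1 s ((EtCoh.bc f).obj V) =
          ptHom (lft f (z ≫ s) (Category.assoc _ _ _) v) := pullback.lift_fst _ _ _
      rw [h3, lft_pr2, Category.assoc, Category.assoc]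
      have h4 : pr1 s ((EtCoh.bc f).obj V) ≫ pr2 f V = ((EtCoh.bc s).obj ((EtCoh.bc f).obj V)).hom ≫ s :=
        pullback.condition
      rw [h4]
      have h5 := EtpbcB.BCCalc.left_hom (EtpbcB.BCCalc.compIso f s V).hom
      refine (congrArg (fun k => ptHom ((fiberIso (s ≫ f) z).hom.app V v) ≫ k)
        ((Category.assoc _ _ _).symm.trans (congrArg (fun k => k ≫ s) h5))).trans ?_
      rw [← Category.assoc, h2]
  · have h2 : ptHom ((fiberIso (s ≫ f) z).hom.app V v) ≫ ((EtCoh.bc (s ≫ f)).obj V).hom = z :=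
        pullback.lift_snd _ _ _
    have h3 : ptHom ((fiberIso s z).hom.app ((EtCoh.bc f).obj V)
        (lft f (z ≫ s) (Category.assoc _ _ _) v)) ≫ pr2 s ((EtCoh.bc f).obj V) = z :=
      pullback.lift_snd _ _ _
    rw [h3, Category.assoc]
    have h5 := EtpbcB.BCCalc.left_hom (EtpbcB.BCCalc.compIso f s V).hom
    exact (congrArg (fun k => ptHom ((fiberIso (s ≫ f) z).hom.app V v) ≫ k) h5).trans h2

/-- The stalks of `psi` are the canonical maps `(f_* G)_{z ≫ ρ} → G_{z ≫ s}`. -/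
theorem stalk_psi (x : (EtCoh.stalk (z ≫ ρ)).obj ((EtCoh.push f).obj G)) :
    (EtCoh.stalk z).map (psi f s ρ h G) ((stalkPullIso ρ z).hom.app _ x) =
      (stalkPullIso s z).hom.app G (cmp f (z ≫ s) (by rw [Category.assoc, h]) G x) := by
  subst h
  obtain ⟨V, v, t, rfl⟩ := exists_germ (z ≫ s ≫ f) _ x
  have e1 := congrArg ((EtCoh.stalk z).map (psi f s (s ≫ f) rfl G))
    (stalkPullIso_hom_germ (s ≫ f) z ((EtCoh.push f).obj G) v t)
  have e2 := germ_map z (psi f s (s ≫ f) rfl G) ((fiberIso (s ≫ f) z).hom.app V v)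
    (((EtCoh.pullPushAdj (s ≫ f)).unit.app ((EtCoh.push f).obj G)).hom.app (op V) t)
  have e3 := congrArg (germ z ((EtCoh.pull s).obj G) ((fiberIso (s ≫ f) z).hom.app V v))
    (psi_unit_apply f s G V t)
  have e4 := germ_res z (F := (EtCoh.pull s).obj G) (EtpbcB.BCCalc.compIso f s V).hom
    ((fiberIso (s ≫ f) z).hom.app V v)
    (((EtCoh.pullPushAdj s).unit.app G).hom.app (op ((EtCoh.bc f).obj V)) t)
  have e5 := stalkPullIso_hom_germ s z G (V := (EtCoh.bc f).obj V)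
    (lft f (z ≫ s) (Category.assoc _ _ _) v) t
  have e6 := congrArg ((stalkPullIso s z).hom.app G)
    (germ_cmp_apply f (z ≫ s) (Category.assoc _ _ _) G V v t)
  refine e1.trans (e2.trans (e3.trans (e4.trans ?_)))
  rw [fiber_eq]
  exact e5.symm.trans e6.symm

end Groth.Agent.Ega2.LACStalk
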