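import Mathlib.AlgebraicGeometry.QuasiAffine
import Mathlib.AlgebraicGeometry.Morphisms.AffineAnd
import Groth.Prelude.Def_Mor2

/-!
# Quasi-affine morphisms

`Mor2.IsQuasiAffine` is local on the target, stable under composition and base change, and has the
cancellation property.
-/

set_option autoImplicit false
universe u
open CategoryTheory CategoryTheory.Limits AlgebraicGeometry TopologicalSpace

namespace Groth.Agent.Ega2.QuasiAffine

/-- A quasi-compact quasi-separated scheme covered by quasi-affine basic opens is quasi-affine. -/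
theorem isQuasiAffine_of_basicOpen_cover (X : Scheme.{u}) [CompactSpace X] [QuasiSeparatedSpace X]
    (H : ∀ x : X, ∃ r : Γ(X, ⊤), x ∈ X.basicOpen r ∧
      Scheme.IsQuasiAffine (X.basicOpen r : Scheme.{u})) :
    X.IsQuasiAffine := by
  refine .of_forall_exists_mem_basicOpen _ fun x => ?_
  obtain ⟨r, hxr, hr⟩ := H x
  obtain ⟨_, ⟨_, ⟨t, ht, rfl⟩, rfl⟩, hxt, -⟩ :=
    (Scheme.IsQuasiAffine.isBasis_basicOpen (X.basicOpen r : Scheme)).exists_subset_of_mem_open
      (Set.mem_univ (⟨x, hxr⟩ : (X.basicOpen r : Scheme))) isOpen_univ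
  obtain ⟨n, y, e⟩ := exists_eq_pow_mul_of_isCompact_of_isQuasiSeparated X ⊤ isCompact_univ
    isQuasiSeparated_univ r ((X.basicOpen r).topIso.hom t)
  have key : X.basicOpen (r * y) = (X.basicOpen r).ι ''ᵁ (X.basicOpen r : Scheme).basicOpen t := by
    have h1 : X.basicOpen (y |_ X.basicOpen r) = X.basicOpen r ⊓ X.basicOpen y :=
      X.basicOpen_res _ _
    have h2 : X.basicOpen ((r |_ X.basicOpen r) ^ n * (X.basicOpen r).topIso.hom t) =
        X.basicOpen ((X.basicOpen r).topIso.hom t) := by
      have h3 : IsUnit ((r |_ X.basicOpen r) ^ n) :=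
        (RingedSpace.isUnit_res_basicOpen _ r).pow n
      rw [Scheme.basicOpen_mul, Scheme.basicOpen_of_isUnit _ h3]
      exact inf_eq_right.mpr (X.basicOpen_le _)
    rw [Scheme.basicOpen_mul, ← h1, e, h2, ← Scheme.Opens.ι_image_basicOpen_topIso_inv,
      Iso.hom_inv_id_apply]
  refine ⟨r * y, ?_, ?_⟩
  · rw [key]
    exact (Scheme.Hom.isAffineOpen_iff_of_isOpenImmersion (X.basicOpen r).ι).mpr ht
  · rw [key]
    exact ⟨⟨x, hxr⟩, hxt, rfl⟩

theorem isQuasiAffine_of_isIso {X Y : Scheme.{u}} (f : X ⟶ Y) [IsIso f] [Y.IsQuasiAffine] :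
    X.IsQuasiAffine :=
  Scheme.IsQuasiAffine.of_isAffineHom f

theorem isQuasiAffine_iff_of_isIso {X Y : Scheme.{u}} (f : X ⟶ Y) [IsIso f] :
    X.IsQuasiAffine ↔ Y.IsQuasiAffine :=
  ⟨fun _ => isQuasiAffine_of_isIso (inv f), fun _ => isQuasiAffine_of_isIso f⟩

/-- `Mor2.IsQuasiAffine` as a morphism property. -/
def QAff : MorphismProperty Scheme.{u} := fun _ _ f => Mor2.IsQuasiAffine f

/-- A quasi-compact open of a quasi-affine scheme is quasi-affine. -/
theorem isQuasiAffine_opens {X : Scheme.{u}} [X.IsQuasiAffine] (U : X.Opens)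
    (hU : IsCompact (U : Set X)) : Scheme.IsQuasiAffine (U : Scheme.{u}) := by
  have : CompactSpace (U : Scheme.{u}) := isCompact_iff_compactSpace.mp hU
  exact Scheme.IsQuasiAffine.of_isImmersion U.ι

instance : HasAffineProperty QAff.{u} (fun X _ _ _ => X.IsQuasiAffine) where
  isLocal_affineProperty := by
    constructor
    · apply AffineTargetMorphismProperty.respectsIso_mk
      · intro X Y Z e f _ H
        exact isQuasiAffine_of_isIso e.hom
      · intro X Y Z e f _ H
        exact H
    · intro X Y _ f r H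
      have hqc : CompactSpace X := inferInstance
      have : QuasiSeparatedSpace X := inferInstance
      have : QuasiCompact f := (HasAffineProperty.iff_of_isAffine (P := @QuasiCompact)).mpr hqc
      exact isQuasiAffine_opens _ (f.isCompact_preimage ((isAffineOpen_top Y).basicOpen r).isCompact)
    · intro X Y _ f s hs H
      have hcov : ⨆ r : s, Y.basicOpen r.1 = ⊤ :=
        (isAffineOpen_top Y).iSup_basicOpen_eq_self_iff.mpr hs
      have hqc : QuasiCompact f := by
        refine IsZariskiLocalAtTarget.of_iSup_eq_top (P := @QuasiCompact) _ hcov fun r => ?_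
        have : IsAffine (Y.basicOpen r.1 : Scheme.{u}) := (isAffineOpen_top Y).basicOpen r.1
        exact (HasAffineProperty.iff_of_isAffine (P := @QuasiCompact)).mpr (H r).toCompactSpace
      have hsep : IsSeparated f := by
        refine IsZariskiLocalAtTarget.of_iSup_eq_top (P := @IsSeparated) _ hcov fun r => ?_
        have h1 := H r
        have h2 : Scheme.IsSeparated (f ⁻¹ᵁ Y.basicOpen r.1 : Scheme.{u}) := inferInstance
        have h3 : IsSeparated ((f ∣_ Y.basicOpen r.1) ≫ terminal.from _) := by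
          rw [terminal.comp_from]
          infer_instance
        exact IsSeparated.of_comp _ (terminal.from _)
      have : CompactSpace X := QuasiCompact.compactSpace_of_compactSpace f
      have : X.IsSeparated := by
        constructor
        rw [← terminal.comp_from f]
        infer_instance
      refine isQuasiAffine_of_basicOpen_cover X fun x => ?_
      have hx : f x ∈ ⨆ r : s, Y.basicOpen r.1 := by rw [hcov]; trivial
      obtain ⟨r, hr⟩ := Opens.mem_iSup.mp hx
      refine ⟨f.appTop r.1, ?_, ?_⟩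
      · rw [← Scheme.preimage_basicOpen_top]
        exact hr
      · rw [← Scheme.preimage_basicOpen_top]
        exact H r
  eq_targetAffineLocally' := by
    ext X Y f
    constructor
    · rintro ⟨-, h⟩ U
      exact h U.1 U.2
    · intro h
      refine ⟨?_, fun V hV => h ⟨V, hV⟩⟩
      refine quasiCompact_iff_forall_isAffineOpen.mpr fun V hV => ?_
      have h1 : (f ⁻¹ᵁ V : Scheme.{u}).IsQuasiAffine := h ⟨V, hV⟩
      exact isCompact_iff_compactSpace.mpr h1.toCompactSpace

/-- The pullback of a quasi-affine scheme along a morphism of affine schemes is quasi-affine. -/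
theorem isQuasiAffine_pullback {X S T : Scheme.{u}} (f : X ⟶ S) (g : T ⟶ S) [IsAffine S]
    [IsAffine T] [X.IsQuasiAffine] : (pullback g f).IsQuasiAffine := by
  have hf : X.toSpecΓ ≫ (Spec.map f.appTop ≫ S.isoSpec.inv) = f := by
    rw [← Scheme.toSpecΓ_naturality_assoc]
    simp [Scheme.isoSpec]
  have : QuasiCompact f := (HasAffineProperty.iff_of_isAffine (P := @QuasiCompact)).mpr inferInstance
  have hc : CompactSpace ↥(pullback g f) := inferInstance
  generalize (Spec.map f.appTop ≫ S.isoSpec.inv) = h at hf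
  subst hf
  let e := pullbackLeftPullbackSndIso g h X.toSpecΓ
  have : (pullback (pullback.snd g h) X.toSpecΓ).IsQuasiAffine := by
    have : CompactSpace ↥(pullback (pullback.snd g h) X.toSpecΓ) :=
      QuasiCompact.compactSpace_of_compactSpace e.hom
    exact Scheme.IsQuasiAffine.of_isImmersion (pullback.fst (pullback.snd g h) X.toSpecΓ)
  exact isQuasiAffine_of_isIso e.inv

instance : QAff.{u}.IsStableUnderBaseChange := by
  have hl : AffineTargetMorphismProperty.IsLocal
    (fun (X Y : Scheme.{u}) (_ : X ⟶ Y) _ => X.IsQuasiAffine) :=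
    HasAffineProperty.isLocal_affineProperty QAff
  refine HasAffineProperty.isStableUnderBaseChange
    (AffineTargetMorphismProperty.IsStableUnderBaseChange.mk _ ?_)
  intro X Y S _ _ f g (hg : Y.IsQuasiAffine)
  exact isQuasiAffine_pullback g f

theorem qaff_baseChange {X Y Y' : Scheme.{u}} (f : X ⟶ Y) (hf : Mor2.IsQuasiAffine f)
    (g : Y' ⟶ Y) : Mor2.IsQuasiAffine (pullback.snd f g) :=
  MorphismProperty.pullback_snd (P := QAff) f g hf

/-- The source of a quasi-affine morphism to a quasi-affine scheme is quasi-affine. -/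
theorem isQuasiAffine_of_qaff {X Y : Scheme.{u}} (f : X ⟶ Y) (hf : Mor2.IsQuasiAffine f)
    [Y.IsQuasiAffine] : X.IsQuasiAffine := by
  have := hf.1
  have hsep : IsSeparated f := by
    refine (HasAffineProperty.iff_of_iSup_eq_top (P := @IsSeparated) (fun U : Y.affineOpens => U)
      (iSup_affineOpens_eq_top Y)).mpr fun U => ?_
    have h1 := hf.2 U.1 U.2
    infer_instance
  have : CompactSpace X := QuasiCompact.compactSpace_of_compactSpace f
  have : X.IsSeparated := by
    constructor
    rw [← terminal.comp_from f]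
    infer_instance
  refine isQuasiAffine_of_basicOpen_cover X fun x => ?_
  obtain ⟨_, ⟨_, ⟨t, ht, rfl⟩, rfl⟩, hxt, -⟩ :=
    (Scheme.IsQuasiAffine.isBasis_basicOpen Y).exists_subset_of_mem_open
      (Set.mem_univ (f x)) isOpen_univ
  refine ⟨f.appTop t, ?_, ?_⟩
  · rw [← Scheme.preimage_basicOpen_top]
    exact hxt
  · rw [← Scheme.preimage_basicOpen_top]
    exact hf.2 _ ht

theorem qaff_comp {X Y Z : Scheme.{u}} (f : X ⟶ Y) (g : Y ⟶ Z) (hf : Mor2.IsQuasiAffine f)
    (hg : Mor2.IsQuasiAffine g) : Mor2.IsQuasiAffine (f ≫ g) := by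
  have := hf.1
  have := hg.1
  refine ⟨inferInstance, fun V hV => ?_⟩
  have h1 := hg.2 V hV
  have h2 : QAff (f ∣_ (g ⁻¹ᵁ V)) := IsZariskiLocalAtTarget.restrict (P := QAff) hf _
  exact isQuasiAffine_of_qaff _ h2

theorem qaff_of_isImmersion {X Y : Scheme.{u}} (f : X ⟶ Y) [IsImmersion f] [QuasiCompact f] :
    Mor2.IsQuasiAffine f := by
  refine ⟨inferInstance, fun V hV => ?_⟩
  have : IsAffine (V : Scheme.{u}) := hV
  have : CompactSpace (f ⁻¹ᵁ V : Scheme.{u}) :=
    isCompact_iff_compactSpace.mp (f.isCompact_preimage hV.isCompact)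
  exact Scheme.IsQuasiAffine.of_isImmersion (f ∣_ V)

instance : QAff.{u}.IsMultiplicative where
  id_mem X := qaff_of_isImmersion (𝟙 X)
  comp_mem f g hf hg := qaff_comp f g hf hg

theorem qaff_of_comp {X Y Z : Scheme.{u}} (f : X ⟶ Y) (g : Y ⟶ Z) [QuasiSeparated g]
    (h : Mor2.IsQuasiAffine (f ≫ g)) : Mor2.IsQuasiAffine f := by
  have : QAff.{u}.HasOfPostcompProperty @QuasiSeparated := by
    refine MorphismProperty.hasOfPostcompProperty_iff_le_diagonal.mpr ?_
    intro X Y f hf
    exact qaff_of_isImmersion (pullback.diagonal f)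
  exact QAff.of_postcomp (W' := @QuasiSeparated) f g inferInstance h

theorem isQuasiAffine_of_isEmbedding {X Y : Scheme.{u}} (f : X ⟶ Y) [IsAffine Y] [CompactSpace X]
    (hf : Topology.IsEmbedding f) : X.IsQuasiAffine := by
  refine .of_forall_exists_mem_basicOpen _ fun x => ?_
  obtain ⟨_, ⟨W, hW, rfl⟩, hxW, -⟩ :=
    X.isBasis_affineOpens.exists_subset_of_mem_open (Set.mem_univ x) isOpen_univ
  obtain ⟨V', hV', hVW⟩ := hf.isInducing.isOpen_iff.mp W.isOpen
  have hxV : f x ∈ V' := by
    have : x ∈ f ⁻¹' V' := by rw [hVW]; exact hxW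
    exact this
  obtain ⟨_, ⟨_, ⟨t, rfl⟩, rfl⟩, hxt, htV⟩ :=
    (isBasis_basicOpen Y).exists_subset_of_mem_open hxV hV'
  refine ⟨f.appTop t, ?_, ?_⟩
  · have h1 : X.basicOpen (f.appTop t) ≤ W := by
      rw [← Scheme.preimage_basicOpen_top]
      intro y hy
      have : y ∈ f ⁻¹' V' := htV hy
      rw [hVW] at this
      exact this
    have h2 := hW.basicOpen (X.presheaf.map (homOfLE le_top : W ⟶ ⊤).op (f.appTop t))
    rwa [X.basicOpen_res, inf_eq_right.mpr h1] at h2
  · rw [← Scheme.preimage_basicOpen_top]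
    exact hxt

theorem qaff_of_isEmbedding {X Y : Scheme.{u}} (f : X ⟶ Y) [QuasiCompact f]
    (hf : Topology.IsEmbedding f.base) : Mor2.IsQuasiAffine f := by
  refine ⟨inferInstance, fun V hV => ?_⟩
  have : IsAffine (V : Scheme.{u}) := hV
  have : CompactSpace (f ⁻¹ᵁ V : Scheme.{u}) :=
    isCompact_iff_compactSpace.mp (f.isCompact_preimage hV.isCompact)
  refine isQuasiAffine_of_isEmbedding (f ∣_ V) ?_
  have h1 : Topology.IsEmbedding ((f ⁻¹ᵁ V).ι ≫ f) := by
    rw [Scheme.Hom.comp_base]
    exact hf.comp (f ⁻¹ᵁ V).ι.isOpenEmbedding.isEmbedding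
  have h2 : (f ∣_ V) ≫ V.ι = (f ⁻¹ᵁ V).ι ≫ f := morphismRestrict_ι f V
  rw [← h2, Scheme.Hom.comp_base] at h1
  exact .of_comp (f ∣_ V).continuous V.ι.continuous h1

end Groth.Agent.Ega2.QuasiAffine
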