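import Groth.Agent.Ega2.RelAmp

/-!
# Composition of relatively ample modules (EGA II 4.6.13 (ii))
-/

set_option autoImplicit false
universe u
open CategoryTheory CategoryTheory.Limits AlgebraicGeometry

namespace Groth.Agent.Ega2.RelAmp

open Groth.Agent.Ega2.ExtCoeff Groth.Agent.Ega2.Nv Groth.Agent.Ega2.Ample Groth.Agent.Fdesc.LocGen

variable {X X' Y Y' Z S : Scheme.{u}}

/-- The twist `L ⊗ f^* K^n`. -/
noncomputable abbrev tw (f : X ⟶ Y) (L : X.Modules) (K : Y.Modules) (n : ℕ) : X.Modules :=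
  CohB1.tensorMod L ((Scheme.Modules.pullback f).obj (CohB1.tensorPow K n))

/-- The section `e ⊗ f^* k^n`. -/
noncomputable def twSec (f : X ⟶ Y) {L : X.Modules} {K : Y.Modules} (n : ℕ) {U : X.Opens} {V : Y.Opens}
    (h : U ≤ f ⁻¹ᵁ V) (e : Γ(L, U)) (k : Γ(K, V)) : Γ(tw f L K n, U) :=
  tmul e (res _ h (pullSec f (pow k n)))

theorem res_twSec (f : X ⟶ Y) {L : X.Modules} {K : Y.Modules} (n : ℕ) {U U' : X.Opens} {V : Y.Opens}
    (h : U ≤ f ⁻¹ᵁ V) (h' : U' ≤ U) (e : Γ(L, U)) (k : Γ(K, V)) :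
    res _ h' (twSec f n h e k) = twSec f n (h'.trans h) (res L h' e) k := by
  unfold twSec
  rw [res_tmul, res_res]

theorem twSec_res (f : X ⟶ Y) {L : X.Modules} {K : Y.Modules} (n : ℕ) {U : X.Opens} {V V' : Y.Opens}
    (h : U ≤ f ⁻¹ᵁ V') (h' : V' ≤ V) (e : Γ(L, U)) (k : Γ(K, V)) :
    twSec f n h e (res K h' k) = twSec f n (h.trans (f.preimage_mono h')) e k := by
  unfold twSec
  rw [← res_pow, ← res_pullSec, res_res]

theorem twSec_smul (f : X ⟶ Y) {L : X.Modules} {K : Y.Modules} (n : ℕ) {U : X.Opens} {V : Y.Opens}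
    (h : U ≤ f ⁻¹ᵁ V) (a : Γ(X, U)) (e : Γ(L, U)) (b : Γ(Y, V)) (k : Γ(K, V)) :
    twSec f n h (a • e) (b • k) =
      (a * (ores h (show Γ(X, f ⁻¹ᵁ V) from f.app V b)) ^ n) • twSec f n h e k := by
  unfold twSec
  rw [smul_pow, pullSec_smul, res_smul, smul_tmul, tmul_smul, smul_smul, map_pow, map_pow]

theorem IsGen.twSec (f : X ⟶ Y) {L : X.Modules} {K : Y.Modules} (n : ℕ) {U : X.Opens} {V : Y.Opens}
    (h : U ≤ f ⁻¹ᵁ V) {e : Γ(L, U)} {k : Γ(K, V)} (he : IsGen e) (hk : IsGen k) :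
    IsGen (RelAmp.twSec f n h e k) :=
  he.tmul (((hk.pow n).pullSec f).res h)

/-- The nonvanishing locus of the pullback of a section. -/
theorem nv_pullSec (f : X ⟶ Y) {M : Y.Modules} {V : Y.Opens} (hM : LocGen M V) (t : Γ(M, V)) :
    nv _ (pullSec f t) = f ⁻¹ᵁ (nv _ t) := by
  choose W e hxW hWU he using hM
  let A : V → Y.Opens := fun x => W x.1 x.2
  let e' : ∀ x : V, Γ(M, A x) := fun x => e x.1 x.2
  have hA : ∀ x, A x ≤ V := fun x => hWU x.1 x.2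
  have he' : ∀ x, IsGen (e' x) := fun x => he x.1 x.2
  have hcov : V ≤ ⨆ x, A x := fun x hx => TopologicalSpace.Opens.mem_iSup.2 ⟨⟨x, hx⟩, hxW x hx⟩
  have h1 : ∀ x, ∃ a : Γ(Y, A x), res _ (hA x) t = a • e' x := fun x => (he' x).exists_eq _
  choose a ha using h1
  have hcov' : f ⁻¹ᵁ V ≤ ⨆ x, f ⁻¹ᵁ (A x) := by
    intro x hx
    obtain ⟨i, hi⟩ := TopologicalSpace.Opens.mem_iSup.1 (hcov hx)
    exact TopologicalSpace.Opens.mem_iSup.2 ⟨i, hi⟩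
  rw [nv_eq_iSup M A hA hcov e' he' a t ha, preimage_iSup_basicOpen,
    nv_eq_iSup _ (fun x => f ⁻¹ᵁ (A x)) (fun x => f.preimage_mono (hA x)) hcov' (fun x => pullSec f (e' x))
      (fun x => (he' x).pullSec f) (fun x => (show Γ(X, f ⁻¹ᵁ (A x)) from f.app (A x) (a x))) _ ?_]
  intro x
  rw [res_pullSec f (hA x), ha, pullSec_smul]

theorem locGen_pullback (f : X ⟶ Y) {M : Y.Modules} {V : Y.Opens} (hM : LocGen M V) :
    LocGen ((Scheme.Modules.pullback f).obj M) (f ⁻¹ᵁ V) := by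
  intro x hx
  obtain ⟨W, e, hxW, hWV, he⟩ := hM (f x) hx
  exact ⟨f ⁻¹ᵁ W, pullSec f e, hxW, f.preimage_mono hWV, he.pullSec f⟩

theorem locGen_tw (f : X ⟶ Y) {L : X.Modules} {K : Y.Modules} (n : ℕ) {V : Y.Opens}
    (hL : LocGen L (f ⁻¹ᵁ V)) (hK : LocGen K V) : LocGen (tw f L K n) (f ⁻¹ᵁ V) := by
  intro x hx
  obtain ⟨U, e, hxU, hUV, he⟩ := hL x hx
  obtain ⟨W, k, hxW, hWV, hk⟩ := hK (f x) hx
  exact ⟨U ⊓ f ⁻¹ᵁ W, RelAmp.twSec f n inf_le_right (res L inf_le_left e) k, ⟨hxU, hxW⟩,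
    inf_le_left.trans hUV, IsGen.twSec f n _ (he.res _) hk⟩

/-- Main extension step. -/
theorem exists_nv_tw (f : X ⟶ Y) {L : X.Modules} {K : Y.Modules} {V : Y.Opens}
    (hL : LocGen L (f ⁻¹ᵁ V)) (hK : LocGen K V) (hc : IsCompact ((f ⁻¹ᵁ V : X.Opens) : Set X))
    (hq : IsQuasiSeparated ((f ⁻¹ᵁ V : X.Opens) : Set X)) {d : ℕ} (hd : 0 < d)
    (t : Γ(CohB1.tensorPow K d, V)) {a : ℕ} (ha : 0 < a)
    (s : Γ(CohB1.tensorPow L a, f ⁻¹ᵁ (nv _ t))) :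
    ∃ N₀ : ℕ, ∀ n : ℕ, N₀ ≤ n → ∃ S : Γ(CohB1.tensorPow (tw f L K n) (a * d), f ⁻¹ᵁ V),
      nv _ S = nv _ s := by
  obtain ⟨ι, _, W, hWa, hWU, hG, hcov⟩ := exists_finite_affine_cover hc
    (fun U => ∃ (e : Γ(L, U)) (V' : Y.Opens) (_ : V' ≤ V) (k : Γ(K, V')), U ≤ f ⁻¹ᵁ V' ∧ IsGen e ∧ IsGen k)
    (fun U U' hU ⟨e, V', hV', k, h1, he, hk⟩ => ⟨res L hU e, V', hV', k, hU.trans h1, he.res hU, hk⟩)
    (fun x hx => by
      obtain ⟨U, e, hxU, _, he⟩ := hL x hx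
      obtain ⟨V', k, hxV', hV', hk⟩ := hK (f x) hx
      exact ⟨U ⊓ f ⁻¹ᵁ V', ⟨hxU, hxV'⟩, res L inf_le_left e, V', hV', k, inf_le_right, he.res _, hk⟩)
  choose e V' hV' k hWV' he hk using hG
  have h1 : ∀ i j, ∃ g : Γ(X, W i ⊓ W j), res L (inf_le_left : W i ⊓ W j ≤ W i) (e i) =
      g • res L (inf_le_right : W i ⊓ W j ≤ W j) (e j) := fun i j =>
    ((he j).res inf_le_right).exists_eq _
  choose g hg using h1
  have h2 : ∀ i j, ∃ δ : Γ(Y, V' i ⊓ V' j), res K (inf_le_left : V' i ⊓ V' j ≤ V' i) (k i) =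
      δ • res K (inf_le_right : V' i ⊓ V' j ≤ V' j) (k j) := fun i j =>
    ((hk j).res inf_le_right).exists_eq _
  choose δ hδ using h2
  have h3 : ∀ i, ∃ b : Γ(Y, V' i), res _ (hV' i) t = b • pow (k i) d := fun i =>
    ((hk i).pow d).exists_eq _
  choose b hb using h3
  have hWW : ∀ i j, W i ⊓ W j ≤ f ⁻¹ᵁ (V' i ⊓ V' j) := fun i j =>
    le_inf (inf_le_left.trans (hWV' i)) (inf_le_right.trans (hWV' j))
  let δ' : ∀ i j, Γ(X, W i ⊓ W j) := fun i j =>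
    ores (hWW i j) (show Γ(X, f ⁻¹ᵁ (V' i ⊓ V' j)) from f.app _ (δ i j))
  let τ : ∀ i, Γ(X, W i) := fun i => ores (hWV' i) (show Γ(X, f ⁻¹ᵁ (V' i)) from f.app _ (b i))
  have hD : ∀ i, X.basicOpen (τ i) = W i ⊓ f ⁻¹ᵁ (nv _ t) := by
    intro i
    change X.basicOpen (ores (hWV' i) (show Γ(X, f ⁻¹ᵁ (V' i)) from f.app _ (b i))) = _
    rw [basicOpen_res]
    have h4 := nv_inf_of_eq_smul t (hV' i) ((hk i).pow d) _ (hb i)
    have h5 : X.basicOpen (show Γ(X, f ⁻¹ᵁ (V' i)) from f.app _ (b i)) = f ⁻¹ᵁ (V' i) ⊓ f ⁻¹ᵁ (nv _ t) := by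
      change X.basicOpen (f.app _ (b i)) = _
      rw [← Scheme.preimage_basicOpen, ← h4]
      rfl
    rw [h5, ← inf_assoc, inf_eq_left.2 (hWV' i)]
  have hτ : ∀ i j, ores (inf_le_right : W i ⊓ W j ≤ W j) (τ j) =
      ores (inf_le_left : W i ⊓ W j ≤ W i) (τ i) * δ' i j ^ d := by
    intro i j
    have h4 := coef_rel t (hV' i) (hV' j) ((hk j).pow d) _ _ (hb i) (hb j) (δ i j ^ d)
      (by rw [res_pow, res_pow, hδ, smul_pow])
    have h5 := congrArg (fun z => ores (hWW i j) (show Γ(X, f ⁻¹ᵁ (V' i ⊓ V' j)) from f.app _ z)) h4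
    dsimp only at h5
    rw [map_mul, map_pow, map_mul, map_pow, app_ores, app_ores, ores_ores, ores_ores] at h5
    change ores _ (ores _ _) = ores _ (ores _ _) * _
    rw [ores_ores, ores_ores]
    exact h5
  have hle : ∀ i, X.basicOpen (τ i) ≤ f ⁻¹ᵁ (nv _ t) := fun i => by rw [hD i]; exact inf_le_right
  have h6 : ∀ i, ∃ σ : Γ(X, X.basicOpen (τ i)), res _ (hle i) s =
      σ • pow (res L (X.basicOpen_le (τ i)) (e i)) a := fun i =>
    (((he i).res _).pow a).exists_eq _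
  choose σ hσ using h6
  have hσ' : ∀ i j, ores (inf_le_right : X.basicOpen (τ i) ⊓ X.basicOpen (τ j) ≤ _) (σ j) =
      ores (inf_le_left : X.basicOpen (τ i) ⊓ X.basicOpen (τ j) ≤ _) (σ i) *
        ores (inf_le_inf (X.basicOpen_le _) (X.basicOpen_le _)) (g i j) ^ a := by
    intro i j
    refine coef_rel s (hle i) (hle j) (((he j).res _).pow a) _ _ (hσ i) (hσ j) _ ?_
    have := congrArg (res L (inf_le_inf (X.basicOpen_le (τ i)) (X.basicOpen_le (τ j)))) (hg i j)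
    rw [res_smul, res_res, res_res] at this
    rw [res_pow, res_pow, res_res, res_res, ← smul_pow]
    exact congrArg (fun z => pow z a) this
  obtain ⟨N₀, hN₀⟩ := exists_section hq W hWa hWU hcov τ (fun i => σ i ^ d) (fun i j => g i j ^ (a * d))
    (fun i j => δ' i j ^ d) hτ (fun i j => by
      rw [map_pow, map_pow, hσ', mul_pow, map_pow, pow_mul])
  refine ⟨N₀, fun n hn => ?_⟩
  have htw : ∀ i j, res _ (inf_le_left : W i ⊓ W j ≤ W i) (RelAmp.twSec f n (hWV' i) (e i) (k i)) =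
      (g i j * δ' i j ^ n) • res _ (inf_le_right : W i ⊓ W j ≤ W j)
        (RelAmp.twSec f n (hWV' j) (e j) (k j)) := by
    intro i j
    rw [res_twSec, res_twSec, ← twSec_res f n (hWW i j) inf_le_left _ (k i),
      ← twSec_res f n (hWW i j) inf_le_right _ (k j), hg, hδ, twSec_smul]
  obtain ⟨S, hS⟩ := hN₀ (a * n) (hn.trans (Nat.le_mul_of_pos_left n ha))
    (CohB1.tensorPow (tw f L K n) (a * d)) (fun i => pow (RelAmp.twSec f n (hWV' i) (e i) (k i)) (a * d))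
    (fun i => (IsGen.twSec f n _ (he i) (hk i)).pow _) (fun i j => by
      rw [res_pow, res_pow, htw, smul_pow]
      congr 1
      rw [mul_pow, ← pow_mul, ← pow_mul]
      congr 2
      ring)
  refine ⟨S, hS.trans ?_⟩
  have h7 : ∀ i, X.basicOpen (σ i ^ d) = W i ⊓ nv _ s := by
    intro i
    rw [Scheme.basicOpen_pow _ _ hd, ← nv_inf_of_eq_smul s (hle i) (((he i).res _).pow a) _ (hσ i), hD,
      inf_assoc]
    congr 1
    exact inf_eq_right.2 (nv_le _ _)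
  rw [iSup_congr h7, ← iSup_inf_eq]
  exact inf_eq_right.2 ((nv_le _ _).trans ((f.preimage_mono (nv_le _ _)).trans hcov))

theorem ampleOn_tw (f : X ⟶ Y) [QuasiCompact f] {L : X.Modules} {K : Y.Modules} {V : Y.Opens}
    (hK : AmpleOn K V) (hL : ∀ W : Y.Opens, W ≤ V → IsAffineOpen W → AmpleOn L (f ⁻¹ᵁ W)) :
    ∃ n₀ : ℕ, ∀ n : ℕ, n₀ ≤ n → AmpleOn (tw f L K n) (f ⁻¹ᵁ V) := by
  classical
  choose d hd t hyt haff using hK.exists_nv
  have hcovV : V ≤ ⨆ y : V, nv _ (t y.1 y.2) := fun y hy =>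
    TopologicalSpace.Opens.mem_iSup.2 ⟨⟨y, hy⟩, hyt y hy⟩
  have hcov : f ⁻¹ᵁ V ≤ ⨆ y : V, f ⁻¹ᵁ nv _ (t y.1 y.2) := by
    intro x hx
    exact TopologicalSpace.Opens.mem_iSup.2 ⟨⟨f x, hx⟩, hyt _ hx⟩
  have hLy : ∀ y : V, AmpleOn L (f ⁻¹ᵁ nv _ (t y.1 y.2)) := fun y => hL _ (nv_le _ _) (haff _ _)
  have hLg : LocGen L (f ⁻¹ᵁ V) := LocGen.of_cover _ hcov (fun y => (hLy y).locGen)
  have hc : IsCompact ((f ⁻¹ᵁ V : X.Opens) : Set X) := f.isCompact_preimage hK.isCompact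
  have hq : IsQuasiSeparated ((f ⁻¹ᵁ V : X.Opens) : Set X) := by
    refine isQuasiSeparated_of_nv_cover
      (fun y : V => (Scheme.Modules.pullback f).obj (CohB1.tensorPow K (d y.1 y.2)))
      (fun y => locGen_pullback f (locGen_tensorPow hK.locGen _))
      (fun y => pullSec f (t y.1 y.2)) ?_ ?_
    · refine hcov.trans (le_of_eq (iSup_congr fun y => ?_))
      rw [nv_pullSec f (locGen_tensorPow hK.locGen _)]
    · intro y
      rw [nv_pullSec f (locGen_tensorPow hK.locGen _)]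
      exact (hLy y).isQuasiSeparated
  -- for every point a threshold
  have key : ∀ x : (f ⁻¹ᵁ V : X.Opens), ∃ (A : X.Opens) (N₀ : ℕ), (x : X) ∈ A ∧ IsAffineOpen A ∧
      ∀ n : ℕ, N₀ ≤ n → ∃ (m : ℕ) (_ : 0 < m) (S : Γ(CohB1.tensorPow (tw f L K n) m, f ⁻¹ᵁ V)),
        nv _ S = A := by
    rintro ⟨x, hx⟩
    obtain ⟨a, ha, s, hxs, hs⟩ := (hLy ⟨f x, hx⟩).exists_nv x (hyt _ hx)
    obtain ⟨N₀, hN₀⟩ := exists_nv_tw f hLg hK.locGen hc hq (hd _ hx) (t _ hx) ha s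
    refine ⟨nv _ s, N₀, hxs, hs, fun n hn => ?_⟩
    obtain ⟨S, hS⟩ := hN₀ n hn
    exact ⟨_, Nat.mul_pos ha (hd _ _), S, hS⟩
  choose A N₀ hxA hAa hA using key
  obtain ⟨T, hT⟩ := hc.elim_finite_subcover (fun x : (f ⁻¹ᵁ V : X.Opens) => (A x : Set X))
    (fun x => (A x).2) (fun x hx => Set.mem_iUnion.2 ⟨⟨x, hx⟩, hxA ⟨x, hx⟩⟩)
  refine ⟨T.sup N₀, fun n hn => ⟨locGen_tw f n hLg hK.locGen, hc, fun x hx => ?_⟩⟩
  have := hT hx
  simp only [Set.mem_iUnion, exists_prop] at this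
  obtain ⟨y, hy, hxy⟩ := this
  obtain ⟨m, hm, S, hS⟩ := hA y n ((Finset.le_sup hy).trans hn)
  exact ⟨m, hm, S, by rw [hS]; exact hxy, by rw [hS]; exact hAa y⟩

/-- EGA II 4.6.13 (ii). -/
theorem relAmple_comp [CompactSpace Z] (f : X ⟶ Y) (g : Y ⟶ Z)
    [QuasiCompact f] [QuasiCompact g] (L : X.Modules) (K : Y.Modules)
    (hL : RelAmple.IsRelAmple f L) (hK : RelAmple.IsRelAmple g K) :
    ∃ n₀ : ℕ, 0 < n₀ ∧ ∀ n, n₀ ≤ n →
      RelAmple.IsRelAmple (f ≫ g) (CohB1.tensorMod L ((Scheme.Modules.pullback f).obj (CohB1.tensorPow K n))) := by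
  classical
  have h1 : ∀ z : Z, ∃ V : Z.Opens, IsAffineOpen V ∧ z ∈ V := by
    intro z
    obtain ⟨_, ⟨W, hW, rfl⟩, hzW, _⟩ := Z.isBasis_affineOpens.exists_subset_of_mem_open
      (show z ∈ (⊤ : Z.Opens) from trivial) (⊤ : Z.Opens).2
    exact ⟨W, hW, hzW⟩
  choose V hVa hzV using h1
  have h2 : ∀ z : Z, ∃ n₀ : ℕ, ∀ n : ℕ, n₀ ≤ n → AmpleOn (tw f L K n) (f ⁻¹ᵁ (g ⁻¹ᵁ (V z))) :=
    fun z => ampleOn_tw f ((isRelAmple_iff.1 hK).2 ⟨V z, hVa z⟩)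
      (fun W _ hW => (isRelAmple_iff.1 hL).2 ⟨W, hW⟩)
  choose n₀ hn₀ using h2
  obtain ⟨T, hT⟩ := isCompact_univ.elim_finite_subcover (fun z : Z => (V z : Set Z))
    (fun z => (V z).2) (fun z _ => Set.mem_iUnion.2 ⟨z, hzV z⟩)
  refine ⟨T.sup n₀ + 1, Nat.succ_pos _, fun n hn => ?_⟩
  refine isRelAmple_of_forall_exists (fun z => ?_)
  have := hT (Set.mem_univ z)
  simp only [Set.mem_iUnion, exists_prop] at this
  obtain ⟨y, hy, hzy⟩ := this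
  exact ⟨V y, hVa y, hzy, hn₀ y n ((Finset.le_sup hy).trans ((Nat.le_succ _).trans hn))⟩

end Groth.Agent.Ega2.RelAmp
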