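import Groth.Agent.Ega2.RelAmp
import Groth.Agent.Ega2.QuasiAffine

/-!
# Pullback of relatively ample modules along quasi-affine morphisms
-/

set_option autoImplicit false
universe u
open CategoryTheory CategoryTheory.Limits AlgebraicGeometry

namespace Groth.Agent.Ega2.RelAmpQAff

open Groth.Agent.Ega2.ExtCoeff Groth.Agent.Ega2.Nv Groth.Agent.Ega2.Ample Groth.Agent.Fdesc.LocGen
open Groth.Agent.Ega2.RelAmp

variable {X X' Y S : Scheme.{u}}

/-- A quasi-affine open has affine basic open neighbourhoods of each of its points. -/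
theorem exists_basicOpen_of_isQuasiAffine {A : X.Opens} (hA : Scheme.IsQuasiAffine (A : Scheme.{u}))
    {x : X} (hx : x ∈ A) : ∃ h : Γ(X, A), x ∈ X.basicOpen h ∧ IsAffineOpen (X.basicOpen h) := by
  obtain ⟨_, ⟨_, ⟨r, hr, rfl⟩, rfl⟩, hxr, -⟩ :=
    (Scheme.IsQuasiAffine.isBasis_basicOpen (A : Scheme.{u})).exists_subset_of_mem_open
      (Set.mem_univ (⟨x, hx⟩ : A)) isOpen_univ
  have h0 : A.topIso.inv (A.topIso.hom r) = r := congr(($(A.topIso.hom_inv_id)).hom r)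
  have h1 : X.basicOpen (A.topIso.hom r) = A.ι ''ᵁ (A : Scheme.{u}).basicOpen r := by
    rw [← Scheme.Opens.ι_image_basicOpen_topIso_inv, h0]
  refine ⟨A.topIso.hom r, ?_, ?_⟩
  · rw [h1]
    exact ⟨⟨x, hx⟩, hxr, rfl⟩
  · rw [h1]
    exact hr.image_of_isOpenImmersion _

theorem isQuasiSeparated_of_isQuasiAffine {A : X.Opens} (hA : Scheme.IsQuasiAffine (A : Scheme.{u})) :
    IsQuasiSeparated (A : Set X) := by
  have h2 : QuasiSeparatedSpace (A : Scheme.{u}) := inferInstance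
  exact (isQuasiSeparated_iff_quasiSeparatedSpace _ A.isOpen).mpr h2

theorem ampleOn_of_qaff {φ : X' ⟶ X} (hφ : Mor2.IsQuasiAffine φ) {L : X.Modules} {L' : X'.Modules}
    (P : PullMap φ L L') {U : X.Opens} (h : AmpleOn L U) : AmpleOn L' (φ ⁻¹ᵁ U) := by
  have hqc := hφ.1
  have hc : IsCompact ((φ ⁻¹ᵁ U : X'.Opens) : Set X') := φ.isCompact_preimage h.isCompact
  have hloc : LocGen L' (φ ⁻¹ᵁ U) := by
    intro x hx
    obtain ⟨V, e, hxV, hVU, he⟩ := h.locGen (φ x) hx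
    exact ⟨φ ⁻¹ᵁ V, P.toFun V e, hxV, φ.preimage_mono hVU, P.isGen_toFun V e he⟩
  choose n hn s hxs hs using h.exists_nv
  choose s' hs' using fun (x : X) (hx : x ∈ U) => P.exists_nv_eq h.locGen (s x hx)
  have hqa : ∀ (x : X) (hx : x ∈ U), Scheme.IsQuasiAffine ((nv _ (s' x hx) : X'.Opens) : Scheme.{u}) := by
    intro x hx
    rw [hs']
    exact hφ.2 _ (hs x hx)
  have hqs : IsQuasiSeparated ((φ ⁻¹ᵁ U : X'.Opens) : Set X') := by
    refine isQuasiSeparated_of_nv_cover (ι := U) (fun x => CohB1.tensorPow L' (n x.1 x.2))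
      (fun x => locGen_tensorPow hloc _) (fun x => s' x.1 x.2) ?_
      (fun x => isQuasiSeparated_of_isQuasiAffine (hqa _ _))
    intro x hxU
    refine TopologicalSpace.Opens.mem_iSup.2 ⟨⟨φ x, hxU⟩, ?_⟩
    rw [hs']
    exact hxs (φ x) hxU
  refine ⟨hloc, hc, fun x hx => ?_⟩
  obtain ⟨f, hxf, hf⟩ := exists_basicOpen_of_isQuasiAffine (hqa (φ x) hx) (x := x) (by
    rw [hs']; exact hxs (φ x) hx)
  obtain ⟨N₀, hN₀⟩ := exists_nv_eq_basicOpen hloc hc hqs (s' (φ x) hx) f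
  obtain ⟨S, hS⟩ := hN₀ (N₀ + 1) (Nat.le_succ _)
  exact ⟨n (φ x) hx * (N₀ + 1), Nat.mul_pos (hn _ _) (Nat.succ_pos _), S, hS ▸ hxf, hS ▸ hf⟩

/-- EGA II 5.1.12. -/
theorem isRelAmple_pullback_of_qaff (f : X ⟶ Y) (g : X' ⟶ X) (hg : Mor2.IsQuasiAffine g)
    (L : X.Modules) (hL : RelAmple.IsRelAmple f L) :
    RelAmple.IsRelAmple (g ≫ f) ((Scheme.Modules.pullback g).obj L) := by
  rw [isRelAmple_iff] at hL ⊢
  have := hL.1
  have := hg.1
  exact ⟨inferInstance, fun V => ampleOn_of_qaff hg (pullMap g L) (hL.2 V)⟩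

end Groth.Agent.Ega2.RelAmpQAff
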