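import Groth.Agent.Ega2.RelAmp

/-!
# Relative ampleness: cancellation and base change
-/

set_option autoImplicit false
universe u
open CategoryTheory CategoryTheory.Limits AlgebraicGeometry

namespace Groth.Agent.Ega2.RelAmp

open Groth.Agent.Ega2.ExtCoeff Groth.Agent.Ega2.Nv Groth.Agent.Ega2.Ample Groth.Agent.Fdesc.LocGen

variable {X X' Y Y' Z S : Scheme.{u}}

/-- Stacks 0C4L. -/
theorem relAmple_of_comp (f : X ⟶ Y) (g : Y ⟶ Z) [QuasiCompact f]
    (L : X.Modules) (hL : RelAmple.IsRelAmple (f ≫ g) L) : RelAmple.IsRelAmple f L := by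
  refine isRelAmple_of_forall_exists (fun y => ?_)
  obtain ⟨_, ⟨W, hW, rfl⟩, hyW, _⟩ := Z.isBasis_affineOpens.exists_subset_of_mem_open
    (show g y ∈ (⊤ : Z.Opens) from trivial) (⊤ : Z.Opens).2
  obtain ⟨_, ⟨V, hV, rfl⟩, hyV, hVW⟩ := Y.isBasis_affineOpens.exists_subset_of_mem_open
    (show y ∈ g ⁻¹ᵁ W from hyW) (g ⁻¹ᵁ W).2
  refine ⟨V, hV, hyV, ?_⟩
  have h1 := (isRelAmple_iff.1 hL).2 ⟨W, hW⟩
  refine h1.mono ?_ (f.isCompact_preimage hV.isCompact)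
  intro x hx
  exact hVW hx

/-- EGA II 4.6.13 (iii). -/
theorem relAmple_baseChange (f : X ⟶ Y) [QuasiCompact f] (g : Y' ⟶ Y) (L : X.Modules)
    (hL : RelAmple.IsRelAmple f L) :
    RelAmple.IsRelAmple (pullback.snd f g) ((Scheme.Modules.pullback (pullback.fst f g)).obj L) := by
  refine isRelAmple_of_forall_exists (fun y => ?_)
  obtain ⟨_, ⟨W, hW, rfl⟩, hyW, _⟩ := Y.isBasis_affineOpens.exists_subset_of_mem_open
    (show g y ∈ (⊤ : Y.Opens) from trivial) (⊤ : Y.Opens).2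
  obtain ⟨_, ⟨V, hV, rfl⟩, hyV, hVW⟩ := Y'.isBasis_affineOpens.exists_subset_of_mem_open
    (show y ∈ g ⁻¹ᵁ W from hyW) (g ⁻¹ᵁ W).2
  refine ⟨V, hV, hyV, ?_⟩
  have h1 := (isRelAmple_iff.1 hL).2 ⟨W, hW⟩
  have hle : pullback.snd f g ⁻¹ᵁ V ≤ pullback.fst f g ⁻¹ᵁ (f ⁻¹ᵁ W) := by
    intro x hx
    have h2 : (pullback.fst f g ≫ f) x = (pullback.snd f g ≫ g) x := by rw [pullback.condition]
    change (pullback.fst f g ≫ f) x ∈ W
    rw [h2]
    exact hVW hx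
  refine ampleOn_of_pullMap (pullMap (pullback.fst f g) L) h1 hle
    ((pullback.snd f g).isCompact_preimage hV.isCompact) (fun A hA hAa => ?_)
  have hpb := Scheme.Hom.isPullback_resLE (IsPullback.of_hasPullback f g) (US := W) (UT := V) (UX := A)
    hVW hA (UY := pullback.snd f g ⁻¹ᵁ V ⊓ pullback.fst f g ⁻¹ᵁ A) (inf_comm _ _)
  have : IsAffine _ := hW
  have : IsAffine _ := hV
  have : IsAffine _ := hAa
  exact .of_isIso hpb.isoPullback.hom

end Groth.Agent.Ega2.RelAmp
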