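import Groth.Prelude.Def_Twist2
import Groth.Agent.Ega2.TensHom

/-!
# Serre's twisting sheaves on `Proj 𝒜`: fraction sections, products, generators
-/

set_option autoImplicit false
universe u

open CategoryTheory AlgebraicGeometry Limits TopologicalSpace Opposite TopCat

namespace Groth.Agent.Ega2.TwistBasic

open Twist

variable {R A : Type u} [CommRing R] [CommRing A] [Algebra R A] {𝒜 : ℕ → Submodule R A} [GradedAlgebra 𝒜]

/-- The fraction `a / s` in the degree `n` part of the localization at `x`. -/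
noncomputable def fracAt (n : ℤ) {i j : ℕ} (a : 𝒜 i) (s : 𝒜 j) (h : (i : ℤ) = j + n) (x : ProjectiveSpectrum 𝒜)
    (hx : s.1 ∉ x.asHomogeneousIdeal) : twistAt 𝒜 n x :=
  ⟨Localization.mk a.1 ⟨s.1, hx⟩, Submodule.subset_span ⟨i, j, a, s, hx, h, rfl⟩⟩

/-- The section `a / s` of `O(n)`, `deg a = deg s + n`, over an open where `s` does not vanish. -/
noncomputable def fracSec (n : ℤ) {i j : ℕ} (a : 𝒜 i) (s : 𝒜 j) (h : (i : ℤ) = j + n)
    (U : Opens (ProjectiveSpectrum.top 𝒜)) (hU : ∀ x ∈ U, s.1 ∉ x.asHomogeneousIdeal) :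
    sectN (𝒜 := 𝒜) n (op U) :=
  ⟨fun x => fracAt n a s h x.1 (hU x.1 x.2),
    fun x => ⟨U, x.2, 𝟙 U, i, j, a, s, fun y => hU y.1 y.2, Or.inl h, fun _ => rfl⟩⟩

@[simp] lemma fracSec_val (n : ℤ) {i j : ℕ} (a : 𝒜 i) (s : 𝒜 j) (h : (i : ℤ) = j + n)
    (U : Opens (ProjectiveSpectrum.top 𝒜)) (hU : ∀ x ∈ U, s.1 ∉ x.asHomogeneousIdeal) (x : U) :
    ((fracSec n a s h U hU).1 x).1 = Localization.mk a.1 ⟨s.1, hU x.1 x.2⟩ := rfl

@[simp] lemma resN_fracSec (n : ℤ) {i j : ℕ} (a : 𝒜 i) (s : 𝒜 j) (h : (i : ℤ) = j + n)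
    {U V : Opens (ProjectiveSpectrum.top 𝒜)} (hU : ∀ x ∈ U, s.1 ∉ x.asHomogeneousIdeal) (k : V ⟶ U) :
    resN n k.op (fracSec n a s h U hU) = fracSec n a s h V (fun x hx => hU x (k.le hx)) := rfl

lemma exists_smul_of_mem_twistAt (n : ℤ) {i j : ℕ} (a : 𝒜 i) (s : 𝒜 j) (h : (i : ℤ) = j + n)
    (x : ProjectiveSpectrum 𝒜) (ha : a.1 ∉ x.asHomogeneousIdeal) (hs : s.1 ∉ x.asHomogeneousIdeal)
    (q : Loc 𝒜 x) (hq : q ∈ twistAt 𝒜 n x) :
    ∃ c : A0 𝒜 x, c.val * Localization.mk a.1 ⟨s.1, hs⟩ = q := by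
  induction hq using Submodule.span_induction with
  | mem q hq =>
    obtain ⟨i', j', b, r, hr, hbr, rfl⟩ := hq
    have hmem : r.1 * a.1 ∉ x.asHomogeneousIdeal := fun h' =>
      (x.isPrime.mem_or_mem h').elim hr ha
    refine ⟨HomogeneousLocalization.mk ⟨i' + j, ⟨b.1 * s.1, SetLike.mul_mem_graded b.2 s.2⟩,
      ⟨r.1 * a.1, ?_⟩, hmem⟩, ?_⟩
    · have : i' + j = j' + i := by omega
      rw [this]
      exact SetLike.mul_mem_graded r.2 a.2
    · rw [HomogeneousLocalization.val_mk, Localization.mk_mul]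
      rw [Localization.mk_eq_mk_iff, Localization.r_iff_exists]
      refine ⟨1, ?_⟩
      simp only [OneMemClass.coe_one, one_mul, Submonoid.coe_mul]
      ring
  | zero => exact ⟨0, by simp⟩
  | add p q _ _ hp hq =>
    obtain ⟨c, rfl⟩ := hp
    obtain ⟨d, rfl⟩ := hq
    exact ⟨c + d, by rw [HomogeneousLocalization.val_add, add_mul]⟩
  | smul r q _ hq =>
    obtain ⟨c, rfl⟩ := hq
    exact ⟨r * c, by rw [HomogeneousLocalization.val_mul, Algebra.smul_def,
      HomogeneousLocalization.algebraMap_apply, mul_assoc]⟩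

lemma isUnit_mk (x : ProjectiveSpectrum 𝒜) (a s : A) (ha : a ∉ x.asHomogeneousIdeal.toIdeal)
    (hs : s ∉ x.asHomogeneousIdeal.toIdeal) :
    IsUnit (Localization.mk a ⟨s, hs⟩ : Loc 𝒜 x) := by
  rw [isUnit_iff_exists]
  refine ⟨Localization.mk s ⟨a, ha⟩, ?_, ?_⟩ <;>
  · rw [Localization.mk_mul, ← Localization.mk_one, Localization.mk_eq_mk_iff, Localization.r_iff_exists]
    refine ⟨1, ?_⟩
    simp only [OneMemClass.coe_one, Submonoid.coe_mul, mul_one, mul_comm]

/-- Scalar multiplication of sections (a helper for elaboration). -/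
noncomputable def smulS (n : ℤ) {U : Opens (ProjectiveSpectrum.top 𝒜)} (c : O (𝒜 := 𝒜) (op U))
    (t : sectN (𝒜 := 𝒜) n (op U)) : sectN (𝒜 := 𝒜) n (op U) := c • t

lemma smulS_val (n : ℤ) {U : Opens (ProjectiveSpectrum.top 𝒜)} (c : O (𝒜 := 𝒜) (op U))
    (t : sectN (𝒜 := 𝒜) n (op U)) (x : U) :
    (((smulS n c t).1 x).1 : Loc 𝒜 x.1) = (c.1 x).val * (t.1 x).1 :=
  coe_smul_val n x.1 (c.1 x) (t.1 x)

/-- If neither `a` nor `s` vanishes on `U` then `a / s` generates `O(n)` over `U`. -/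
theorem bijective_smul_fracSec (n : ℤ) {i j : ℕ} (a : 𝒜 i) (s : 𝒜 j) (h : (i : ℤ) = j + n)
    (U : Opens (ProjectiveSpectrum.top 𝒜)) (hU : ∀ x ∈ U, s.1 ∉ x.asHomogeneousIdeal)
    (hU' : ∀ x ∈ U, a.1 ∉ x.asHomogeneousIdeal) :
    Function.Bijective (fun c : O (𝒜 := 𝒜) (op U) => smulS n c (fracSec n a s h U hU)) := by
  constructor
  · intro c d hcd
    refine Subtype.ext (funext fun x => ?_)
    have h1 := congrArg (fun t : sectN (𝒜 := 𝒜) n (op U) => (t.1 x).1) hcd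
    dsimp only at h1
    rw [smulS_val, smulS_val, fracSec_val] at h1
    exact HomogeneousLocalization.val_injective _
      ((isUnit_mk x.1 a.1 s.1 (hU' x.1 x.2) (hU x.1 x.2)).mul_left_injective h1)
  · intro t
    choose c hc using fun x : U => exists_smul_of_mem_twistAt n a s h x.1 (hU' x.1 x.2) (hU x.1 x.2)
      (t.1 x).1 (t.1 x).2
    refine ⟨⟨c, fun x => ?_⟩, ?_⟩
    · obtain ⟨V, hxV, k, i', j', b, r, hr, hbr, hb⟩ := t.2 x
      have hkV : ∀ y : V, y.1 ∈ U := fun y => k.le y.2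
      have hmem : ∀ y : V, r.1 * a.1 ∉ y.1.asHomogeneousIdeal := fun y h' =>
        (y.1.isPrime.mem_or_mem h').elim (hr y) (hU' y.1 (hkV y))
      have key : ∀ y : V, (c (k y)).val * Localization.mk a.1 ⟨s.1, hU y.1 (hkV y)⟩ =
          (Localization.mk b.1 ⟨r.1, hr y⟩ : Loc 𝒜 y.1) := by
        intro y
        rw [← hb y]
        exact hc (k y)
      have key2 : ∀ y : V, (Localization.mk (b.1 * s.1) ⟨r.1 * a.1, hmem y⟩ : Loc 𝒜 y.1) = (c (k y)).val := by
        intro y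
        apply (isUnit_mk y.1 a.1 s.1 (hU' y.1 (hkV y)) (hU y.1 (hkV y))).mul_left_injective
        dsimp only
        rw [key, Localization.mk_mul, Localization.mk_eq_mk_iff, Localization.r_iff_exists]
        refine ⟨1, ?_⟩
        simp only [OneMemClass.coe_one, one_mul, Submonoid.coe_mul]
        ring
      rcases hbr with hbr | hbr
      · have e1 : i' + j = j' + i := by omega
        refine ⟨V, hxV, k, i' + j, ⟨b.1 * s.1, SetLike.mul_mem_graded b.2 s.2⟩,
          ⟨r.1 * a.1, e1 ▸ SetLike.mul_mem_graded r.2 a.2⟩, hmem, fun y => ?_⟩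
        apply HomogeneousLocalization.val_injective
        rw [HomogeneousLocalization.val_mk]
        exact (key2 y).symm
      · refine ⟨V, hxV, k, 0, 0, ⟨1, SetLike.GradedOne.one_mem⟩,
          fun y h => y.1.isPrime.ne_top ((Ideal.eq_top_iff_one _).mpr h), fun y => ?_⟩
        apply HomogeneousLocalization.val_injective
        rw [HomogeneousLocalization.val_mk]
        have h2 := key2 y
        rw [hbr, zero_mul, Localization.mk_zero] at h2
        refine Eq.trans h2.symm ?_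
        exact (Localization.mk_zero _).symm
    · refine Subtype.ext (funext fun x => Subtype.ext ?_)
      exact (smulS_val n _ _ x).trans (hc x)

/-- If neither `a` nor `s` vanishes on `U` then `a / s` generates `O(n)` over `U`. -/
theorem isGen_fracSec (n : ℤ) {i j : ℕ} (a : 𝒜 i) (s : 𝒜 j) (h : (i : ℤ) = j + n)
    (U : (Proj 𝒜).Opens) (hU : ∀ x ∈ U, s.1 ∉ x.asHomogeneousIdeal)
    (hU' : ∀ x ∈ U, a.1 ∉ x.asHomogeneousIdeal) :
    TensHom.IsGen (twist 𝒜 n) U (fracSec n a s h U hU) := by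
  intro V hV
  exact bijective_smul_fracSec n a s h V (fun x hx => hU x (hV hx)) (fun x hx => hU' x (hV hx))

end Groth.Agent.Ega2.TwistBasic
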