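import Groth.Agent.Ega2.PnMap
import Groth.Agent.Ega2.ImmCrit
import Groth.Agent.Ega2.TwistBasic
import Groth.Prelude.Def_LCI2

/-!
# A criterion for very ampleness relative to an affine base

`isRelVeryAmplePn_of_sections`: sections `s 0, …, s n` of `M` on `X`, a subfamily `K` whose generating loci are affine and
cover `X`, such that for `j ∈ K` the functions on `X_{s j}` are generated by the ratios `s k / s j` and the functions on `Y`:
then `M` is very ample relative to `q : X ⟶ Y`, `Y` affine, in the sense of `RelAmple.IsRelVeryAmplePn`.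
-/

set_option autoImplicit false
universe u
open CategoryTheory CategoryTheory.Limits AlgebraicGeometry TopologicalSpace Opposite
open Groth.Agent.Fdesc.LocGen
open Groth.Agent.VarietyB Groth.Agent.VarietyB.ProjGlue

namespace Groth.Agent.Ega2.VeryAmpleCrit

section twist

attribute [local instance] MvPolynomial.gradedAlgebra

variable {I : Type} {R : Type u} [CommRing R]

theorem one_notMem {A : Type u} [CommRing A] [Algebra R A] (𝒜 : ℕ → Submodule R A) [GradedAlgebra 𝒜]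
    (x : ProjectiveSpectrum 𝒜) : (1 : A) ∉ x.asHomogeneousIdeal := fun h =>
  x.isPrime.ne_top ((Ideal.eq_top_iff_one _).mpr h)

/-- The generator `X_i` of `O(1)` over `D_+(X_i)`. -/
noncomputable def gen (R : Type u) [CommRing R] (i : I) : Γ(Twist.twist (MvPolynomial.homogeneousSubmodule I R) 1,
    Proj.basicOpen (MvPolynomial.homogeneousSubmodule I R) (MvPolynomial.X i)) :=
  TwistBasic.fracSec (𝒜 := MvPolynomial.homogeneousSubmodule I R) 1
    (⟨MvPolynomial.X i, MvPolynomial.isHomogeneous_X R i⟩ : MvPolynomial.homogeneousSubmodule I R 1)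
    (⟨1, SetLike.GradedOne.one_mem⟩ : MvPolynomial.homogeneousSubmodule I R 0) (by simp) _
    (fun x _ => one_notMem _ x)

theorem isGen_gen (i : I) : IsGen (gen R i) :=
  TwistBasic.isGen_fracSec (𝒜 := MvPolynomial.homogeneousSubmodule I R) 1
    (⟨MvPolynomial.X i, MvPolynomial.isHomogeneous_X R i⟩ : MvPolynomial.homogeneousSubmodule I R 1)
    (⟨1, SetLike.GradedOne.one_mem⟩ : MvPolynomial.homogeneousSubmodule I R 0) (by simp) _
    (fun x _ => one_notMem _ x) (fun x hx => hx)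

theorem gen_rel (i j : I) :
    res (Twist.twist (MvPolynomial.homogeneousSubmodule I R) 1)
      (inf_le_right : Proj.basicOpen (MvPolynomial.homogeneousSubmodule I R) (MvPolynomial.X i) ⊓
        Proj.basicOpen (MvPolynomial.homogeneousSubmodule I R) (MvPolynomial.X j) ≤ _) (gen R j) =
      ores (inf_le_left : Proj.basicOpen (MvPolynomial.homogeneousSubmodule I R) (MvPolynomial.X i) ⊓
        Proj.basicOpen (MvPolynomial.homogeneousSubmodule I R) (MvPolynomial.X j) ≤ _) (ProjStd.ratio I R i j) •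
      res (Twist.twist (MvPolynomial.homogeneousSubmodule I R) 1)
      (inf_le_left : Proj.basicOpen (MvPolynomial.homogeneousSubmodule I R) (MvPolynomial.X i) ⊓
        Proj.basicOpen (MvPolynomial.homogeneousSubmodule I R) (MvPolynomial.X j) ≤ _) (gen R i) := by
  refine Subtype.ext (funext fun x => Subtype.ext ?_)
  refine Eq.trans ?_ (TwistBasic.smulS_val (𝒜 := MvPolynomial.homogeneousSubmodule I R) 1
    (ores (inf_le_left : Proj.basicOpen (MvPolynomial.homogeneousSubmodule I R) (MvPolynomial.X i) ⊓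
        Proj.basicOpen (MvPolynomial.homogeneousSubmodule I R) (MvPolynomial.X j) ≤ _) (ProjStd.ratio I R i j))
    (res (Twist.twist (MvPolynomial.homogeneousSubmodule I R) 1)
      (inf_le_left : Proj.basicOpen (MvPolynomial.homogeneousSubmodule I R) (MvPolynomial.X i) ⊓
        Proj.basicOpen (MvPolynomial.homogeneousSubmodule I R) (MvPolynomial.X j) ≤ _) (gen R i)) x).symm
  have e1 := ProjStd.ratio_apply I R i j ⟨x.1, x.2.1⟩
  refine Eq.trans ?_ (congrArg (fun z => z * Localization.mk (MvPolynomial.X i)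
    (⟨1, one_notMem (MvPolynomial.homogeneousSubmodule I R) x.1⟩ :
      x.1.asHomogeneousIdeal.toIdeal.primeCompl)) e1).symm
  refine Eq.trans ?_ (Localization.mk_mul _ _ _ _).symm
  refine Localization.mk_eq_mk_iff.mpr ((Localization.r_iff_exists).mpr ⟨1, ?_⟩)
  simp
  ring

end twist

section main

attribute [local instance] MvPolynomial.gradedAlgebra

variable {X Y P₀ T : Scheme.{u}}

theorem ores_appLE (φ : X ⟶ Y) {V : Y.Opens} {U W : X.Opens} (hU : U ≤ φ ⁻¹ᵁ V) (hW : W ≤ U) (z : Γ(Y, V)) :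
    ores hW (φ.appLE V U hU z) = φ.appLE V W (hW.trans hU) z := by
  have := Scheme.Hom.appLE_map φ hU (homOfLE hW).op
  exact congr(($this).hom z)

theorem app_app_eq_appLE {Z : Scheme.{u}} (φ : X ⟶ Y) (ψ : Y ⟶ Z) (χ : X ⟶ Z) (h : φ ≫ ψ = χ) (V : Z.Opens)
    (e : φ ⁻¹ᵁ (ψ ⁻¹ᵁ V) ≤ χ ⁻¹ᵁ V) (z : Γ(Z, V)) :
    φ.app (ψ ⁻¹ᵁ V) (ψ.app V z) = χ.appLE V (φ ⁻¹ᵁ (ψ ⁻¹ᵁ V)) e z := by
  subst h
  rw [Scheme.Hom.comp_appLE, Scheme.Hom.app_eq_appLE]
  rfl

theorem map_appTop_eq {q q' : X ⟶ Y} (h : q' = q) {U W : X.Opens} (hWU : W ≤ U) (b : Γ(Y, ⊤)) :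
    (X.presheaf.map (homOfLE (le_top : W ≤ ⊤)).op (q'.appTop b) : Γ(X, W)) =
      ores hWU (ores (le_top : U ≤ q ⁻¹ᵁ ⊤) (q.app ⊤ b)) := by
  subst h
  rw [ores_ores]
  rfl

theorem pullSec_rel {P : Scheme.{u}} (f : X ⟶ P) {N : P.Modules} {V W : P.Opens} (r : Γ(P, V)) (a : Γ(N, V))
    (b : Γ(N, W)) (h : res N (inf_le_right : V ⊓ W ≤ W) b =
      ores (inf_le_left : V ⊓ W ≤ V) r • res N (inf_le_left : V ⊓ W ≤ V) a) :
    res ((Scheme.Modules.pullback f).obj N) (inf_le_right : f ⁻¹ᵁ V ⊓ f ⁻¹ᵁ W ≤ f ⁻¹ᵁ W) (pullSec f b) =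
      ores (inf_le_left : f ⁻¹ᵁ V ⊓ f ⁻¹ᵁ W ≤ f ⁻¹ᵁ V) (f.app V r) •
      res ((Scheme.Modules.pullback f).obj N) (inf_le_left : f ⁻¹ᵁ V ⊓ f ⁻¹ᵁ W ≤ f ⁻¹ᵁ V) (pullSec f a) := by
  have h1 := congrArg (pullSec f) h
  rw [pullSec_smul, ← res_pullSec, ← res_pullSec] at h1
  refine h1.trans ?_
  congr 1
  have := f.naturality (homOfLE (inf_le_left : V ⊓ W ≤ V)).op
  exact congr(($this).hom r)

theorem closure_eq_top_of_le {U W : X.Opens} (h : W = U) (S : Set Γ(X, U)) (hS : Subring.closure S = ⊤)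
    (S' : Set Γ(X, W)) (hSS' : ∀ a ∈ S, ores h.le a ∈ Subring.closure S') : Subring.closure S' = ⊤ := by
  subst h
  rw [eq_top_iff, ← hS, Subring.closure_le]
  intro a ha
  simpa using hSS' a ha

/-- Criterion for very ampleness relative to an affine base. -/
theorem isRelVeryAmplePn_of_sections [IsAffine Y] (q : X ⟶ Y) (M : X.Modules) {n : ℕ}
    (s : Fin (n + 1) → (Coh.structureModule X ⟶ M)) (K : Set (Fin (n + 1)))
    (hcov : ⨆ j : K, CohB1.genLocus M (s j) = ⊤) (haff : ∀ j : K, IsAffineOpen (CohB1.genLocus M (s j)))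
    (hgen : ∀ j : K, Subring.closure
      ({a : Γ(X, CohB1.genLocus M (s j)) | ∃ k, sec (s k) (CohB1.genLocus M (s j)) =
        a • sec (s j) (CohB1.genLocus M (s j))} ∪
        Set.range (fun r : Γ(Y, ⊤) => ores (le_top : CohB1.genLocus M (s j) ≤ q ⁻¹ᵁ ⊤) (q.app ⊤ r))) = ⊤) :
    RelAmple.IsRelVeryAmplePn q M := by
  have hcov' : ⨆ j, CohB1.genLocus M (s j) = ⊤ := by
    rw [eq_top_iff, ← hcov]
    exact iSup_le fun j => le_iSup (fun j => CohB1.genLocus M (s j)) j.1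
  let D : CoordData X (Fin (n + 1)) := PnMap.coordData s hcov'
  let p : X ⟶ Spec (CommRingCat.of (ULift.{u} ℤ)) := specULiftZIsTerminal.from X
  let φ : X ⟶ CohB1.ProjSpace n (ULift.{u} ℤ) := D.toProjSpace p
  let g : X ⟶ CohB1.ProjSpaceOver n Y := pullback.lift φ q (specULiftZIsTerminal.hom_ext _ _)
  have hg1 : g ≫ pullback.fst (CohB1.ProjSpace.toSpec n (ULift.{u} ℤ)) (specULiftZIsTerminal.from Y) = φ :=
    pullback.lift_fst _ _ _
  have hg2 : g ≫ pullback.snd (CohB1.ProjSpace.toSpec n (ULift.{u} ℤ)) (specULiftZIsTerminal.from Y) = q :=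
    pullback.lift_snd _ _ _
  let D₀ : Fin (n + 1) → (CohB1.ProjSpace n (ULift.{u} ℤ)).Opens := fun k =>
    Proj.basicOpen (MvPolynomial.homogeneousSubmodule (Fin (n + 1)) (ULift.{u} ℤ)) (MvPolynomial.X k)
  have hD₀ : ∀ k, φ ⁻¹ᵁ D₀ k = CohB1.genLocus M (s k) := fun k =>
    D.preimage_basicOpen (fun i k => PnMap.basicOpen_ratio s i k) p k
  let V : Fin (n + 1) → (CohB1.ProjSpaceOver n Y).Opens := fun k =>
    pullback.fst (CohB1.ProjSpace.toSpec n (ULift.{u} ℤ)) (specULiftZIsTerminal.from Y) ⁻¹ᵁ D₀ k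
  have hV : ∀ k, g ⁻¹ᵁ V k = CohB1.genLocus M (s k) := by
    intro k
    rw [← hD₀ k, ← hg1]
    rfl
  let r₀ : ∀ i, Fin (n + 1) → Γ(CohB1.ProjSpace n (ULift.{u} ℤ), D₀ i) := fun i j =>
    ProjStd.ratio (Fin (n + 1)) (ULift.{u} ℤ) i j
  let r : ∀ i, Fin (n + 1) → Γ(CohB1.ProjSpaceOver n Y, V i) := fun i j =>
    (pullback.fst (CohB1.ProjSpace.toSpec n (ULift.{u} ℤ)) (specULiftZIsTerminal.from Y)).app (D₀ i) (r₀ i j)
  have hratio : ∀ i j, g.app (V i) (r i j) = ores (hV i).le (PnMap.ratio s i j) := by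
    intro i j
    have h1 : PnMap.ratio s i j = φ.appLE (D₀ i) (CohB1.genLocus M (s i)) (hD₀ i).ge (r₀ i j) :=
      (PnMap.appLE_ratio D p i j (hD₀ i).ge).symm
    rw [h1, ores_appLE]
    exact app_app_eq_appLE g _ φ hg1 (D₀ i) _ (r₀ i j)
  refine ⟨n, g, ?_, hg2, ?_⟩
  · -- immersion
    refine ImmCrit.isImmersion_of_affine_family g (ι := K) (fun k => V k) (fun k => ?_) (fun k => ?_) ?_
      (fun k => ?_)
    · exact ImmCrit.isAffineOpen_fst_preimage _ _ _ (Proj.isAffineOpen_basicOpen _ _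
        (MvPolynomial.isHomogeneous_X _ _ : MvPolynomial.X (k : Fin (n + 1)) ∈
          MvPolynomial.homogeneousSubmodule (Fin (n + 1)) (ULift.{u} ℤ) 1) Nat.one_pos)
    · rw [hV]; exact haff k
    · rw [← hcov]
      exact iSup_congr fun k => hV k
    · refine ImmCrit.app_surjective_of_closure _ _ g (D₀ k) ?_
      have hWk : (g ≫ pullback.fst (CohB1.ProjSpace.toSpec n (ULift.{u} ℤ)) (specULiftZIsTerminal.from Y)) ⁻¹ᵁ
          (D₀ k) = CohB1.genLocus M (s k) := hV k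
      refine closure_eq_top_of_le hWk _ (hgen k) _ ?_
      rintro a (⟨j, ha⟩ | ⟨b, rfl⟩)
      · have h1 : a = PnMap.ratio s k j := by
          apply (isGen_sec_genLocus (s k)).ext
          rw [← ha, ← PnMap.ratio_spec]
        rw [h1]
        refine Subring.subset_closure (Or.inl ⟨r₀ k j, ?_⟩)
        refine Eq.trans ?_ (hratio k j)
        rfl
      · refine Subring.subset_closure (Or.inr ⟨b, ?_⟩)
        exact map_appTop_eq hg2 hWk.le b
  · have hr : ∀ i j, res (Twist.twistOver n Y 1) (inf_le_right : V i ⊓ V j ≤ V j)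
        (pullSec (pullback.fst (CohB1.ProjSpace.toSpec n (ULift.{u} ℤ)) (specULiftZIsTerminal.from Y))
          (gen (ULift.{u} ℤ) j)) =
        ores (inf_le_left : V i ⊓ V j ≤ V i) (r i j) • res (Twist.twistOver n Y 1) (inf_le_left : V i ⊓ V j ≤ V i)
        (pullSec (pullback.fst (CohB1.ProjSpace.toSpec n (ULift.{u} ℤ)) (specULiftZIsTerminal.from Y))
          (gen (ULift.{u} ℤ) i)) := by
      intro i j
      exact pullSec_rel (pullback.fst (CohB1.ProjSpace.toSpec n (ULift.{u} ℤ)) (specULiftZIsTerminal.from Y))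
        (r₀ i j) (gen (ULift.{u} ℤ) i) (gen (ULift.{u} ℤ) j) (gen_rel (R := ULift.{u} ℤ) i j)
    have hcV : ⨆ i, g ⁻¹ᵁ V i = ⊤ := by
      rw [← hcov']
      exact iSup_congr fun k => hV k
    obtain ⟨e⟩ := PnMap.pullback_iso_of_ratio g (N := Twist.twistOver n Y 1) (M := M) V
      (fun i => pullSec _ (gen (ULift.{u} ℤ) i)) (fun i => (isGen_gen i).pullSec _) r hr s hcV
      (fun i => (hV i).le) (by
        intro i j
        rw [hratio, ← PnMap.ratio_spec_le s i j (hV i).le])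
    exact ⟨e.symm⟩

end main

end Groth.Agent.Ega2.VeryAmpleCrit
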